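import Groth.Agent.DCohShriek.Supp
import Groth.Agent.S1001
import Groth.Agent.S1002
import Groth.Agent.S1006
import Groth.Agent.S1039

/-!
# Supports: proper morphisms
-/

set_option autoImplicit false
set_option backward.isDefEq.respectTransparency false
set_option backward.isDefEq.respectTransparency.types false
set_option linter.style.haveILetI false

universe u

open CategoryTheory Limits Pretriangulated AlgebraicGeometry

attribute [local instance] HasDerivedCategory.standard

namespace Groth.Agent.DCohShriek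

open Groth.Agent.DQCoh (RD)
open Groth.Agent.PerfGen

variable {X Y : Scheme.{u}}

theorem fin'_some (f : X ⟶ Y) [IsNoetherian Y] [IsProper f] [DCoh.HasRpush f] (c : ℤ) : Fin' (some c) f := by
  intro P hP
  refine Or.inr ⟨rfl, fun m => ?_⟩
  haveI : IsLocallyNoetherian X := LocallyOfFiniteType.isLocallyNoetherian f
  haveI : CompactSpace X := QuasiCompact.compactSpace_of_compactSpace f
  haveI : IsNoetherian X := {}
  obtain ⟨hcoh, a, b, ha, hb⟩ := S1006.result X P hP
  haveI := ha
  haveI := hb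
  haveI : IsProper (𝟙 X ≫ f) := by rw [Category.id_comp]; infer_instance
  obtain ⟨hc, -, b', hb'⟩ := S1001.result f P a b hcoh fun i =>
    ClSubLib.isProperOver_of_subset f (𝟙 X) _
      (haveI : (DCoh.HD P i).IsQuasicoherent := (hcoh i).1
       QC.isClosed_support (hcoh i).2) (fun x _ => ⟨x, rfl⟩)
  exact (S1039.result Y _ (fun i => (hc i).1) m).2 ⟨fun i _ => hc i, b', hb'⟩

theorem fin'_none (f : X ⟶ Y) [IsProper f] [Flat f] [LocallyOfFinitePresentation f] [DCoh.HasRpush f] :
    Fin' none f := fun P hP => Or.inl (S1002.result f P hP)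

lemma isZero_RD_iff_restrict (V : Y.Opens) (E : DCoh.D Y) :
    IsZero ((RD V.ι).obj E) ↔ ∀ i, IsZero ((DCoh.HD E i).restrict V.ι) := by
  refine ⟨fun h i => ((DerivedCategory.homologyFunctor _ i).map_isZero h).of_iso (hdRD V.ι E i).symm, fun h => ?_⟩
  refine (isZero_RD_iff _ E).2 fun i x hx ⟨y, hy⟩ => ?_
  subst hy
  have h1 : y ∈ CohB1.support ((Scheme.Modules.restrictFunctor V.ι).obj (DCoh.HD E i)) := by
    rw [support_restrict]; exact hx
  exact (mem_support_iff _ y).1 h1 ((DerSch.stalkFunctor _ y).map_isZero (h i))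

theorem supported {o : Option ℤ} [CompactSpace Y] [QuasiSeparatedSpace Y] (f : X ⟶ Y) [QuasiCompact f]
    [QuasiSeparated f] [DCoh.HasRpush f] {hf : DCoh.RpushPreservesQCoh f} {a : DCoh.DQCoh Y ⥤ DCoh.DQCoh X}
    (adj : DCoh.RpushQ f hf ⊣ a) (hfin : Fin' o f) (V : Y.Opens) (Q : DCoh.DQCoh Y) (hb : Bdd o Q.obj)
    (hQV : ∀ i : ℤ, IsZero ((DCoh.HD Q.obj i).restrict V.ι)) (i : ℤ) :
    IsZero ((DCoh.HD (a.obj Q).obj i).restrict (f ⁻¹ᵁ V).ι) :=
  (isZero_RD_iff_restrict _ _).1 (isZero_RD_adjoint f adj hfin V Q hb ((isZero_RD_iff_restrict _ _).2 hQV)) i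

end Groth.Agent.DCohShriek
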