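import Groth.Agent.DQPush.Basic
import Groth.Agent.PerfGen.QCohTri
import Groth.Agent.PerfGen.Extend
import Mathlib

/-!
# The right adjoint of `Rf_*` respects lower bounds up to a shift
-/

set_option autoImplicit false
set_option backward.isDefEq.respectTransparency false
set_option backward.isDefEq.respectTransparency.types false
set_option linter.style.haveILetI false

universe u

open CategoryTheory Limits Pretriangulated AlgebraicGeometry

attribute [local instance] HasDerivedCategory.standard

namespace Groth.Agent.DCohShriek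

variable {X Y : Scheme.{u}}

/-- `τ_{≤ n}` of an object of `D_QCoh` -/
theorem exists_truncLE (A : DCoh.D X) (hA : DCoh.IsQCohD A) (n : ℤ) :
    ∃ (L : DCoh.D X) (τ : L ⟶ A), DCoh.IsQCohD L ∧ L.IsLE n ∧
      ∀ i : ℤ, i ≤ n → IsIso ((DerivedCategory.homologyFunctor X.Modules i).map τ) := by
  let t : Triangulated.TStructure (DCoh.D X) := DerivedCategory.TStructure.t
  let H := DerivedCategory.homologyFunctor X.Modules
  have hT := t.triangleLEGE_distinguished n (n + 1) rfl A
  have hR : ((t.truncGE (n + 1)).obj A).IsGE (n + 1) := t.isGE_truncGE_obj A _ _ le_rfl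
  have hRz := (DerivedCategory.isGE_iff _ _).1 hR
  have hL : ((t.truncLE n).obj A).IsLE n := t.isLE_truncLE_obj A n n le_rfl
  have hiso : ∀ i : ℤ, i ≤ n → IsIso ((H i).map ((t.truncLEι n).app A)) := fun i hi => by
    haveI : Mono ((H i).map ((t.truncLEι n).app A)) :=
      (DerivedCategory.HomologySequence.exact₁ _ hT (i - 1) i (by omega)).mono_g
        ((hRz (i - 1) (by omega)).eq_of_src _ _)
    haveI : Epi ((H i).map ((t.truncLEι n).app A)) :=
      (DerivedCategory.HomologySequence.exact₂ _ hT i).epi_f ((hRz i (by omega)).eq_of_tgt _ _)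
    exact isIso_of_mono_of_epi _
  refine ⟨_, (t.truncLEι n).app A, fun i => ?_, hL, hiso⟩
  by_cases hi : i ≤ n
  · haveI := hiso i hi
    exact QC.isQCoh_of_iso (asIso ((H i).map ((t.truncLEι n).app A))).symm (hA i)
  · exact DQCoh.isQCoh_of_isZero ((DerivedCategory.isLE_iff _ n).1 hL i (by omega))

/-- maps from very negative to positive vanish -/
theorem eq_zero_of_le_ge {A B : DCoh.D Y} {a b : ℤ} (hab : a < b)
    (hA : ∀ i : ℤ, a < i → IsZero (DCoh.HD A i)) (hB : ∀ i : ℤ, i < b → IsZero (DCoh.HD B i)) (φ : A ⟶ B) :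
    φ = 0 := by
  let t : Triangulated.TStructure (DCoh.D Y) := DerivedCategory.TStructure.t
  haveI : t.IsLE A a := (DerivedCategory.isLE_iff A a).2 fun i hi => hA i (by omega)
  haveI : t.IsGE B b := (DerivedCategory.isGE_iff B b).2 fun i hi => hB i hi
  exact t.zero φ a b hab

end Groth.Agent.DCohShriek
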