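import Groth.Agent.DCohShriek.Section
import Groth.Agent.DCohShriek.SuppApps
import Groth.Agent.S1767
import Groth.Agent.Compactif.Basic

/-!
# The upper shriek functor on bounded below objects does not depend on the compactification
-/

set_option autoImplicit false
set_option backward.isDefEq.respectTransparency false
set_option backward.isDefEq.respectTransparency.types false
set_option linter.style.haveILetI false
set_option linter.unusedSectionVars false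

universe u

open CategoryTheory Limits AlgebraicGeometry

attribute [local instance] HasDerivedCategory.standard

namespace Groth.Agent.DCohShriek

open Groth.Agent.DQCoh (RD)

variable {X Y : Scheme.{u}}

lemma bdd_of_isGE {M : DCoh.D X} {n : ℤ} (h : DerivedCategory.IsGE M n) : Bdd (some n) M := fun c hc i hi => by
  cases hc
  haveI := h
  exact DerivedCategory.isZero_of_isGE _ n i hi

/-- the right adjoint preserves boundedness below -/
theorem exists_bdd_adjoint [CompactSpace X] [QuasiSeparatedSpace X] [CompactSpace Y] [QuasiSeparatedSpace Y]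
    (p : X ⟶ Y) [DCoh.HasRpush p] {hp : DCoh.RpushPreservesQCoh p} {a : DCoh.DQCoh Y ⥤ DCoh.DQCoh X}
    (adj : DCoh.RpushQ p hp ⊣ a) (K : DCoh.DQCoh Y) (n : ℤ) (hK : DerivedCategory.IsGE K.obj n) :
    ∃ m : ℤ, DerivedCategory.IsGE (a.obj K).obj m := by
  obtain ⟨N, hN⟩ := S1767.result X Y p hp a adj
  refine ⟨n - 1 - N, (DerivedCategory.isGE_iff _ _).2 fun i hi => hN K (n - 1) (fun j hj => ?_) i (by omega)⟩
  exact bdd_of_isGE hK n rfl j (by omega)

lemma isNoetherian_of_isSepFT {S : Scheme.{u}} [IsNoetherian S] (p : X ⟶ S) [Dual3.IsSepFT p] : IsNoetherian X := by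
  haveI : IsLocallyNoetherian X := LocallyOfFiniteType.isLocallyNoetherian p
  haveI : CompactSpace X := QuasiCompact.compactSpace_of_compactSpace p
  exact {}

lemma isNoetherian_of_proper [IsNoetherian Y] (p : X ⟶ Y) [IsProper p] : IsNoetherian X := by
  haveI : IsLocallyNoetherian X := LocallyOfFiniteType.isLocallyNoetherian p
  haveI : CompactSpace X := QuasiCompact.compactSpace_of_compactSpace p
  exact {}

/-- **independence of the compactification** -/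
theorem nonempty_shriek_iso [IsNoetherian Y] [CompactSpace X] [QuasiSeparatedSpace X] {f : X ⟶ Y}
    (c₁ c₂ : DEt.Compactification f) [DCoh.HasRpush c₁.fbar] [DCoh.HasRpush c₂.fbar]
    {h₁ : DCoh.RpushPreservesQCoh c₁.fbar} {h₂ : DCoh.RpushPreservesQCoh c₂.fbar}
    {a₁ : DCoh.DQCoh Y ⥤ DCoh.DQCoh c₁.Xbar} {a₂ : DCoh.DQCoh Y ⥤ DCoh.DQCoh c₂.Xbar}
    (adj₁ : DCoh.RpushQ c₁.fbar h₁ ⊣ a₁) (adj₂ : DCoh.RpushQ c₂.fbar h₂ ⊣ a₂) :
    Nonempty (Dual3.bddι Y ⋙ a₁ ⋙ ObjectProperty.ι _ ⋙ RD c₁.j ≅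
      Dual3.bddι Y ⋙ a₂ ⋙ ObjectProperty.ι _ ⋙ RD c₂.j) := by
  haveI := isNoetherian_of_proper c₁.fbar
  haveI := isNoetherian_of_proper c₂.fbar
  obtain ⟨c, p₁, p₂, hp₁, hp₂, hj₁, hj₂, hf₁, hf₂⟩ := Compactif.exists_dominating c₁ c₂
  haveI := hp₁
  haveI := hp₂
  haveI := isNoetherian_of_proper c.fbar
  haveI : DCoh.HasRpush p₁ := DerPush.hasRpush_sch p₁
  haveI : DCoh.HasRpush p₂ := DerPush.hasRpush_sch p₂
  haveI : DCoh.HasRpush c.fbar := DerPush.hasRpush_sch c.fbar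
  have hq₁ : DCoh.RpushPreservesQCoh p₁ := fun K hK => DQPush.isQCohD_rpush p₁ hK
  have hq₂ : DCoh.RpushPreservesQCoh p₂ := fun K hK => DQPush.isQCohD_rpush p₂ hK
  have hq : DCoh.RpushPreservesQCoh c.fbar := fun K hK => DQPush.isQCohD_rpush c.fbar hK
  haveI := isLeftAdjoint_rpushQ p₁ hq₁
  haveI := isLeftAdjoint_rpushQ p₂ hq₂
  let b₁ := (DCoh.RpushQ p₁ hq₁).rightAdjoint
  let b₂ := (DCoh.RpushQ p₂ hq₂).rightAdjoint
  let adjb₁ : DCoh.RpushQ p₁ hq₁ ⊣ b₁ := Adjunction.ofIsLeftAdjoint _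
  let adjb₂ : DCoh.RpushQ p₂ hq₂ ⊣ b₂ := Adjunction.ofIsLeftAdjoint _
  let e : a₁ ⋙ b₁ ≅ a₂ ⋙ b₂ :=
    ((adjb₁.comp adj₁).ofNatIsoLeft (rpushQComp p₁ c₁.fbar c.fbar hf₁ hq₁ h₁ hq).symm).rightAdjointUniq
      ((adjb₂.comp adj₂).ofNatIsoLeft (rpushQComp p₂ c₂.fbar c.fbar hf₂ hq₂ h₂ hq).symm)
  obtain ⟨e₁⟩ := nonempty_iso_of_section p₁ adjb₁ c.j c₁.j hj₁ (Dual3.bddι Y ⋙ a₁) (fun K => by
    obtain ⟨n, hn⟩ := K.property
    obtain ⟨m, hm⟩ := exists_bdd_adjoint c₁.fbar adj₁ K.obj n hn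
    exact ⟨some m, fin'_some p₁ m, bdd_of_isGE hm⟩)
  obtain ⟨e₂⟩ := nonempty_iso_of_section p₂ adjb₂ c.j c₂.j hj₂ (Dual3.bddι Y ⋙ a₂) (fun K => by
    obtain ⟨n, hn⟩ := K.property
    obtain ⟨m, hm⟩ := exists_bdd_adjoint c₂.fbar adj₂ K.obj n hn
    exact ⟨some m, fin'_some p₂ m, bdd_of_isGE hm⟩)
  exact ⟨e₁.symm ≪≫ Functor.isoWhiskerLeft (Dual3.bddι Y)
    (Functor.isoWhiskerRight e (ObjectProperty.ι _ ⋙ RD c.j)) ≪≫ e₂⟩

/-- the upper shriek functor of an open immersion -/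
theorem nonempty_shriek_openImmersion [IsNoetherian Y] [CompactSpace X] {f : X ⟶ Y} [IsOpenImmersion f]
    (c : DEt.Compactification f) [DCoh.HasRpush c.fbar] {hc : DCoh.RpushPreservesQCoh c.fbar}
    {a : DCoh.DQCoh Y ⥤ DCoh.DQCoh c.Xbar} (adj : DCoh.RpushQ c.fbar hc ⊣ a) :
    Nonempty (Dual3.bddι Y ⋙ a ⋙ ObjectProperty.ι _ ⋙ RD c.j ≅ Dual3.bddι Y ⋙ ObjectProperty.ι _ ⋙ RD f) := by
  haveI := isNoetherian_of_proper c.fbar
  exact nonempty_iso_of_section c.fbar adj c.j f c.fac (Dual3.bddι Y) (fun K => by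
    obtain ⟨n, hn⟩ := K.property
    exact ⟨some n, fin'_some c.fbar n, bdd_of_isGE hn⟩)

end Groth.Agent.DCohShriek
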