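import Groth.Agent.DCohShriek.PnCoh
import Groth.Agent.DCohShriek.Compact
import Groth.Agent.PerfGen.PnFlat
import Groth.Agent.K0Coh.Basic
import Groth.Agent.QC.Pullback

/-!
# The right adjoint of `Rf_*` for a proper `f` preserves bounded below coherent objects
-/

set_option autoImplicit false
set_option backward.isDefEq.respectTransparency false
set_option backward.isDefEq.respectTransparency.types false
set_option linter.style.haveILetI false
set_option linter.unusedSectionVars false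

universe u

open CategoryTheory Limits AlgebraicGeometry

attribute [local instance] HasDerivedCategory.standard

namespace Groth.Agent.DCohShriek

open Groth.Agent.DQCoh (RD rdComp rdCongr)
open Groth.Agent.PerfGen

variable {U V X Y : Scheme.{u}}

lemma isCoh_restrictFunctor (j : U ⟶ X) [IsOpenImmersion j] {M : X.Modules} (hM : Coh.IsCoh M) :
    Coh.IsCoh ((Scheme.Modules.restrictFunctor j).obj M) :=
  isCoh_iso ((Scheme.Modules.restrictFunctorIsoPullback j).app M).symm (QC.isCoh_pullback j hM)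

lemma coh_RD (j : U ⟶ X) [IsOpenImmersion j] {E : DCoh.D X} (i : ℤ) (h : Coh.IsCoh (DCoh.HD E i)) :
    Coh.IsCoh (DCoh.HD ((RD j).obj E) i) :=
  isCoh_iso (hdRD j E i).symm (isCoh_restrictFunctor j h)

lemma coh_HD_iso {E F : DCoh.D X} (e : E ≅ F) (i : ℤ) (h : Coh.IsCoh (DCoh.HD E i)) :
    Coh.IsCoh (DCoh.HD F i) :=
  isCoh_iso ((DerivedCategory.homologyFunctor _ i).mapIso e) h

/-- coherence of cohomology is local -/
lemma coh_of_cover {E : DCoh.D X} (i : ℤ) (h : ∀ x : X, ∃ (T : Scheme.{u}) (j : T ⟶ X) (_ : IsOpenImmersion j),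
    x ∈ Set.range j.base ∧ Coh.IsCoh (DCoh.HD ((RD j).obj E) i)) : Coh.IsCoh (DCoh.HD E i) := by
  refine K0Coh.isCoh_of_local fun x => ?_
  obtain ⟨T, j, hj, hx, hT⟩ := h x
  haveI := hj
  refine ⟨j.opensRange, hx, ?_⟩
  have h' := coh_HD_iso ((rdCongr (j.isoOpensRange_inv_comp).symm ≪≫ rdComp j.isoOpensRange.inv j).app E).symm i
    (coh_RD j.isoOpensRange.inv i hT)
  exact isCoh_iso (hdRD _ E i) h'

lemma zero_RD (j : U ⟶ X) [IsOpenImmersion j] {E : DCoh.D X} (c : ℤ) (hc : ∀ i, i < c → IsZero (DCoh.HD E i))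
    (i : ℤ) (hi : i < c) : IsZero (DCoh.HD ((RD j).obj E) i) :=
  ((Scheme.Modules.restrictFunctor j).map_isZero (hc i hi)).of_iso (hdRD j E i)

section Base

set_option maxHeartbeats 800000 in
/-- reduction to an affine base -/
theorem nonempty_iso_affineBase [IsNoetherian Y] (f : X ⟶ Y) [IsProper f] [DCoh.HasRpush f]
    {hf : DCoh.RpushPreservesQCoh f} {a : DCoh.DQCoh Y ⥤ DCoh.DQCoh X} (adj : DCoh.RpushQ f hf ⊣ a)
    (K : DCoh.DQCoh Y) (c : ℤ) (hc : ∀ i, i < c → IsZero (DCoh.HD K.obj i)) (W : Y.Opens) (hW : IsAffineOpen W)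
    [DCoh.HasRpush ((f ∣_ W) ≫ hW.isoSpec.hom)]
    {hp : DCoh.RpushPreservesQCoh ((f ∣_ W) ≫ hW.isoSpec.hom)}
    {ap : DCoh.DQCoh (Spec Γ(Y, W)) ⥤ DCoh.DQCoh (f ⁻¹ᵁ W)}
    (adjp : DCoh.RpushQ ((f ∣_ W) ≫ hW.isoSpec.hom) hp ⊣ ap) :
    Nonempty ((RD (f ⁻¹ᵁ W).ι).obj (a.obj K).obj ≅ (ap.obj ((rdQ hW.fromSpec).obj K)).obj) := by
  haveI := isNoetherian_of_proper f
  haveI : IsProper (f ∣_ W) := MorphismProperty.of_isPullback (isPullback_morphismRestrict f W).flip ‹_›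
  have hWc : IsCompact (W : Set Y) := hW.isCompact
  haveI : CompactSpace W := isCompact_iff_compactSpace.1 hWc
  haveI : QuasiSeparatedSpace W := quasiSeparatedSpace_of_quasiSeparated W.ι
  haveI : CompactSpace (f ⁻¹ᵁ W) := isCompact_iff_compactSpace.1 (f.isCompact_preimage hWc)
  haveI : QuasiSeparatedSpace (f ⁻¹ᵁ W) := quasiSeparatedSpace_of_quasiSeparated (f ∣_ W)
  haveI : DCoh.HasRpush (f ∣_ W) := DerPush.hasRpush_sch _
  haveI : DCoh.HasRpush hW.isoSpec.hom := DerPush.hasRpush_sch _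
  have hVq : DCoh.RpushPreservesQCoh (f ∣_ W) := fun E hE => DQPush.isQCohD_rpush (f ∣_ W) hE
  have hgq : DCoh.RpushPreservesQCoh hW.isoSpec.hom := fun E hE => DQPush.isQCohD_rpush hW.isoSpec.hom hE
  haveI := isLeftAdjoint_rpushQ (f ∣_ W) hVq
  let aV := (DCoh.RpushQ (f ∣_ W) hVq).rightAdjoint
  let adjV : DCoh.RpushQ (f ∣_ W) hVq ⊣ aV := Adjunction.ofIsLeftAdjoint _
  haveI : IsIso (thetaApp f adj W adjV K) :=
    isIso_thetaApp f adj W adjV (fin'_some f c) hWc K (fun c' hc' i hi => by cases hc'; exact hc i hi)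
  have hgc : IsClosed (Set.range hW.isoSpec.hom.base) := hW.isoSpec.hom.isClosedEmbedding.isClosed_range
  let e : ap ≅ rdQ hW.isoSpec.hom ⋙ aV := adjp.rightAdjointUniq
    (((adjV.comp (adjClopen hW.isoSpec.hom hgc hgq))).ofNatIsoLeft
      (rpushQComp (f ∣_ W) hW.isoSpec.hom _ rfl hVq hgq hp).symm)
  let κ : (rdQ hW.isoSpec.hom).obj ((rdQ hW.fromSpec).obj K) ≅ (rdQ W.ι).obj K :=
    ObjectProperty.isoMk _ (((rdComp hW.isoSpec.hom hW.fromSpec).symm ≪≫ rdCongr hW.isoSpec_hom_fromSpec).app K.obj)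
  exact ⟨asIso (thetaApp f adj W adjV K) ≪≫
    (ObjectProperty.ι _).mapIso (aV.mapIso κ.symm ≪≫ (e.app _).symm)⟩

end Base

section Affine

lemma isNoetherianRing_Γ [IsLocallyNoetherian Y] {W : Y.Opens} (hW : IsAffineOpen W) : IsNoetherianRing Γ(Y, W) :=
  IsLocallyNoetherian.component_noetherian ⟨W, hW⟩

set_option maxHeartbeats 800000 in
/-- the case of a closed immersion -/
theorem coh_closedImmersion [IsNoetherian Y] (f : X ⟶ Y) [IsClosedImmersion f] [DCoh.HasRpush f]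
    {hf : DCoh.RpushPreservesQCoh f} {a : DCoh.DQCoh Y ⥤ DCoh.DQCoh X} (adj : DCoh.RpushQ f hf ⊣ a)
    (K : DCoh.DQCoh Y) (hK : ∀ i, Coh.IsCoh (DCoh.HD K.obj i)) (c : ℤ)
    (hc : ∀ i, i < c → IsZero (DCoh.HD K.obj i)) (i : ℤ) : Coh.IsCoh (DCoh.HD (a.obj K).obj i) := by
  refine coh_of_cover i fun x => ?_
  obtain ⟨W, hW, hx⟩ := QC.exists_affine_mem (f.base x)
  haveI := isNoetherianRing_Γ hW
  have hU : IsAffineOpen (f ⁻¹ᵁ W) := hW.preimage f
  haveI : IsProper (f ∣_ W) := MorphismProperty.of_isPullback (isPullback_morphismRestrict f W).flip inferInstance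
  let p := (f ∣_ W) ≫ hW.isoSpec.hom
  haveI : IsProper p := inferInstance
  haveI : IsNoetherian (f ⁻¹ᵁ W : Scheme.{u}) := isNoetherian_of_proper p
  haveI : DCoh.HasRpush p := DerPush.hasRpush_sch _
  have hp : DCoh.RpushPreservesQCoh p := fun E hE => DQPush.isQCohD_rpush p hE
  haveI := isLeftAdjoint_rpushQ p hp
  let ap := (DCoh.RpushQ p hp).rightAdjoint
  let adjp : DCoh.RpushQ p hp ⊣ ap := Adjunction.ofIsLeftAdjoint _
  obtain ⟨e⟩ := nonempty_iso_affineBase f adj K c hc W hW adjp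
  let s := hU.isoSpec.inv
  let q := s ≫ p
  haveI : IsProper q := inferInstance
  haveI : DCoh.HasRpush s := DerPush.hasRpush_sch _
  haveI : DCoh.HasRpush q := DerPush.hasRpush_sch _
  have hs : DCoh.RpushPreservesQCoh s := fun E hE => DQPush.isQCohD_rpush s hE
  have hq : DCoh.RpushPreservesQCoh q := fun E hE => DQPush.isQCohD_rpush q hE
  have hsc : IsClosed (Set.range s.base) := s.isClosedEmbedding.isClosed_range
  let adjq : DCoh.RpushQ q hq ⊣ ap ⋙ rdQ s :=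
    ((adjClopen s hsc hs).comp adjp).ofNatIsoLeft (rpushQComp s p q rfl hs hp hq).symm
  refine ⟨_, hU.fromSpec, inferInstance, hU.range_fromSpec.symm ▸ hx, ?_⟩
  refine coh_HD_iso ((RD s).mapIso e.symm ≪≫ ((rdComp s (f ⁻¹ᵁ W).ι).symm ≪≫ rdCongr hU.isoSpec_inv_ι).app _) i ?_
  exact coh_spec_adjoint q adjq ((rdQ hW.fromSpec).obj K) (fun k => coh_RD _ k (hK k)) c
    (fun k hk => zero_RD _ c hc k hk) i

lemma exists_chart_immersion {A B : Type u} [CommRing A] [CommRing B] (φ : A →+* B) (hφ : φ.FiniteType) :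
    ∃ (n : ℕ) (i : Spec (CommRingCat.of B) ⟶ CohB1.ProjSpace n A), IsImmersion i ∧
      i ≫ CohB1.ProjSpace.toSpec n A = Spec.map (CommRingCat.ofHom φ) := by
  letI := φ.toAlgebra
  obtain ⟨n, g, hg⟩ := Algebra.FiniteType.iff_quotient_mvPolynomial''.1 hφ
  obtain ⟨-, hb⟩ := S9576.result n A
  let σ := RingEquiv.ofBijective _ (hb 0)
  let r := MvPolynomial.renameEquiv A (finSuccAboveEquiv (0 : Fin (n + 1))).symm
  let ψ := (g.comp r.toAlgHom).toRingHom.comp σ.symm.toRingHom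
  have hψ : Function.Surjective ψ := (hg.comp r.surjective).comp σ.symm.surjective
  haveI : IsClosedImmersion (Spec.map (CommRingCat.ofHom ψ)) := IsClosedImmersion.spec_of_surjective _ hψ
  let w := Proj.awayι (CohB1.polyGrading n A) (MvPolynomial.X (0 : Fin (n + 1)))
    (MvPolynomial.isHomogeneous_X A 0) one_pos
  refine ⟨n, Spec.map (CommRingCat.ofHom ψ) ≫ w, inferInstance, ?_⟩
  let j₀ := HomogeneousLocalization.fromZeroRingHom (CohB1.polyGrading n A)
    (Submonoid.powers (MvPolynomial.X (0 : Fin (n + 1))))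
  have h1 : w ≫ CohB1.ProjSpace.toSpec n A =
      Spec.map (CommRingCat.ofHom (j₀.comp (algebraMap A (CohB1.polyGrading n A 0)))) := by
    unfold CohB1.ProjSpace.toSpec
    rw [← Category.assoc, Proj.awayι_toSpecZero, ← Spec.map_comp]
    rfl
  rw [Category.assoc, h1, ← Spec.map_comp, ← CommRingCat.ofHom_comp]
  congr 2
  refine RingHom.ext fun a => ?_
  have h2 : σ (MvPolynomial.C a) = j₀ (algebraMap A (CohB1.polyGrading n A 0) a) := MvPolynomial.eval₂Hom_C _ _ a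
  show g (r (σ.symm (j₀ (algebraMap A (CohB1.polyGrading n A 0) a)))) = φ a
  rw [← h2, σ.symm_apply_apply]
  have h3 : (MvPolynomial.C a : MvPolynomial {j : Fin (n + 1) // j ≠ 0} A) =
      algebraMap A (MvPolynomial {j : Fin (n + 1) // j ≠ 0} A) a := rfl
  rw [h3, r.commutes, g.commutes]
  rfl

set_option maxHeartbeats 1600000 in
/-- the case of an affine base -/
theorem coh_affineBase {A : Type u} [CommRing A] [IsNoetherianRing A] (p : X ⟶ Spec (CommRingCat.of A))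
    [IsProper p] [DCoh.HasRpush p] {hp : DCoh.RpushPreservesQCoh p}
    {a : DCoh.DQCoh (Spec (CommRingCat.of A)) ⥤ DCoh.DQCoh X} (adj : DCoh.RpushQ p hp ⊣ a)
    (K : DCoh.DQCoh (Spec (CommRingCat.of A))) (hK : ∀ i, Coh.IsCoh (DCoh.HD K.obj i)) (c : ℤ)
    (hc : ∀ i, i < c → IsZero (DCoh.HD K.obj i)) (i : ℤ) : Coh.IsCoh (DCoh.HD (a.obj K).obj i) := by
  haveI := isNoetherian_of_proper p
  refine coh_of_cover i fun x => ?_
  obtain ⟨U, hU, hx⟩ := QC.exists_affine_mem x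
  let f : Spec Γ(X, U) ⟶ Spec (CommRingCat.of A) := hU.fromSpec ≫ p
  let φ : CommRingCat.of A ⟶ Γ(X, U) := Spec.preimage f
  have hf : Spec.map φ = f := Spec.map_preimage f
  have hft : φ.hom.FiniteType := by
    refine (HasRingHomProperty.Spec_iff (P := @LocallyOfFiniteType)).1 ?_
    rw [hf]
    infer_instance
  obtain ⟨n, k, hk, hkf⟩ := exists_chart_immersion (B := Γ(X, U)) φ.hom hft
  haveI := hk
  let π := CohB1.ProjSpace.toSpec n A
  obtain ⟨hπ, -, -⟩ := proper_flat_lfp n A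
  have hkf' : k ≫ π = f := hkf.trans hf
  let c₁ : DEt.Compactification f := ⟨X, hU.fromSpec, p, inferInstance, inferInstance, rfl⟩
  obtain ⟨c₂, ι, hι, hjι, hιπ⟩ := Compactif.exists_compactification (f := f) π k hkf'
  haveI := hι
  haveI := isNoetherian_of_proper π
  haveI := isNoetherian_of_proper c₂.fbar
  haveI : DCoh.HasRpush π := DerPush.hasRpush_sch _
  haveI : DCoh.HasRpush ι := DerPush.hasRpush_sch _
  haveI : DCoh.HasRpush c₂.fbar := DerPush.hasRpush_sch _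
  haveI : DCoh.HasRpush c₁.fbar := inferInstanceAs (DCoh.HasRpush p)
  have hπq : DCoh.RpushPreservesQCoh π := fun E hE => DQPush.isQCohD_rpush π hE
  have hιq : DCoh.RpushPreservesQCoh ι := fun E hE => DQPush.isQCohD_rpush ι hE
  have hcq : DCoh.RpushPreservesQCoh c₂.fbar := fun E hE => DQPush.isQCohD_rpush c₂.fbar hE
  haveI := isLeftAdjoint_rpushQ π hπq
  haveI := isLeftAdjoint_rpushQ ι hιq
  let aπ := (DCoh.RpushQ π hπq).rightAdjoint
  let adjπ : DCoh.RpushQ π hπq ⊣ aπ := Adjunction.ofIsLeftAdjoint _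
  let aι := (DCoh.RpushQ ι hιq).rightAdjoint
  let adjι : DCoh.RpushQ ι hιq ⊣ aι := Adjunction.ofIsLeftAdjoint _
  obtain ⟨e⟩ := nonempty_shriek_iso c₁ c₂ (h₁ := hp) (h₂ := hcq) (a₁ := a) adj
    ((adjι.comp adjπ).ofNatIsoLeft (rpushQComp ι π c₂.fbar hιπ hιq hπq hcq).symm)
  let K' : (Dual3.IsBddBelowQ (Spec (CommRingCat.of A))).FullSubcategory :=
    ⟨K, c, (DerivedCategory.isGE_iff _ _).2 fun k hk => hc k hk⟩
  obtain ⟨m, hm⟩ := exists_bdd_adjoint π adjπ K c ((DerivedCategory.isGE_iff _ _).2 fun k hk => hc k hk)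
  refine ⟨_, hU.fromSpec, inferInstance, hU.range_fromSpec.symm ▸ hx, ?_⟩
  refine coh_HD_iso (e.app K').symm i (coh_RD c₂.j i ?_)
  exact coh_closedImmersion ι adjι (aπ.obj K) (fun k => coh_pn n A adjπ K hK c hc k) m
    (fun k hk => bdd_of_isGE hm m rfl k hk) i

set_option maxHeartbeats 800000 in
/-- **coherence of `a K`** -/
theorem coh_adjoint [IsNoetherian Y] (f : X ⟶ Y) [IsProper f] [DCoh.HasRpush f]
    {hf : DCoh.RpushPreservesQCoh f} {a : DCoh.DQCoh Y ⥤ DCoh.DQCoh X} (adj : DCoh.RpushQ f hf ⊣ a)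
    (K : DCoh.DQCoh Y) (hK : ∀ i, Coh.IsCoh (DCoh.HD K.obj i)) (c : ℤ)
    (hc : ∀ i, i < c → IsZero (DCoh.HD K.obj i)) (i : ℤ) : Coh.IsCoh (DCoh.HD (a.obj K).obj i) := by
  refine coh_of_cover i fun x => ?_
  obtain ⟨W, hW, hx⟩ := QC.exists_affine_mem (f.base x)
  haveI := isNoetherianRing_Γ hW
  haveI : IsProper (f ∣_ W) := MorphismProperty.of_isPullback (isPullback_morphismRestrict f W).flip ‹_›
  let p := (f ∣_ W) ≫ hW.isoSpec.hom
  haveI : IsProper p := inferInstance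
  haveI : IsNoetherian (f ⁻¹ᵁ W : Scheme.{u}) := isNoetherian_of_proper p
  haveI : DCoh.HasRpush p := DerPush.hasRpush_sch _
  have hp : DCoh.RpushPreservesQCoh p := fun E hE => DQPush.isQCohD_rpush p hE
  haveI := isLeftAdjoint_rpushQ p hp
  let ap := (DCoh.RpushQ p hp).rightAdjoint
  let adjp : DCoh.RpushQ p hp ⊣ ap := Adjunction.ofIsLeftAdjoint _
  obtain ⟨e⟩ := nonempty_iso_affineBase f adj K c hc W hW adjp
  refine ⟨_, (f ⁻¹ᵁ W).ι, inferInstance, by rw [Scheme.Opens.range_ι]; exact hx, coh_HD_iso e.symm i ?_⟩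
  exact coh_affineBase p adjp ((rdQ hW.fromSpec).obj K) (fun k => coh_RD _ k (hK k)) c
    (fun k hk => zero_RD _ c hc k hk) i

end Affine

end Groth.Agent.DCohShriek
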