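import Groth.Agent.DCohShriek.DualizingMain
import Groth.Agent.DualCx.Local
import Groth.Agent.DualCx.Self
import Groth.Agent.DualCx.Apps
import Mathlib.RingTheory.SimpleModule.InjectiveProjective
import Groth.Agent.DimChain.Basic

/-!
# The dualizing complex of a proper scheme over a field
-/

set_option autoImplicit false
set_option maxHeartbeats 1000000
set_option backward.isDefEq.respectTransparency false
set_option backward.isDefEq.respectTransparency.types false
set_option linter.style.haveILetI false
set_option linter.unusedSectionVars false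

universe u

open CategoryTheory Limits AlgebraicGeometry

attribute [local instance] HasDerivedCategory.standard

noncomputable section

namespace Groth.Agent.DCohShriek

open Groth.Agent.DQCoh (RD rdComp rdCongr)
open Groth.Agent.PerfGen
open Groth.Agent.DualCx (T locD Van)

/-- over a ring whose primes are all zero a complex in degree zero has no higher `Ext` -/
theorem subsingleton_T_of_prime_bot {A : Type u} [CommRing A] [IsNoetherianRing A] (hA : ∀ q : PrimeSpectrum A, q.asIdeal = ⊥)
    {ω : Dual.D A} {i : ℤ} (hi : Subsingleton (Dual.HD A ω i)) (M : Type u) [AddCommGroup M] [Module A M] [Module.Finite A M] :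
    Subsingleton (T ω M i) := by
  refine IsNoetherianRing.induction_on_isQuotientEquivQuotientPrime (M := M)
    (motive := fun N _ _ _ => Subsingleton (T ω N i)) A inferInstance ?_ ?_ ?_
  · intro N _ _ _ _
    exact DualCx.subsingleton_of_subsingleton
  · intro N _ _ _ q e
    haveI : Subsingleton (T ω A i) := (DualCx.homEquiv ω i).toEquiv.subsingleton_congr.2 hi
    exact (DualCx.subsingleton_congr (e.trans (Submodule.quotEquivOfEqBot _ (hA q)))).2 inferInstance
  · intro N₁ _ _ _ N₂ _ _ _ N₃ _ _ _ f g hf hg hfg h₁ h₃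
    exact DualCx.SES.subsingleton_mid ⟨hf, hfg, hg⟩ h₁ h₃

variable (k : Type u) [Field k]

/-- charts of the point -/
lemma prime_bot_of_opens (W : (Spec (CommRingCat.of k)).Opens) (q : PrimeSpectrum Γ(Spec (CommRingCat.of k), W)) :
    q.asIdeal = ⊥ := by
  by_cases hW : W = ⊤
  · subst hW
    have hF : IsField Γ(Spec (CommRingCat.of k), ⊤) :=
      MulEquiv.isField (Field.toIsField k) (Scheme.ΓSpecIso (CommRingCat.of k)).commRingCatIsoToRingEquiv.toMulEquiv
    by_contra hq
    obtain ⟨x, hx, hx0⟩ := Submodule.exists_mem_ne_zero_of_ne_bot hq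
    obtain ⟨y, hy⟩ := hF.mul_inv_cancel hx0
    exact q.isPrime.ne_top ((Ideal.eq_top_iff_one _).2 (hy ▸ q.asIdeal.mul_mem_right y hx))
  · have hbot : W = ⊥ := by
      refine TopologicalSpace.Opens.ext (Set.eq_empty_of_forall_notMem fun x hx => hW ?_)
      refine top_le_iff.1 fun y _ => ?_
      rwa [Subsingleton.elim y x]
    subst hbot
    haveI : Subsingleton Γ(Spec (CommRingCat.of k), ⊥) := inferInstance
    exact Subsingleton.elim _ _

lemma isZero_HD_inD {X : Scheme.{u}} (M : X.Modules) {i : ℤ} (hi : i ≠ 0) : IsZero (DCoh.HD (DCoh.inD X M) i) := by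
  rcases lt_or_gt_of_ne hi with h | h
  · exact (DerivedCategory.isGE_iff _ 0).1 inferInstance i h
  · exact (DerivedCategory.isLE_iff _ 0).1 inferInstance i h

lemma subsingleton_T_chart {O : DCoh.D (Spec (CommRingCat.of k))} (e : O ≅ DCoh.inD _ (Coh.structureModule _))
    {i : ℤ} (hi : i ≠ 0) (W : (Spec (CommRingCat.of k)).Opens) (hW : IsAffineOpen W)
    (ω : Dual.D Γ(Spec (CommRingCat.of k), W))
    (eω : Nonempty ((DCoh.restrictD hW.fromSpec).obj O ≅ (DCoh.tildeD Γ(Spec (CommRingCat.of k), W)).obj ω))
    (M : Type u) [AddCommGroup M] [Module Γ(Spec (CommRingCat.of k), W) M]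
    [Module.Finite Γ(Spec (CommRingCat.of k), W) M] : Subsingleton (T ω M i) := by
  haveI := isNoetherianRing_Γ hW
  obtain ⟨f⟩ := DualSch.nonempty_restrict_HD hW.fromSpec eω.some i
  have h0 : IsZero (DCoh.HD O i) :=
    (isZero_HD_inD _ hi).of_iso ((DerivedCategory.homologyFunctor _ i).mapIso e)
  haveI : Subsingleton (Dual.HD Γ(Spec (CommRingCat.of k), W) ω i) :=
    ModuleCat.subsingleton_of_isZero (DQCoh.isZero_of_tilde (R := Γ(Spec (CommRingCat.of k), W))
      (((Scheme.Modules.restrictFunctor hW.fromSpec).map_isZero h0).of_iso f.symm))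
  exact subsingleton_T_of_prime_bot (prime_bot_of_opens k W) inferInstance M

/-- the structure sheaf of a point is dualizing -/
theorem isDualizingSch_point {O : DCoh.D (Spec (CommRingCat.of k))} (e : O ≅ DCoh.inD _ (Coh.structureModule _)) :
    Dual2.IsDualizingSch (Spec (CommRingCat.of k)) O := by
  haveI : ∀ (U V : Scheme.{u}) (j : U ⟶ V) [IsOpenImmersion j],
      PreservesFiniteLimits (Scheme.Modules.restrictFunctor j) := fun U V j _ => inferInstance
  refine DualSch.isDualizingSch_of_cover O PUnit.{u + 1} (fun _ => k) (fun _ => 𝟙 _)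
    (fun x => ⟨PUnit.unit, x, rfl⟩) fun _ => ⟨Dual.inD k k, ?_, ⟨?_⟩⟩
  · haveI : Injective (ModuleCat.of k k) :=
      (Module.injective_iff_injective_object k k).1 (Module.injective_of_isSemisimpleRing k k)
    haveI : HasInjectiveDimensionLT (ModuleCat.of k k) 1 := inferInstance
    exact DualCx.isDualizing_self 1
  · exact (rdId _).app O ≪≫ e ≪≫
      (DerivedCategory.singleFunctor _ 0).mapIso (tildeSelf (R := CommRingCat.of k)).symm ≪≫
      (((tilde.functor (CommRingCat.of k)).mapDerivedCategorySingleFunctor 0).app (ModuleCat.of k k)).symm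

section Local

variable {X : Scheme.{u}}
  [∀ (U V : Scheme.{u}) (j : U ⟶ V) [IsOpenImmersion j], PreservesFiniteLimits (Scheme.Modules.restrictFunctor j)]

/-- the prime of the localization below a prime below `m` -/
lemma exists_prime_loc {B : Type u} [CommRing B] (m : Ideal B) [m.IsMaximal] (q : PrimeSpectrum B) (h : q.asIdeal ≤ m) :
    ∃ q' : PrimeSpectrum (Localization.AtPrime m),
      q'.asIdeal.comap (algebraMap B (Localization.AtPrime m)) = q.asIdeal := by
  have hd : Disjoint (m.primeCompl : Set B) (q.asIdeal : Set B) := Set.disjoint_left.2 fun b hb hb' => hb (h hb')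
  exact ⟨⟨_, IsLocalization.isPrime_of_isPrime_disjoint m.primeCompl (Localization.AtPrime m) q.asIdeal q.isPrime hd⟩,
    IsLocalization.comap_map_of_isPrime_disjoint m.primeCompl (Localization.AtPrime m) q.isPrime hd⟩

set_option maxHeartbeats 2000000 in
/-- the degrees of the dualizing complex of a proper scheme over a field -/
theorem stalk_amplitude [IsNoetherian X] (f : X ⟶ Spec (CommRingCat.of k)) [IsProper f] [DCoh.HasRpush f]
    {hf : DCoh.RpushPreservesQCoh f} {a : DCoh.DQCoh (Spec (CommRingCat.of k)) ⥤ DCoh.DQCoh X}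
    (adj : DCoh.RpushQ f hf ⊣ a) (O : DCoh.DQCoh (Spec (CommRingCat.of k)))
    (e : O.obj ≅ DCoh.inD _ (Coh.structureModule _)) (d : ℕ) (hd : topologicalKrullDim X ≤ (d : ℕ))
    (i : ℤ) (r : ℕ) (y : Fin (r + 1) → X) (hy : DimChain.IsChainSpec y)
    (hS : Nontrivial ((DCoh.HD (a.obj O).obj i).presheaf.stalk (y (Fin.last r)))) :
    (r : ℤ) ≤ -i ∧ -(d : ℤ) ≤ i := by
  obtain ⟨z, hz, hzc⟩ := (isClosed_closure (s := ({y 0} : Set X))).exists_closed_singleton ⟨y 0, subset_closure rfl⟩
  obtain ⟨B, _, j, _, ν, m, hm, hnoe, -, hjm, ⟨eν⟩, hdual, hnorm⟩ :=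
    exists_chart_closed f adj O (isDualizingSch_point k e) z hzc
  haveI := hnoe
  have hspec : ∀ t : Fin (r + 1), y t ⤳ z := fun t => by
    induction t using Fin.induction with
    | zero => exact specializes_iff_mem_closure.2 hz
    | succ t ih => exact (hy t).1.trans ih
  have hmem : ∀ t, ∃ q : PrimeSpectrum B, j q = y t := fun t =>
    (hspec t).mem_open j.isOpenEmbedding.isOpen_range ⟨_, hjm⟩
  choose q hq using hmem
  have hlem : ∀ t, (q t).asIdeal ≤ m := fun t => by
    refine (PrimeSpectrum.le_iff_specializes (q t) ⟨m, hm.isPrime⟩).2 (j.isOpenEmbedding.isInducing.specializes_iff.1 ?_)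
    rw [hq t, hjm]
    exact hspec t
  let L := Localization.AtPrime m
  let φ := algebraMap B L
  haveI : IsNoetherianRing L := IsLocalization.isNoetherianRing m.primeCompl L inferInstance
  haveI : Module.Flat B L := IsLocalization.flat L m.primeCompl
  let w := (locD φ).obj ν
  have hn : Dual.IsNormalized L w := fun i hi =>
    hnorm i fun W hW ω hω M _ _ _ => subsingleton_T_chart k e hi W hW ω hω M
  choose p hp using fun t => exists_prime_loc m (q t) (hlem t)
  have hlt : ∀ t : Fin r, p t.succ < p t.castSucc := fun t => by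
    have h1 : q t.succ ≤ q t.castSucc := by
      rw [PrimeSpectrum.le_iff_specializes]
      refine j.isOpenEmbedding.isInducing.specializes_iff.1 ?_
      rw [hq, hq]
      exact (hy t).1
    have h2 : p t.succ ≤ p t.castSucc := by
      intro x hx
      obtain ⟨b, s, rfl⟩ := IsLocalization.exists_mk'_eq m.primeCompl x
      rw [IsLocalization.mk'_mem_iff] at hx ⊢
      have hb : b ∈ (q t.succ).asIdeal := by rw [← hp]; exact hx
      have hb' : b ∈ (p t.castSucc).asIdeal.comap φ := by rw [hp]; exact h1 hb
      exact hb'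
    refine lt_of_le_of_ne h2 fun he => (hy t).2 ?_
    rw [← hq, ← hq, show q t.succ = q t.castSucc from PrimeSpectrum.ext (by rw [← hp, ← hp, he])]
  have hdel : ∀ t : Fin (r + 1), ((t : ℕ) : ℤ) ≤ DualCx.del hdual (p t) := fun t => by
    induction t using Fin.induction with
    | zero =>
      have h1 := DualCx.del_le hdual (show p 0 ≤ IsLocalRing.closedPoint L from
        IsLocalRing.le_maximalIdeal (p 0).isPrime.ne_top)
      rw [DualCx.del_closed hdual hn] at h1
      simpa using h1
    | succ t ih =>
      have h1 := DualCx.del_lt hdual (hlt t)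
      simp only [Fin.val_succ, Fin.val_castSucc] at ih ⊢
      push_cast
      omega
  have hvan : ¬ Van w (p (Fin.last r)).asIdeal L i := by
    rw [DualCx.van_self_iff, not_subsingleton_iff_nontrivial]
    rw [← hq (Fin.last r), DualSch.nontrivial_HD_stalk_iff j eν] at hS
    rw [← not_subsingleton_iff_nontrivial, LocalizedModule.subsingleton_iff] at hS ⊢
    intro hall
    refine hS fun x => ?_
    let g := DualCx.locHD φ ν i
    obtain ⟨c, hc, hcx⟩ := hall (g.inv.hom (DualCx.unit1 φ _ x))
    obtain ⟨b, s, rfl⟩ := IsLocalization.exists_mk'_eq m.primeCompl c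
    have hb : b ∉ (q (Fin.last r)).asIdeal := by
      intro hb
      refine hc ((IsLocalization.mk'_mem_iff).2 ?_)
      have hb' : b ∈ (p (Fin.last r)).asIdeal.comap φ := by rw [hp]; exact hb
      exact hb'
    have h1 : φ b • g.inv.hom (DualCx.unit1 φ _ x) = 0 := by
      rw [← IsLocalization.mk'_spec' L b s, mul_smul, hcx, smul_zero]
    rw [← map_smul, ← DualCx.unit1_smul] at h1
    have h2 : DualCx.unit1 φ _ (b • x) = 0 := by
      have h3 := congrArg g.hom.hom h1
      rwa [map_zero, CategoryTheory.Iso.inv_hom_id_apply] at h3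
    obtain ⟨t, ht, htx⟩ := DualCx.exists_smul_eq_zero (φ := φ) m.primeCompl h2
    refine ⟨t * b, fun hmem => ?_, by rw [mul_smul]; exact htx⟩
    exact ((q (Fin.last r)).isPrime.mem_or_mem hmem).elim (fun h => ht (hlem _ h)) hb
  obtain ⟨p', -, hp'le, h1, h2⟩ := DualCx.exists_of_not_van hdual hvan
  have h3 := hdel (Fin.last r)
  simp only [Fin.val_last] at h3
  refine ⟨by omega, ?_⟩
  have hdimL : ringKrullDim L ≤ (d : ℕ) := by
    rw [IsLocalization.AtPrime.ringKrullDim_eq_height m L]
    refine (Ideal.height_le_ringKrullDim_of_ne_top hm.ne_top).trans ?_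
    rw [← PrimeSpectrum.topologicalKrullDim_eq_ringKrullDim]
    exact (Topology.IsInducing.topologicalKrullDim_le j.isOpenEmbedding.isInducing).trans hd
  have h4 := DualCx.ringKrullDim_quotient_eq hdual hn p'
  have h5 : ((DualCx.del hdual p').toNat : WithBot ℕ∞) ≤ (d : ℕ) :=
    h4 ▸ (ringKrullDim_quotient_le p'.asIdeal).trans hdimL
  have h6 : (DualCx.del hdual p').toNat ≤ d := by exact_mod_cast h5
  omega

/-- **the amplitude of the dualizing complex and the dimension of the supports** -/
theorem amplitude [IsNoetherian X] (f : X ⟶ Spec (CommRingCat.of k)) [IsProper f] [DCoh.HasRpush f]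
    {hf : DCoh.RpushPreservesQCoh f} {a : DCoh.DQCoh (Spec (CommRingCat.of k)) ⥤ DCoh.DQCoh X}
    (adj : DCoh.RpushQ f hf ⊣ a) (O : DCoh.DQCoh (Spec (CommRingCat.of k)))
    (e : O.obj ≅ DCoh.inD _ (Coh.structureModule _)) (d : ℕ) (hd : topologicalKrullDim X ≤ (d : ℕ)) :
    (∀ i : ℤ, (i < -(d : ℤ) ∨ 0 < i) → IsZero (DCoh.HD (a.obj O).obj i)) ∧
      ∀ (i : ℤ) (n : ℕ), (n : ℤ) = -i →
        topologicalKrullDim {x : X | Nontrivial ((DCoh.HD (a.obj O).obj i).presheaf.stalk x)} ≤ (n : WithBot ℕ∞) := by
  have hK := isDualizingSch_point k e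
  have hcoh : ∀ i, Coh.IsCoh (DCoh.HD (a.obj O).obj i) := fun i =>
    DualSch.isCoh_HD (isDualizingSch_adjoint f adj O hK) i
  refine ⟨fun i hi => KFlat.isZero_of_stalks _ fun x => ?_, fun i n hn => iSup_le fun s => ?_⟩
  · by_contra hz
    have hx : Nontrivial ((DCoh.HD (a.obj O).obj i).presheaf.stalk x) :=
      not_subsingleton_iff_nontrivial.1 ((PerfGen.mem_support_iff _ x).2 hz)
    obtain ⟨h1, h2⟩ := stalk_amplitude k f adj O e d hd i 0 (fun _ => x) (fun t => t.elim0) hx
    omega
  · let S := {x : X | Nontrivial ((DCoh.HD (a.obj O).obj i).presheaf.stalk x)}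
    have hS : IsClosed S := by
      have : S = CohB1.support (DCoh.HD (a.obj O).obj i) :=
        Set.ext fun x => not_subsingleton_iff_nontrivial.symm
      rw [this]
      exact QC.isClosed_support (hcoh i).2
    have hirr : ∀ t, IsIrreducible (Subtype.val '' (s t : Set S)) := fun t =>
      (s t).isIrreducible.image _ continuous_subtype_val.continuousOn
    have hcl : ∀ t, IsClosed (Subtype.val '' (s t : Set S)) := fun t =>
      hS.isClosedEmbedding_subtypeVal.isClosedMap _ (s t).isClosed
    let y : Fin (s.length + 1) → X := fun t => (hirr t).genericPoint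
    have hy : ∀ t, closure ({y t} : Set X) = Subtype.val '' (s t : Set S) := fun t =>
      (hirr t).closure_genericPoint (hcl t)
    have hchain : DimChain.IsChainSpec y := fun t => by
      have hlt : s t.castSucc < s t.succ := s.step t
      refine ⟨specializes_iff_mem_closure.2 ?_, fun he => ?_⟩
      · rw [hy]
        exact Set.image_mono (SetLike.coe_subset_coe.2 hlt.le) ((hy t.castSucc) ▸ subset_closure rfl)
      · refine hlt.ne (TopologicalSpace.IrreducibleCloseds.ext (Subtype.val_injective.image_injective ?_))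
        rw [← hy, ← hy, he]
    have hlast : y (Fin.last s.length) ∈ S := by
      obtain ⟨w, -, hw⟩ := (hy (Fin.last _)).le (subset_closure rfl)
      rw [← hw]; exact w.2
    obtain ⟨h1, -⟩ := stalk_amplitude k f adj O e d hd i s.length y hchain hlast
    exact_mod_cast (show s.length ≤ n by omega)

end Local

end Groth.Agent.DCohShriek
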