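import Groth.Agent.CohDerRoofs.Trunc
import Groth.Agent.HDU.Tower
import Mathlib.CategoryTheory.Triangulated.TStructure.TruncLEGT

/-!
# Maps from `D^{≤ 0}` to `D^{≥ 0}` are maps of `H^0`
-/

set_option autoImplicit false
set_option backward.isDefEq.respectTransparency false
set_option backward.isDefEq.respectTransparency.types false
set_option linter.style.haveILetI false
universe w v u

open CategoryTheory Limits Pretriangulated DerivedCategory

namespace Groth.Agent.DCohShriek

variable {A : Type u} [Category.{v} A] [Abelian A] [HasDerivedCategory.{w} A]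

local notation "H₀" => DerivedCategory.homologyFunctor A 0

lemma exists_heart_map (M N : A) (g : (H₀).obj ((singleFunctor A 0).obj M) ⟶ (H₀).obj ((singleFunctor A 0).obj N)) :
    ∃ v, (H₀).map ((singleFunctor A 0).map v) = g := by
  let s := singleFunctorCompHomologyFunctorIso A 0
  exact ⟨s.inv.app M ≫ g ≫ s.hom.app N, (NatIso.naturality_2 s _).symm.trans (by simp)⟩

/-- an object of `D^{≤ 0}` maps to an object of the heart with the same `H^0` -/
lemma exists_to_heart (X : DerivedCategory A) [X.IsLE 0] :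
    ∃ (M : A) (π : X ⟶ (singleFunctor A 0).obj M), IsIso ((H₀).map π) := by
  let t : Triangulated.TStructure (DerivedCategory A) := TStructure.t
  let X' := (t.truncGE 0).obj X
  haveI : X'.IsGE 0 := t.isGE_truncGE_obj X 0 0 le_rfl
  haveI : X'.IsLE 0 := (isLE_iff _ _).2 fun i hi => by
    haveI := HDU.isIso_H_truncGEπ X 0 i (by omega)
    exact (DerivedCategory.isZero_of_isLE X 0 i hi).of_iso
      (asIso ((DerivedCategory.homologyFunctor A i).map ((t.truncGEπ 0).app X))).symm
  obtain ⟨M, ⟨e⟩⟩ := DerivedCategory.exists_iso_singleFunctor_obj_of_isGE_of_isLE X' 0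
  haveI := HDU.isIso_H_truncGEπ X 0 0 le_rfl
  exact ⟨M, (t.truncGEπ 0).app X ≫ e.hom, by rw [Functor.map_comp]; infer_instance⟩

/-- an object of `D^{≥ 0}` receives a map from an object of the heart with the same `H^0` -/
lemma exists_from_heart (Y : DerivedCategory A) [Y.IsGE 0] :
    ∃ (N : A) (ι : (singleFunctor A 0).obj N ⟶ Y), IsIso ((H₀).map ι) := by
  let t : Triangulated.TStructure (DerivedCategory A) := TStructure.t
  let L := (t.truncLE 0).obj Y
  haveI : L.IsLE 0 := t.isLE_truncLE_obj Y 0 0 le_rfl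
  have hT := t.triangleLEGE_distinguished 0 1 rfl Y
  have hR : ((t.truncGE 1).obj Y).IsGE 1 := t.isGE_truncGE_obj Y 1 1 le_rfl
  haveI : L.IsGE 0 := (isGE_iff _ _).2 fun i hi =>
    (DerivedCategory.HomologySequence.exact₁ _ hT (i - 1) i (by omega)).isZero_X₂
      ((DerivedCategory.isZero_of_isGE ((t.truncGE 1).obj Y) 1 (i - 1) (by omega)).eq_of_src _ _)
      ((DerivedCategory.isZero_of_isGE Y 0 i hi).eq_of_tgt _ _)
  obtain ⟨N, ⟨e⟩⟩ := DerivedCategory.exists_iso_singleFunctor_obj_of_isGE_of_isLE L 0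
  haveI : Mono ((H₀).map ((t.truncLEι 0).app Y)) :=
    (DerivedCategory.HomologySequence.exact₁ _ hT (-1) 0 (by omega)).mono_g
      ((DerivedCategory.isZero_of_isGE ((t.truncGE 1).obj Y) 1 (-1) (by omega)).eq_of_src _ _)
  haveI : Epi ((H₀).map ((t.truncLEι 0).app Y)) :=
    (DerivedCategory.HomologySequence.exact₂ _ hT 0).epi_f
      ((DerivedCategory.isZero_of_isGE ((t.truncGE 1).obj Y) 1 0 (by omega)).eq_of_tgt _ _)
  haveI : IsIso ((H₀).map ((t.truncLEι 0).app Y)) := isIso_of_mono_of_epi _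
  exact ⟨N, e.inv ≫ (t.truncLEι 0).app Y, by rw [Functor.map_comp]; infer_instance⟩

/-- **maps from `D^{≤ 0}` to `D^{≥ 0}`** -/
theorem homH_bijective (X Y : DerivedCategory A) [X.IsLE 0] [Y.IsGE 0] :
    Function.Bijective fun v : X ⟶ Y => (H₀).map v := by
  refine ⟨fun v w h => ?_, fun g => ?_⟩
  · rw [← sub_eq_zero]
    exact CohDerRoofs.eq_zero_of_homology_eq_zero 0 _ (by
      rw [Functor.map_sub, sub_eq_zero]; exact h)
  · obtain ⟨M, π, hπ⟩ := exists_to_heart X
    obtain ⟨N, ι, hι⟩ := exists_from_heart Y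
    obtain ⟨v, hv⟩ := exists_heart_map M N (inv ((H₀).map π) ≫ g ≫ inv ((H₀).map ι))
    exact ⟨π ≫ (singleFunctor A 0).map v ≫ ι, by simp [hv]⟩

end Groth.Agent.DCohShriek
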