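import Groth.Agent.DCohShriek.ExtH
import Groth.Agent.DCohShriek.HeartHom
import Groth.Agent.DCohShriek.CoherentMain
import Groth.Agent.DCohShriek.DualizingField
import Groth.Agent.SerrePn.Basic
import Groth.Agent.W7FlatBC.Sections
import Groth.Agent.RPushSite.SingleHomology

/-!
# The dualizing module of a proper scheme over an affine base
-/

set_option autoImplicit false
set_option backward.isDefEq.respectTransparency false
set_option backward.isDefEq.respectTransparency.types false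
set_option linter.style.haveILetI false
set_option linter.unusedSectionVars false
set_option synthInstance.maxHeartbeats 100000
set_option maxHeartbeats 800000

universe u

open CategoryTheory Limits Pretriangulated AlgebraicGeometry Opposite

attribute [local instance] HasDerivedCategory.standard

noncomputable section

namespace Groth.Agent.DCohShriek

open Groth.Agent.PerfGen

local instance hasExt_sheafOfModules (X : Scheme.{u}) : HasExt.{u} (SheafOfModules.{u} X.ringCatSheaf) :=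
  inferInstanceAs (HasExt.{u} X.Modules)

/-! ### cohomology as maps in the derived category -/

section HH

variable {X : Scheme.{u}}

/-- `H^d(X, F) = Hom(O_X, F[d])` -/
def hhHomEquiv (F : X.Modules) (d : ℕ) :
    Coh.HH X F d ≃+ (DCoh.inD X (Coh.structureModule X) ⟶ (DCoh.inD X F)⟦(d : ℤ)⟧) :=
  (ExtH.cmpEquiv (R := X.ringCatSheaf) F d).symm.trans Abelian.Ext.homAddEquiv

lemma hhHomEquiv_natural {F G : X.Modules} (φ : F ⟶ G) (d : ℕ) (x : Coh.HH X F d) :
    hhHomEquiv G d (Sheaf.H.map ((SheafOfModules.toSheaf X.ringCatSheaf).map φ) d x) =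
      hhHomEquiv F d x ≫ ((DerivedCategory.singleFunctor X.Modules 0).map φ)⟦(d : ℤ)⟧' := by
  obtain ⟨y, rfl⟩ : ∃ y, ExtH.cmpEquiv (R := X.ringCatSheaf) F d y = x :=
    ⟨_, (ExtH.cmpEquiv (R := X.ringCatSheaf) F d).apply_symm_apply x⟩
  have h : ExtH.cmpEquiv (R := X.ringCatSheaf) G d (y.comp (Abelian.Ext.mk₀ φ) (add_zero d)) =
      Sheaf.H.map ((SheafOfModules.toSheaf X.ringCatSheaf).map φ) d (ExtH.cmpEquiv (R := X.ringCatSheaf) F d y) :=
    ExtH.cmp_natural (R := X.ringCatSheaf) φ d y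
  simp only [hhHomEquiv, AddEquiv.trans_apply]
  rw [← h, AddEquiv.symm_apply_apply, AddEquiv.symm_apply_apply]
  show (y.comp (Abelian.Ext.mk₀ φ) (add_zero d)).hom = y.hom ≫ _
  rw [Abelian.Ext.comp_hom, Abelian.Ext.mk₀_hom, ShiftedHom.comp_mk₀]
  rfl

variable {A : Type u} [CommRing A] [X.Over (Spec (CommRingCat.of A))]

lemma hhHomEquiv_smul (F : X.Modules) (d : ℕ) (a : A) (x : Coh.HH X F d) :
    hhHomEquiv F d (a • x) = a • hhHomEquiv F d x := by
  have h1 : a • x = Sheaf.H.map ((SheafOfModules.toSheaf X.ringCatSheaf).map (a • 𝟙 F)) d x := by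
    rw [KLin.smul_def, Category.comp_id]
    show _ = Sheaf.H.map (CohFinite.toAbMap (Formal.smulMod A F a)) d x
    rw [SerrePn.toAbMap_smulMod]
    rfl
  rw [h1, hhHomEquiv_natural, Functor.map_smul, CategoryTheory.Functor.map_id, Functor.map_smul,
    CategoryTheory.Functor.map_id, Linear.comp_smul, Category.comp_id]

/-- `H^d(X, F) = Hom(O_X, F[d])`, linearly -/
def hhHomLinearEquiv (F : X.Modules) (d : ℕ) :
    Coh.HH X F d ≃ₗ[A] (DCoh.inD X (Coh.structureModule X) ⟶ (DCoh.inD X F)⟦(d : ℤ)⟧) :=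
  { hhHomEquiv F d with map_smul' := hhHomEquiv_smul F d }

lemma isQCohD_inD {M : X.Modules} (hM : Coh.IsQCoh M) : DCoh.IsQCohD (DCoh.inD X M) := fun i => by
  by_cases hi : i = 0
  · subst hi
    exact QC.isQCoh_of_iso ((DerivedCategory.singleFunctorCompHomologyFunctorIso X.Modules 0).app M).symm hM
  · exact DQCoh.isQCoh_of_isZero (isZero_HD_inD M hi)

lemma subsingleton_sections_of_hh [QuasiCompact (X ↘ Spec (CommRingCat.of A))]
    [QuasiSeparated (X ↘ Spec (CommRingCat.of A))] [HasInjectiveResolutions X.Modules] (F : X.Modules)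
    (hF : Coh.IsQCoh F) (p : ℕ) (h : Subsingleton (Coh.HH X F p)) :
    IsZero ((Coh.Rpush (X ↘ Spec (CommRingCat.of A)) p).obj F) := by
  obtain ⟨e, -⟩ := W7FlatBC.exists_rpush_top A F hF p
  let R : (Spec (CommRingCat.of A)).Modules := (Coh.Rpush (X ↘ Spec (CommRingCat.of A)) p).obj F
  haveI : R.IsQuasicoherent := RPushQC.isQCoh_rpush _ F hF p
  haveI : Subsingleton Γ(R, ⊤) := e.toEquiv.subsingleton
  haveI : Subsingleton ((modulesSpecToSheaf.obj R).presheaf.obj (op ⊤)) :=
    inferInstanceAs (Subsingleton Γ(R, ⊤))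
  exact IsZero.of_iso ((tilde.functor (CommRingCat.of A)).map_isZero (ModuleCat.isZero_of_subsingleton _))
    (QC.isoTildeΓ (R := CommRingCat.of A) R).symm

end HH

/-! ### evaluation at the unit -/

section Ev

variable (A : Type u) [CommRing A]

/-- the unit in degree zero -/
abbrev unitD : Dual.D A := (DerivedCategory.singleFunctor (ModuleCat.{u} A) 0).obj (ModuleCat.of A A)

/-- maps out of the unit -/
def evUnit (K : Dual.D A) : (unitD A ⟶ K) ≃ₗ[A] Dual.HD A K 0 :=
  WContr.DC.evEquiv (R := A) (ModuleCat.of A A) K ≪≫ₗ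
    (ModuleCat.homLinearEquiv (S := A)).trans (LinearMap.ringLmapEquivSelf A A _)

lemma evUnit_comp {K L : Dual.D A} (x : unitD A ⟶ K) (g : K ⟶ L) :
    evUnit A L (x ≫ g) = ((DerivedCategory.homologyFunctor (ModuleCat.{u} A) 0).map g).hom (evUnit A K x) := by
  show (WContr.DC.evH _ L (x ≫ g)).hom (1 : A) = _
  rw [WContr.DC.evH_comp]
  rfl

variable {A}

/-- linear maps of `H^0` come from unique maps in the derived category -/
theorem existsUnique_hom (K L : Dual.D A) [K.IsLE 0] [L.IsGE 0]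
    (l : (unitD A ⟶ K) →ₗ[A] Dual.HD A L 0) : ∃! g : K ⟶ L, ∀ x, evUnit A L (x ≫ g) = l x := by
  obtain ⟨g, hg : (DerivedCategory.homologyFunctor (ModuleCat.{u} A) 0).map g = _⟩ :=
    (homH_bijective K L).2 (ModuleCat.ofHom (l.comp (evUnit A K).symm.toLinearMap))
  refine ⟨g, fun x => ?_, fun g' hg' => (homH_bijective K L).1 ?_⟩
  · rw [evUnit_comp, hg]
    exact congrArg l ((evUnit A K).symm_apply_apply x)
  · show (DerivedCategory.homologyFunctor (ModuleCat.{u} A) 0).map g' = (DerivedCategory.homologyFunctor (ModuleCat.{u} A) 0).map g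
    rw [hg]
    refine ModuleCat.hom_ext (LinearMap.ext fun y => ?_)
    obtain ⟨x, rfl⟩ := (evUnit A K).surjective y
    rw [← evUnit_comp, hg']
    exact (congrArg l ((evUnit A K).symm_apply_apply x)).symm

end Ev

/-! ### the functor to `D(A)` -/

section Main

variable {A : Type u} [CommRing A] {X : Scheme.{u}} [X.Over (Spec (CommRingCat.of A))]
  [IsNoetherianRing A] [IsProper (X ↘ Spec (CommRingCat.of A))] [DCoh.HasRpush (X ↘ Spec (CommRingCat.of A))]
  {hf : DCoh.RpushPreservesQCoh (X ↘ Spec (CommRingCat.of A))}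
  {a : DCoh.DQCoh (Spec (CommRingCat.of A)) ⥤ DCoh.DQCoh X}
  (adj : DCoh.RpushQ (X ↘ Spec (CommRingCat.of A)) hf ⊣ a)

local notation "fX" => X ↘ Spec (CommRingCat.of A)

variable (hf) in
/-- `RΓ(X, -)` as a functor to `D(A)` -/
abbrev gammaD : DCoh.DQCoh X ⥤ Dual.D A := DCoh.RpushQ (fX) hf ⋙ (tildeQ A).asEquivalence.inverse

/-- the adjunction -/
def gammaAdj : gammaD hf ⊣ tildeQ A ⋙ a := adj.comp (tildeQ A).asEquivalence.symm.toAdjunction

instance additive_gammaD : (gammaD (X := X) hf).Additive := by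
  haveI := additive_rpush (fX)
  haveI : (DCoh.RpushQ (fX) hf).Additive :=
    ⟨fun {M N g g'} => InducedCategory.hom_ext ((DCoh.Rpush (fX)).map_add)⟩
  haveI : (tildeQ A).Additive := ⟨fun {M N g g'} => InducedCategory.hom_ext ((DCoh.tildeD (CommRingCat.of A)).map_add)⟩
  haveI : (tildeQ A).asEquivalence.functor.Additive := ‹(tildeQ A).Additive›
  haveI := (tildeQ A).asEquivalence.inverse_additive
  infer_instance

instance linear_gammaD : (gammaD (X := X) hf).Linear A := by
  haveI : (fX).IsOver (Spec (CommRingCat.of A)) := isOver_spec (fX)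
  haveI := additive_rpush (fX)
  haveI := linear_rpush (A := A) (fX)
  haveI : (DCoh.RpushQ (fX) hf).Additive :=
    ⟨fun {M N g g'} => InducedCategory.hom_ext ((DCoh.Rpush (fX)).map_add)⟩
  haveI : (DCoh.RpushQ (fX) hf).Linear A :=
    ⟨fun {M N} g r => InducedCategory.hom_ext (Functor.map_smul (F := DCoh.Rpush (fX)) r g.hom)⟩
  haveI : (DCoh.tildeD (CommRingCat.of A)).Linear A :=
    inferInstanceAs ((tilde.functor (CommRingCat.of A)).mapDerivedCategory.Linear A)
  haveI : (tildeQ A).Additive := ⟨fun {M N g g'} => InducedCategory.hom_ext ((DCoh.tildeD (CommRingCat.of A)).map_add)⟩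
  haveI : (tildeQ A).Linear A :=
    ⟨fun {M N} g r => InducedCategory.hom_ext (Functor.map_smul (F := DCoh.tildeD (CommRingCat.of A)) r g)⟩
  haveI : (tildeQ A).asEquivalence.functor.Additive := ‹(tildeQ A).Additive›
  haveI : (tildeQ A).asEquivalence.functor.Linear A := ‹(tildeQ A).Linear A›
  haveI := (tildeQ A).asEquivalence.inverse_additive
  infer_instance

variable (A X) in
/-- `O_X` in `D_QCoh` -/
abbrev unitX : DCoh.DQCoh X := ⟨DCoh.inD X (Coh.structureModule X), isQCohD_inD (QC.isQCoh_unit X)⟩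

theorem exists_unit_map : ∃ σ : unitD A ⟶ (gammaD hf).obj (unitX X),
    ∀ G : DCoh.DQCoh X, Function.Bijective fun x : unitX X ⟶ G => σ ≫ (gammaD hf).map x := by
  haveI := KFlat.hasLpull (fX)
  obtain ⟨adj'⟩ := DerPush.nonempty_lpull_adj_rpush (fX)
  obtain ⟨u⟩ := PerfPush.nonempty_lpull_unit (fX)
  let T := DCoh.tildeD (CommRingCat.of A)
  let eO : T.obj (unitD A) ≅ DCoh.inD (Spec (CommRingCat.of A)) (Coh.structureModule _) :=
    ((tilde.functor (CommRingCat.of A)).mapDerivedCategorySingleFunctor 0).app (ModuleCat.of A A) ≪≫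
      (DerivedCategory.singleFunctor _ 0).mapIso (tildeSelf (R := CommRingCat.of A))
  let η₀ : DCoh.inD (Spec (CommRingCat.of A)) (Coh.structureModule _) ⟶
      (DCoh.Rpush (fX)).obj (DCoh.inD X (Coh.structureModule X)) :=
    adj'.unit.app _ ≫ (DCoh.Rpush (fX)).map u.hom
  let η : (tildeQ A).obj (unitD A) ⟶ (DCoh.RpushQ (fX) hf).obj (unitX X) := ObjectProperty.homMk (eO.hom ≫ η₀)
  let E := (tildeQ A).asEquivalence
  refine ⟨E.unitIso.hom.app (unitD A) ≫ E.inverse.map η, fun G => ?_⟩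
  have h1 : Function.Bijective fun x : DCoh.inD X (Coh.structureModule X) ⟶ G.obj =>
      η₀ ≫ (DCoh.Rpush (fX)).map x := by
    have : (fun x : DCoh.inD X (Coh.structureModule X) ⟶ G.obj => η₀ ≫ (DCoh.Rpush (fX)).map x) =
        (adj'.homEquiv _ G.obj) ∘ fun x => u.hom ≫ x := funext fun x => by
      simp [η₀, Adjunction.homEquiv_unit]
    rw [this]
    exact (Equiv.bijective _).comp u.symm.homFromEquiv.bijective
  have h2 : Function.Bijective fun x : unitX X ⟶ G => η ≫ (DCoh.RpushQ (fX) hf).map x := by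
    refine ⟨fun x y h => InducedCategory.hom_ext (h1.1 ((cancel_epi eO.hom).1 ?_)), fun z => ?_⟩
    · simpa [η] using congrArg InducedCategory.Hom.hom h
    · obtain ⟨x, hx⟩ := h1.2 (eO.inv ≫ z.hom)
      refine ⟨ObjectProperty.homMk x, InducedCategory.hom_ext ?_⟩
      show (eO.hom ≫ η₀) ≫ (DCoh.Rpush (fX)).map x = z.hom
      have hx' : η₀ ≫ (DCoh.Rpush (fX)).map x = eO.inv ≫ z.hom := hx
      rw [Category.assoc, hx', Iso.hom_inv_id_assoc]
  have : (fun x : unitX X ⟶ G => (E.unitIso.hom.app (unitD A) ≫ E.inverse.map η) ≫ (gammaD hf).map x) =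
      (fun w => E.unitIso.hom.app (unitD A) ≫ w) ∘ (fun v => E.inverse.map v) ∘
        fun x : unitX X ⟶ G => η ≫ (DCoh.RpushQ (fX) hf).map x := funext fun x => by
      simp
      rfl
  rw [this]
  exact (E.unitIso.app (unitD A)).symm.homFromEquiv.bijective.comp
    (((Functor.FullyFaithful.ofFullyFaithful E.inverse).map_bijective _ _).comp h2)

/-- `F[d]` in `D_QCoh` -/
abbrev shiftQ (F : X.Modules) (hF : Coh.IsQCoh F) (d : ℕ) : DCoh.DQCoh X :=
  ⟨(DCoh.inD X F)⟦(d : ℤ)⟧, isQCohD_shift (isQCohD_inD hF) _⟩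

variable (hf) in
/-- `H^d(X, F) = Hom(A, RΓ(F[d]))` -/
theorem exists_hh_gamma (d : ℕ) :
    ∃ β : ∀ (F : X.Modules) (hF : Coh.IsQCoh F), Coh.HH X F d ≃ₗ[A] (unitD A ⟶ (gammaD hf).obj (shiftQ F hF d)),
      ∀ (F G : X.Modules) (hF : Coh.IsQCoh F) (hG : Coh.IsQCoh G) (φ : F ⟶ G) (x : Coh.HH X F d),
        β G hG (Sheaf.H.map ((SheafOfModules.toSheaf X.ringCatSheaf).map φ) d x) =
          β F hF x ≫ (gammaD hf).map (ObjectProperty.homMk
            (((DerivedCategory.singleFunctor X.Modules 0).map φ)⟦(d : ℤ)⟧')) := by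
  obtain ⟨σ, hσ⟩ := exists_unit_map (hf := hf)
  let l : ∀ (F : X.Modules) (hF : Coh.IsQCoh F), Coh.HH X F d →ₗ[A] (unitD A ⟶ (gammaD hf).obj (shiftQ F hF d)) :=
    fun F hF =>
    { toFun := fun x => σ ≫ (gammaD hf).map (ObjectProperty.homMk (hhHomEquiv F d x))
      map_add' := fun x y => by
        rw [← Preadditive.comp_add, ← Functor.map_add, map_add]
        rfl
      map_smul' := fun r x => by
        rw [RingHom.id_apply, ← Linear.comp_smul, ← Functor.map_smul, hhHomEquiv_smul]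
        rfl }
  have hl : ∀ (F : X.Modules) (hF : Coh.IsQCoh F), Function.Bijective (l F hF) := fun F hF => by
    refine ⟨fun x y h => (hhHomEquiv F d).injective (congrArg InducedCategory.Hom.hom ((hσ _).1 h)), fun z => ?_⟩
    obtain ⟨w, hw⟩ := (hσ (shiftQ F hF d)).2 z
    refine ⟨(hhHomEquiv F d).symm w.hom, ?_⟩
    show σ ≫ (gammaD hf).map (ObjectProperty.homMk (hhHomEquiv F d ((hhHomEquiv F d).symm w.hom))) = z
    rw [AddEquiv.apply_symm_apply]
    exact hw
  refine ⟨fun F hF => LinearEquiv.ofBijective (l F hF) (hl F hF), fun F G hF hG φ x => ?_⟩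
  show σ ≫ (gammaD hf).map _ = (σ ≫ (gammaD hf).map _) ≫ _
  rw [Category.assoc, ← Functor.map_comp]
  exact congrArg (fun z => σ ≫ (gammaD hf).map z) (InducedCategory.hom_ext (hhHomEquiv_natural φ d x))

variable (d : ℕ) (hvan : ∀ (F : X.Modules), Coh.IsQCoh F → ∀ p : ℕ, d < p → Subsingleton (Coh.HH X F p))

include hvan in
/-- `Rf_*(F[n])` lives in degrees `≤ d - n` -/
theorem isZero_HD_rpush_shift (F : X.Modules) (hF : Coh.IsQCoh F) (n i : ℤ) (hi : (d : ℤ) < n + i) :
    IsZero (DCoh.HD ((DCoh.Rpush (fX)).obj ((DCoh.inD X F)⟦n⟧)) i) := by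
  haveI := DQPush.hasInj X
  haveI : HasInjectiveResolutions (ModSite.Mod X.sheaf) := DQPush.hasInj X
  haveI : SiteCmp.HasRpushD (ModSite.RMor.ofScheme (fX)) := ‹DCoh.HasRpush (fX)›
  obtain ⟨p, hp⟩ := Int.eq_ofNat_of_zero_le (show (0 : ℤ) ≤ n + i by omega)
  obtain ⟨e⟩ := RPushSite.nonempty_homology_single (ModSite.RMor.ofScheme (fX)) F p
  refine IsZero.of_iso (IsZero.of_iso (subsingleton_sections_of_hh (A := A) F hF p (hvan F hF p (by omega))) e)
    ((DerivedCategory.homologyFunctor _ i).mapIso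
      ((RPushSite.shiftIso (ModSite.RMor.ofScheme (fX)) n).app (DCoh.inD X F)) ≪≫
      ((DerivedCategory.homologyFunctor _ 0).shiftIso n i (p : ℤ) hp).app _)

include hvan in
lemma isLE_gamma (F : X.Modules) (hF : Coh.IsQCoh F) : ((gammaD hf).obj (shiftQ F hF d)).IsLE 0 :=
  (DerivedCategory.isLE_iff _ _).2 fun i hi => by
    let M := (gammaD hf).obj (shiftQ F hF d)
    refine DQCoh.isZero_of_tilde (R := CommRingCat.of A) ?_
    refine IsZero.of_iso (isZero_HD_rpush_shift (A := A) d hvan F hF d i (by omega))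
      ((DQCoh.hdTildeIso (R := CommRingCat.of A) M i).symm ≪≫ (DerivedCategory.homologyFunctor _ i).mapIso
        ((ObjectProperty.ι _).mapIso ((tildeQ A).asEquivalence.counitIso.app
          ((DCoh.RpushQ (fX) hf).obj (shiftQ F hF d)))))

variable (ω : Dual.D A) [ω.IsGE 0]

include adj hvan in
lemma subsingleton_hom_shift (F : X.Modules) (hF : Coh.IsQCoh F) (n : ℤ) (hn : (d : ℤ) < n) :
    Subsingleton ((DCoh.inD X F)⟦n⟧ ⟶ (a.obj ((tildeQ A).obj ω)).obj) := by
  haveI := additive_rpush (fX)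
  refine ⟨fun x y => ?_⟩
  refine (tr_bijective adj (isQCohD_shift (isQCohD_inD hF) n) _).1 ?_
  rw [← sub_eq_zero]
  refine eq_zero_of_le_ge (a := -1) (b := 0) (by omega)
    (fun i hi => isZero_HD_rpush_shift (A := A) d hvan F hF n i (by omega)) (fun i hi => ?_) _
  exact ((tilde.functor (CommRingCat.of A)).map_isZero (DerivedCategory.isZero_of_isGE ω 0 i hi)).of_iso
    (DQCoh.hdTildeIso (R := CommRingCat.of A) ω i)

include adj hvan in
/-- **the amplitude of `a(ω)`** -/
theorem isZero_HD_adjoint (i : ℤ) (hi : i < -(d : ℤ)) : IsZero (DCoh.HD (a.obj ((tildeQ A).obj ω)).obj i) := by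
  haveI := isNoetherian_of_proper (fX)
  obtain ⟨N, hN⟩ := isIso_hd_adjoint_map (fX) adj
  obtain ⟨M, hM⟩ : ∃ M : ℤ, ∀ j, j ≤ M → IsZero (DCoh.HD (a.obj ((tildeQ A).obj ω)).obj j) := by
    haveI : QuasiCompact (fX) := quasiCompact_of_compactSpace (fX)
    obtain ⟨N', hN'⟩ := DQPush.exists_amplitude (fX)
    refine ⟨-1 - (N' + 1 : ℕ), fun j hj => ?_⟩
    obtain ⟨L, τ, hLq, hLle, hiso⟩ := exists_truncLE _ (a.obj ((tildeQ A).obj ω)).property j
    haveI := additive_rpush (fX)
    haveI := hiso j le_rfl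
    have h0 : τ = 0 := tr_eq_zero adj hLq (eq_zero_of_le_ge (a := -1) (b := 0) (by omega)
      (fun m hm => hN' L hLq j hLle m (by omega))
      (fun m hm => ((tilde.functor (CommRingCat.of A)).map_isZero (DerivedCategory.isZero_of_isGE ω 0 m hm)).of_iso
        (DQCoh.hdTildeIso (R := CommRingCat.of A) ω m)) _)
    refine IsZero.of_epi_eq_zero ((DerivedCategory.homologyFunctor X.Modules j).map τ) ?_
    rw [h0, Functor.map_zero]
  suffices h : ∀ (n : ℕ) (j : ℤ), j ≤ M + n → j < -(d : ℤ) → IsZero (DCoh.HD (a.obj ((tildeQ A).obj ω)).obj j) from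
    h (i - M).toNat i (by omega) hi
  intro n
  induction n with
  | zero => exact fun j hj _ => hM j (by omega)
  | succ n ih =>
    intro j hj hjd
    by_cases hj' : j ≤ M + n
    · exact ih j hj' hjd
    let K := (a.obj ((tildeQ A).obj ω)).obj
    obtain ⟨L, τ, hLq, hLle, hiso⟩ := exists_truncLE K (a.obj ((tildeQ A).obj ω)).property j
    haveI := hLle
    haveI : L.IsGE j := (DerivedCategory.isGE_iff _ _).2 fun m hm => by
      haveI := hiso m (by omega)
      exact (ih m (by omega) (by omega)).of_iso (asIso ((DerivedCategory.homologyFunctor X.Modules m).map τ))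
    obtain ⟨Mj, ⟨e⟩⟩ := DerivedCategory.exists_iso_singleFunctor_obj_of_isGE_of_isLE L j
    have hMj : Coh.IsQCoh Mj := QC.isQCoh_of_iso
      ((DerivedCategory.homologyFunctor X.Modules j).mapIso e ≪≫
        (DerivedCategory.singleFunctorCompHomologyFunctorIso X.Modules j).app Mj) (hLq j)
    let e' : (DCoh.inD X Mj)⟦-j⟧ ≅ L :=
      (((SingleFunctors.shiftIso (DerivedCategory.singleFunctors X.Modules) (-j) j 0 (by omega)).app Mj)) ≪≫ e.symm
    haveI := subsingleton_hom_shift adj d hvan ω Mj hMj (-j) (by omega)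
    have h0 : τ = 0 := by
      rw [← cancel_epi e'.hom, comp_zero]
      exact Subsingleton.elim _ _
    haveI := hiso j le_rfl
    refine IsZero.of_epi_eq_zero ((DerivedCategory.homologyFunctor X.Modules j).map τ) ?_
    rw [h0, Functor.map_zero]

include adj hvan in
/-- **the dualizing module**: `H^{-d}(a ω)` represents `F ↦ Hom_A(H^d(X, F), H^0(ω))` -/
theorem exists_trace (hcoh : Coh.IsQCoh (DCoh.HD (a.obj ((tildeQ A).obj ω)).obj (-(d : ℤ)))) :
    ∃ t : Coh.HH X (DCoh.HD (a.obj ((tildeQ A).obj ω)).obj (-(d : ℤ))) d →ₗ[A] Dual.HD A ω 0,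
      ∀ (F : X.Modules), Coh.IsQCoh F → ∀ ψ : Coh.HH X F d →ₗ[A] Dual.HD A ω 0,
        ∃! φ : F ⟶ DCoh.HD (a.obj ((tildeQ A).obj ω)).obj (-(d : ℤ)), ∀ x : Coh.HH X F d,
          ψ x = t (Sheaf.H.map ((SheafOfModules.toSheaf X.ringCatSheaf).map φ) d x) := by
  let b := tildeQ A ⋙ a
  let K := (b.obj ω).obj
  let H := DerivedCategory.homologyFunctor X.Modules
  let s := DerivedCategory.singleFunctor X.Modules 0
  let K' := K⟦-(d : ℤ)⟧
  haveI : K.IsGE (-(d : ℤ)) := (DerivedCategory.isGE_iff _ _).2 fun i hi => isZero_HD_adjoint adj d hvan ω i hi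
  haveI : K'.IsGE 0 := DerivedCategory.TStructure.t.isGE_shift K (-(d : ℤ)) (-(d : ℤ)) 0 (by omega)
  let ωX := DCoh.HD K (-(d : ℤ))
  let c : (H 0).obj (s.obj ωX) ≅ ωX := (DerivedCategory.singleFunctorCompHomologyFunctorIso X.Modules 0).app ωX
  let sh : (H 0).obj K' ≅ ωX := ((H 0).shiftIso (-(d : ℤ)) 0 (-(d : ℤ)) (by omega)).app K
  obtain ⟨ι', hι'⟩ : ∃ ι' : s.obj ωX ⟶ K', (H 0).map ι' = c.hom ≫ sh.inv := (homH_bijective _ _).2 _
  have hm : ∀ F : X.Modules, Function.Bijective fun φ : F ⟶ ωX => s.map φ ≫ ι' := fun F => by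
    refine ⟨fun φ φ' h => ?_, fun v => ?_⟩
    · have h' := congrArg ((H 0).map) h
      simp only [Functor.map_comp, hι', cancel_mono] at h'
      exact (Functor.FullyFaithful.ofFullyFaithful (DerivedCategory.singleFunctor X.Modules 0)).map_injective
        ((homH_bijective _ _).1 h')
    · let cF := (DerivedCategory.singleFunctorCompHomologyFunctorIso X.Modules 0).app F
      refine ⟨cF.inv ≫ (H 0).map v ≫ sh.hom, (homH_bijective _ _).1 ?_⟩
      show (H 0).map (s.map _ ≫ ι') = (H 0).map v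
      rw [Functor.map_comp, hι']
      have hn := (DerivedCategory.singleFunctorCompHomologyFunctorIso X.Modules 0).hom.naturality
        (cF.inv ≫ (H 0).map v ≫ sh.hom)
      erw [reassoc_of% hn]
      simp [cF, c]
  let back : K'⟦(d : ℤ)⟧ ≅ K := (shiftFunctorCompIsoId (DCoh.D X) (-(d : ℤ)) d (by omega)).app K
  have hM : ∀ (F : X.Modules) (hF : Coh.IsQCoh F),
      Function.Bijective fun φ : F ⟶ ωX => (ObjectProperty.homMk ((s.map φ ≫ ι')⟦(d : ℤ)⟧' ≫ back.hom) :
        shiftQ F hF d ⟶ b.obj ω) := fun F hF => by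
    have h1 := ((Functor.FullyFaithful.ofFullyFaithful (shiftFunctor (DCoh.D X) (d : ℤ))).map_bijective
      (s.obj F) K').comp (hm F)
    have h2 := back.homToEquiv.bijective.comp h1
    exact ⟨fun φ φ' h => h2.1 (congrArg InducedCategory.Hom.hom h),
      fun z => (h2.2 z.hom).imp fun φ hφ => InducedCategory.hom_ext hφ⟩
  obtain ⟨β, hβ⟩ := exists_hh_gamma hf d
  let ιq : shiftQ ωX hcoh d ⟶ b.obj ω := ObjectProperty.homMk (ι'⟦(d : ℤ)⟧' ≫ back.hom)
  let ε := ((gammaAdj adj).homEquiv _ _).symm ιq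
  refine ⟨(evUnit A ω).toLinearMap.comp ((Linear.rightComp A _ ε).comp (β ωX hcoh).toLinearMap), fun F hF ψ => ?_⟩
  haveI := isLE_gamma (hf := hf) d hvan F hF
  have key : ∀ (φ : F ⟶ ωX) (x : Coh.HH X F d),
      evUnit A ω (β ωX hcoh (Sheaf.H.map ((SheafOfModules.toSheaf X.ringCatSheaf).map φ) d x) ≫ ε) =
        evUnit A ω (β F hF x ≫ ((gammaAdj adj).homEquiv _ _).symm
          (ObjectProperty.homMk ((s.map φ ≫ ι')⟦(d : ℤ)⟧' ≫ back.hom) : shiftQ F hF d ⟶ b.obj ω)) := fun φ x => by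
    rw [hβ F ωX hF hcoh, Category.assoc, ← Adjunction.homEquiv_naturality_left_symm]
    refine congrArg (fun z => evUnit A ω (β F hF x ≫ ((gammaAdj adj).homEquiv _ _).symm z))
      (InducedCategory.hom_ext ?_)
    show ((s.map φ)⟦(d : ℤ)⟧') ≫ ι'⟦(d : ℤ)⟧' ≫ back.hom = (s.map φ ≫ ι')⟦(d : ℤ)⟧' ≫ back.hom
    rw [Functor.map_comp, Category.assoc]
  obtain ⟨g, hg, huniq⟩ := existsUnique_hom ((gammaD hf).obj (shiftQ F hF d)) ω
    (ψ.comp (β F hF).symm.toLinearMap)
  obtain ⟨φ, hφ⟩ := (hM F hF).2 ((gammaAdj adj).homEquiv _ _ g)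
  refine ⟨φ, fun x => ?_, fun φ' hφ' => (hM F hF).1 ?_⟩
  · refine Eq.trans ?_ (key φ x).symm
    rw [show (ObjectProperty.homMk ((s.map φ ≫ ι')⟦(d : ℤ)⟧' ≫ back.hom) : shiftQ F hF d ⟶ b.obj ω) = _ from hφ,
      Equiv.symm_apply_apply, hg]
    exact congrArg ψ ((β F hF).symm_apply_apply x).symm
  · refine Eq.trans ?_ hφ.symm
    rw [← Equiv.symm_apply_eq]
    refine huniq _ fun z => ?_
    obtain ⟨x, rfl⟩ := (β F hF).surjective z
    refine ((key φ' x).symm.trans (hφ' x).symm).trans ?_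
    exact congrArg ψ ((β F hF).symm_apply_apply x).symm

end Main

end Groth.Agent.DCohShriek
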