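import Groth.Agent.BrownSmall.Basic
import Groth.Agent.Brown.Apply
import Groth.Agent.PerfGen.Coloc
import Groth.Agent.DQPush.Coprod
import Groth.Agent.DerPush.Triangle
import Mathlib

/-!
# `Rf_*` on `D_QCoh` has a right adjoint
-/

set_option autoImplicit false
set_option backward.isDefEq.respectTransparency false
set_option backward.isDefEq.respectTransparency.types false
set_option linter.style.haveILetI false
set_option linter.unusedSectionVars false

universe u

open CategoryTheory Limits Pretriangulated AlgebraicGeometry Opposite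

attribute [local instance] HasDerivedCategory.standard

namespace Groth.Agent.DCohShriek

open Groth.Agent.PerfGen (localizing_qcohD isQCohD_shift isQCohD_obj₂ isQCohD_of_isZero)

variable (X : Scheme.{u})

instance isTriangulated_qcohD : (DCoh.IsQCohD (X := X)).IsTriangulated where
  exists_zero := ⟨_, isZero_zero _, isQCohD_of_isZero (isZero_zero _)⟩
  isStableUnderShiftBy n := { le_shift := fun _ h => isQCohD_shift h n }
  toIsTriangulatedClosed₂ := ObjectProperty.IsTriangulatedClosed₂.mk' (isQCohD_obj₂)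

instance closedColim_qcohD (J : Type u) : (DCoh.IsQCohD (X := X)).IsClosedUnderColimitsOfShape (Discrete J) where
  colimitsOfShape_le := by
    rintro E ⟨p⟩
    refine (DCoh.IsQCohD (X := X)).prop_of_iso
      (IsColimit.coconePointUniqueUpToIso (coproductIsCoproduct fun j => p.diag.obj ⟨j⟩)
        ((IsColimit.precomposeHomEquiv (Discrete.natIsoFunctor (F := p.diag)).symm _).symm p.isColimit))
      ((localizing_qcohD X).coprod _ fun j => p.prop_diag_obj ⟨j⟩)

instance hasCoproducts_qcohD (J : Type u) :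
    HasColimitsOfShape (Discrete J) (DCoh.IsQCohD (X := X)).FullSubcategory :=
  haveI := PerfGen.hasCoproducts_D' X J
  hasColimitsOfShape_of_closedUnderColimits (Discrete J) (DCoh.IsQCohD (X := X))

instance hasCoproductsNat_qcohD : HasColimitsOfShape (Discrete ℕ) (DCoh.IsQCohD (X := X)).FullSubcategory :=
  hasColimitsOfShape_of_equivalence (Discrete.equivalence (Equiv.ulift.{u} : ULift.{u} ℕ ≃ ℕ))

instance preservesCoproducts_ι (J : Type u) :
    PreservesColimitsOfShape (Discrete J) (DCoh.IsQCohD (X := X)).ι :=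
  haveI := PerfGen.hasCoproducts_D' X J
  inferInstance

instance locallySmall_qcohD : LocallySmall.{u} (DCoh.IsQCohD (X := X)).FullSubcategory :=
  ⟨fun A B => small_of_injective (α := A ⟶ B) (β := A.obj ⟶ B.obj) (f := fun φ => φ.hom)
    fun _ _ h => InducedCategory.hom_ext h⟩

variable {X}

/-- a compact perfect generator of `D_QCoh`, as a perfect family in the subcategory -/
theorem exists_perfect_family (X : Scheme.{u}) [CompactSpace X] [QuasiSeparatedSpace X] :
    ∃ G : (DCoh.IsQCohD (X := X)).FullSubcategory, BrownSmall.Perfect (Brown.shifts fun _ : PUnit.{u + 1} => G) ∧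
      ∀ Z, (∀ k (f : Brown.shifts (fun _ : PUnit.{u + 1} => G) k ⟶ Z), f = 0) → IsZero Z := by
  classical
  obtain ⟨G₀, hG, hgen, -⟩ := PerfGen.exists_gen_qcohD X
  let P : ObjectProperty (DCoh.D X) := DCoh.IsQCohD
  let G : P.FullSubcategory := ⟨G₀, hG.1⟩
  refine ⟨G, fun Y k α => ?_, fun Z hZ => ?_⟩
  · obtain ⟨⟨⟩, n⟩ := k
    let Y' : ULift.{u} ℕ → P.FullSubcategory := fun m => Y m.down
    let φ : ∐ Y ⟶ ∐ Y' := Sigma.desc fun m => Sigma.ι Y' ⟨m⟩
    let ψ : ∐ Y' ⟶ ∐ Y := Sigma.desc fun m => Sigma.ι Y m.down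
    have hφψ : φ ≫ ψ = 𝟙 _ := Sigma.hom_ext _ _ fun m => by simp [φ, ψ]
    haveI := PerfGen.hasCoproducts_D' X (ULift.{u} ℕ)
    haveI := preservesCoproducts_ι X (ULift.{u} ℕ)
    let c := PreservesCoproduct.iso P.ι Y'
    have hfin := hG.finFac_shift (localizing_qcohD X) n (fun m => (Y' m).obj) (fun m => (Y' m).property)
    obtain ⟨s, p, hp⟩ := hfin (((P.ι.commShiftIso n).inv.app G ≫ P.ι.map (α ≫ φ)) ≫ c.hom)
    let β : ∀ m, Brown.shifts (fun _ : PUnit.{u + 1} => G) (⟨⟩, n) ⟶ Y m := fun m =>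
      P.fullyFaithfulι.preimage ((P.ι.commShiftIso n).hom.app G ≫ p ⟨m⟩)
    refine ⟨fun _ => (⟨⟩, n), β, ∑ m ∈ s, Sigma.ι (fun _ : ℕ => Brown.shifts (fun _ : PUnit.{u + 1} => G) (⟨⟩, n)) m.down, ?_⟩
    rw [← Category.comp_id α, ← hφψ, ← Category.assoc, Preadditive.sum_comp]
    have h : α ≫ φ = ∑ m ∈ s, β m.down ≫ Sigma.ι Y' m := by
      refine P.fullyFaithfulι.map_injective ?_
      rw [Functor.map_sum, ← cancel_epi ((P.ι.commShiftIso n).inv.app G), ← cancel_mono c.hom, hp,
        Preadditive.comp_sum, Preadditive.sum_comp]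
      refine Finset.sum_congr rfl fun m _ => ?_
      simp only [Functor.map_comp, β, Functor.FullyFaithful.map_preimage, Category.assoc,
        Iso.inv_hom_id_app_assoc]
      have h1 : P.ι.map (Sigma.ι Y' m) ≫ c.hom = Sigma.ι (fun m => (Y' m).obj) m := by
        rw [← Iso.eq_comp_inv]
        exact (ι_comp_sigmaComparison P.ι Y' m).symm
      show p m ≫ _ = (P.ι.commShiftIso n).inv.app G ≫ ((P.ι.commShiftIso n).hom.app G ≫ p m) ≫ _
      erw [h1, Category.assoc, Iso.inv_hom_id_app_assoc]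
    rw [h, Preadditive.sum_comp]
    refine Finset.sum_congr rfl fun m _ => ?_
    simp [ψ]
  · refine IsZero.of_full_of_faithful_of_isZero P.ι Z (hgen Z.obj Z.property fun n g => ?_)
    have h := hZ (⟨⟩, n) (P.fullyFaithfulι.preimage ((P.ι.commShiftIso n).hom.app G ≫ g))
    have h' := congrArg P.ι.map h
    rw [Functor.FullyFaithful.map_preimage, Functor.map_zero] at h'
    rw [← cancel_epi ((P.ι.commShiftIso n).hom.app G), comp_zero]
    exact h'

variable {Y : Scheme.{u}} (f : X ⟶ Y) [DCoh.HasRpush f]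

theorem additive_rpush : (DCoh.Rpush f).Additive := by
  haveI := DerPush.isRightAdjoint_rpush f
  haveI : PreservesLimitsOfSize.{0, 0} (DCoh.Rpush f) := inferInstance
  exact Functor.additive_of_preserves_binary_products _

/-- **Brown representability for `K ↦ Hom(Rf_* K, N)` on `D_QCoh(O_X)`** -/
theorem exists_representing [CompactSpace X] [QuasiSeparatedSpace X] [CompactSpace Y] [QuasiSeparatedSpace Y]
    (N : DCoh.D Y) :
    ((((DCoh.IsQCohD (X := X)).ι ⋙ DCoh.Rpush f).op ⋙ preadditiveYoneda.obj N) ⋙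
      forget AddCommGrpCat.{u + 1}).IsRepresentable := by
  haveI := additive_rpush f
  obtain ⟨G, hperf, hgen⟩ := exists_perfect_family X
  let P : ObjectProperty (DCoh.D X) := DCoh.IsQCohD
  let F : P.FullSubcategory ⥤ DCoh.D Y := P.ι ⋙ DCoh.Rpush f
  let H : P.FullSubcategoryᵒᵖ ⥤ AddCommGrpCat.{u + 1} := F.op ⋙ preadditiveYoneda.obj N
  have hpres : ∀ J : Type u, PreservesColimitsOfShape (Discrete J) F := fun J => ⟨fun {K} => by
    haveI := preservesCoproducts_ι X J
    haveI : PreservesColimit (K ⋙ P.ι) (DCoh.Rpush f) := by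
      haveI := DQPush.preservesColimit_rpush_qcoh f (fun j => (K.obj ⟨j⟩).obj) (fun j => (K.obj ⟨j⟩).property)
      exact preservesColimit_of_iso_diagram (K₁ := Discrete.functor fun j => (K.obj ⟨j⟩).obj) _
        (Discrete.natIsoFunctor (F := K ⋙ P.ι)).symm
    exact inferInstanceAs (PreservesColimit K (P.ι ⋙ DCoh.Rpush f))⟩
  have hH : BrownSmall.IsBrown.{u} H := by
    refine ⟨inferInstance, fun T hT y hy => ?_, fun Z => ?_, fun {J} Z _ => ?_, fun Z => ?_⟩
    · obtain ⟨c, hc⟩ := DerPush.exists_rpush_triangle f _ _ _ (P.ι.map_distinguished _ hT)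
      obtain ⟨z, hz⟩ := Triangle.yoneda_exact₂ _ hc y hy
      exact ⟨z, hz.symm⟩
    · exact inferInstanceAs (Small.{u} (F.obj Z ⟶ N))
    · haveI := hpres J
      exact ⟨fun a b hab => Cofan.IsColimit.hom_ext
          (isColimitCofanMkObjOfIsColimit F Z _ (coproductIsCoproduct Z)) _ _ fun j => congrFun hab j,
        fun g => ⟨Cofan.IsColimit.desc (isColimitCofanMkObjOfIsColimit F Z _ (coproductIsCoproduct Z)) g,
          funext fun j => Cofan.IsColimit.fac (isColimitCofanMkObjOfIsColimit F Z _ (coproductIsCoproduct Z)) g j⟩⟩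
    · haveI := hpres (ULift.{u} ℕ)
      haveI : PreservesColimitsOfShape (Discrete ℕ) F :=
        preservesColimitsOfShape_of_equiv (Discrete.equivalence (Equiv.ulift.{u} : ULift.{u} ℕ ≃ ℕ)) F
      exact ⟨fun a b hab => Cofan.IsColimit.hom_ext
          (isColimitCofanMkObjOfIsColimit F Z _ (coproductIsCoproduct Z)) _ _ fun j => congrFun hab j,
        fun g => ⟨Cofan.IsColimit.desc (isColimitCofanMkObjOfIsColimit F Z _ (coproductIsCoproduct Z)) g,
          funext fun j => Cofan.IsColimit.fac (isColimitCofanMkObjOfIsColimit F Z _ (coproductIsCoproduct Z)) g j⟩⟩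
  let E : PUnit.{u + 1} × ULift.{u} ℤ → P.FullSubcategory :=
    fun k => Brown.shifts (fun _ : PUnit.{u + 1} => G) (k.1, k.2.down)
  refine BrownSmall.isRepresentable (E := E) (fun Z k α => ?_) (fun k => ?_) (fun Z hZ => ?_) hH
  · obtain ⟨j, β, γ, h⟩ := hperf Z (k.1, k.2.down) α
    exact ⟨fun m => ((j m).1, ⟨(j m).2⟩), β, γ, h⟩
  · obtain ⟨k', e⟩ := Brown.exists_shifts_neg (fun _ : PUnit.{u + 1} => G) (k.1, k.2.down)
    exact ⟨(k'.1, ⟨k'.2⟩), e⟩
  · exact hgen Z fun k g => hZ (k.1, ⟨k.2⟩) g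

/-- **`Rf_* : D_QCoh(O_X) ⥤ D_QCoh(O_Y)` is a left adjoint** -/
theorem isLeftAdjoint_rpushQ [CompactSpace X] [QuasiSeparatedSpace X] [CompactSpace Y] [QuasiSeparatedSpace Y]
    (h : ∀ K : DCoh.D X, DCoh.IsQCohD K → DCoh.IsQCohD ((DCoh.Rpush f).obj K)) :
    (ObjectProperty.lift DCoh.IsQCohD (ObjectProperty.ι DCoh.IsQCohD ⋙ DCoh.Rpush f)
      (fun K => h K.obj K.property)).IsLeftAdjoint := by
  refine Functor.isLeftAdjoint_of_rightAdjointObjIsDefined_eq_top ?_
  ext N
  simp only [Pi.top_apply, Prop.top_eq_true, iff_true]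
  rw [Functor.rightAdjointObjIsDefined_iff]
  obtain ⟨A, ⟨r⟩⟩ := (exists_representing f N.obj).has_representation
  exact ⟨A, ⟨{ homEquiv := fun {K} => r.homEquiv.trans
                 { toFun := fun g => ObjectProperty.homMk g
                   invFun := fun g => g.hom
                   left_inv := fun _ => rfl
                   right_inv := fun _ => rfl }
               homEquiv_comp := fun {K K'} u v => InducedCategory.hom_ext (r.homEquiv_comp u v) }⟩⟩

end Groth.Agent.DCohShriek
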