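import Groth.Agent.DCohShriek.Supp
import Groth.Agent.RPushSite.Hom
import Groth.Agent.DQPush.Affine
import Groth.Agent.DCohShriek.Adjoint

/-!
# The right adjoint of `Rf_*` commutes with shifts
-/

set_option autoImplicit false
set_option backward.isDefEq.respectTransparency false
set_option backward.isDefEq.respectTransparency.types false
set_option linter.style.haveILetI false

universe u

open CategoryTheory Limits AlgebraicGeometry

attribute [local instance] HasDerivedCategory.standard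

noncomputable section

namespace Groth.Agent.DCohShriek

open Groth.Agent.PerfGen

variable {X Y : Scheme.{u}} {f : X ⟶ Y} [DCoh.HasRpush f] {hf : DCoh.RpushPreservesQCoh f}
  {a : DCoh.DQCoh Y ⥤ DCoh.DQCoh X} (adj : DCoh.RpushQ f hf ⊣ a)

variable (f) in
/-- `Rf_*` commutes with shifts -/
def rpushShiftIso (s : ℤ) : shiftFunctor (DCoh.D X) s ⋙ DCoh.Rpush f ≅ DCoh.Rpush f ⋙ shiftFunctor (DCoh.D Y) s :=
  haveI := DQPush.hasInj X
  haveI : HasInjectiveResolutions (ModSite.Mod X.sheaf) := DQPush.hasInj X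
  haveI : SiteCmp.HasRpushD (ModSite.RMor.ofScheme f) := ‹DCoh.HasRpush f›
  RPushSite.shiftIso (ModSite.RMor.ofScheme f) s

include adj in
/-- `a (P[s]) ≅ (a P)[s]` -/
theorem nonempty_adjoint_shift (P Q : DCoh.DQCoh Y) (s : ℤ) (e : Q.obj ≅ P.obj⟦s⟧) :
    Nonempty ((a.obj Q).obj ≅ (a.obj P).obj⟦s⟧) := by
  let A := (a.obj P).obj⟦s⟧
  have hA : DCoh.IsQCohD A := isQCohD_shift (a.obj P).property s
  let ψ : (DCoh.Rpush f).obj A ⟶ Q.obj :=
    (rpushShiftIso f s).hom.app (a.obj P).obj ≫ (adj.counit.app P).hom⟦s⟧' ≫ e.inv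
  obtain ⟨θ, hθ⟩ := (tr_bijective adj hA Q).2 ψ
  have hbij : ∀ E : DCoh.D X, DCoh.IsQCohD E → Function.Bijective fun z : E ⟶ A => z ≫ θ := fun E hE => by
    let E' := E⟦-s⟧
    have hE' : DCoh.IsQCohD E' := isQCohD_shift hE _
    let c : E'⟦s⟧ ≅ E := (shiftFunctorCompIsoId (DCoh.D X) (-s) s (by omega)).app E
    let R := (DCoh.Rpush f).mapIso c.symm ≪≫ (rpushShiftIso f s).app E'
    have key : (fun z' : E' ⟶ (a.obj P).obj => tr adj ((c.inv ≫ z'⟦s⟧') ≫ θ)) =
        (fun w => R.hom ≫ w ≫ e.inv) ∘ (fun w : (DCoh.Rpush f).obj E' ⟶ P.obj => w⟦s⟧') ∘ tr adj := funext fun z' => by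
      rw [tr_comp, hθ]
      simp only [Function.comp_apply, tr, R, ψ, Iso.trans_hom, Functor.mapIso_hom, Iso.symm_hom, Iso.app_hom,
        Functor.map_comp, Category.assoc]
      congr 1
      have hn := (rpushShiftIso f s).hom.naturality z'
      simp only [Functor.comp_map] at hn
      rw [reassoc_of% hn]
    have hR : Function.Bijective fun w : ((DCoh.Rpush f).obj E')⟦s⟧ ⟶ P.obj⟦s⟧ => R.hom ≫ w ≫ e.inv :=
      R.symm.homFromEquiv.bijective.comp e.symm.homToEquiv.bijective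
    have h1 : Function.Bijective fun z' : E' ⟶ (a.obj P).obj => (c.inv ≫ z'⟦s⟧') ≫ θ := by
      refine (Function.Bijective.of_comp_iff' (tr_bijective adj hE Q) _).1 ?_
      show Function.Bijective fun z' : E' ⟶ (a.obj P).obj => tr adj ((c.inv ≫ z'⟦s⟧') ≫ θ)
      rw [key]
      exact hR.comp (((Functor.FullyFaithful.ofFullyFaithful (shiftFunctor (DCoh.D Y) s)).map_bijective _ _).comp
        (tr_bijective adj hE' P))
    have h2 : Function.Bijective fun z' : E' ⟶ (a.obj P).obj => (c.inv ≫ z'⟦s⟧' : E ⟶ A) :=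
      c.homFromEquiv.bijective.comp
        ((Functor.FullyFaithful.ofFullyFaithful (shiftFunctor (DCoh.D X) s)).map_bijective _ _)
    exact (Function.Bijective.of_comp_iff _ h2).1 h1
  obtain ⟨g, hg⟩ := (hbij _ (a.obj Q).property).2 (𝟙 _)
  have hg' : θ ≫ g = 𝟙 A := (hbij A hA).1 (by
    show (θ ≫ g) ≫ θ = 𝟙 A ≫ θ
    rw [Category.assoc, show g ≫ θ = 𝟙 _ from hg, Category.comp_id, Category.id_comp])
  exact ⟨⟨g, θ, hg, hg'⟩⟩

end Groth.Agent.DCohShriek
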