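import Groth.Agent.DCohShriek.DualModule
import Groth.Agent.FibVan.Main
import Groth.Agent.DQPush.Basic
import Groth.Prelude.Def_Canon

/-!
# The dualizing module of a proper scheme over a field
-/

set_option autoImplicit false
set_option backward.isDefEq.respectTransparency false
set_option backward.isDefEq.respectTransparency.types false
set_option linter.style.haveILetI false
set_option linter.unusedSectionVars false
set_option maxHeartbeats 1000000

universe u

open CategoryTheory Limits AlgebraicGeometry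

attribute [local instance] HasDerivedCategory.standard

noncomputable section

namespace Groth.Agent.DCohShriek

variable (k : Type u) [Field k]

/-- `O` on a point is the tilde of the unit -/
def tildeUnitIso : (DCoh.tildeD (CommRingCat.of k)).obj (unitD k) ≅
    DCoh.inD (Spec (CommRingCat.of k)) (Coh.structureModule _) :=
  ((tilde.functor (CommRingCat.of k)).mapDerivedCategorySingleFunctor 0).app (ModuleCat.of k k) ≪≫
    (DerivedCategory.singleFunctor _ 0).mapIso (tildeSelf (R := CommRingCat.of k))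

variable {X : Scheme.{u}} [X.Over (Spec (CommRingCat.of k))] [IsProper (X ↘ Spec (CommRingCat.of k))]


/-- vanishing above the dimension -/
theorem subsingleton_hh_of_dim_le (k : Type u) [Field k] {X : Scheme.{u}} [X.Over (Spec (CommRingCat.of k))]
    [IsProper (X ↘ Spec (CommRingCat.of k))] (d : ℕ) (hd : topologicalKrullDim ↥X ≤ (d : WithBot ℕ∞)) (F : X.Modules)
    (hF : Coh.IsQCoh F) (p : ℕ) (hp : d < p) : Subsingleton (Coh.HH X F p) := by
  haveI : F.IsQuasicoherent := hF
  refine FibVan.subsingleton_hh (B := k) d ?_ F p hp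
  have hu : (X ↘ Spec (CommRingCat.of k)) ⁻¹' {IsLocalRing.closedPoint k} = Set.univ :=
    Set.eq_univ_of_forall fun x => Subsingleton.elim (α := PrimeSpectrum k) _ _
  rw [IsHomeomorph.topologicalKrullDim_eq _ ((X ↘ Spec (CommRingCat.of k)).fiberHomeo (IsLocalRing.closedPoint k)).isHomeomorph,
    IsHomeomorph.topologicalKrullDim_eq _ ((Homeomorph.setCongr hu).trans (Homeomorph.Set.univ X)).isHomeomorph]
  exact hd

/-- a linear identification `H^0` of the unit with `k` -/
def unitEquiv : Dual.HD k (unitD k) 0 ≃ₗ[k] k :=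
  ((DerivedCategory.singleFunctorCompHomologyFunctorIso (ModuleCat.{u} k) 0).app (ModuleCat.of k k)).toLinearEquiv

variable [DCoh.HasRpush (X ↘ Spec (CommRingCat.of k))] {hf : DCoh.RpushPreservesQCoh (X ↘ Spec (CommRingCat.of k))}
  {a : DCoh.DQCoh (Spec (CommRingCat.of k)) ⥤ DCoh.DQCoh X} (adj : DCoh.RpushQ (X ↘ Spec (CommRingCat.of k)) hf ⊣ a)
  (O : DCoh.DQCoh (Spec (CommRingCat.of k)))

include adj in
/-- `H^{-d}(a O)` is coherent -/
theorem isCoh_dualModule (e : O.obj ≅ DCoh.inD _ (Coh.structureModule _)) (i : ℤ) :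
    Coh.IsCoh (DCoh.HD (a.obj O).obj i) := by
  haveI := isNoetherian_of_proper (X ↘ Spec (CommRingCat.of k))
  exact DualSch.isCoh_HD (isDualizingSch_adjoint (X ↘ Spec (CommRingCat.of k)) adj O (isDualizingSch_point k e)) i

include adj in
/-- **the dualizing pair** -/
theorem exists_isRDual (e : O.obj ≅ DCoh.inD _ (Coh.structureModule _)) (d : ℕ)
    (hd : topologicalKrullDim ↥X ≤ (d : WithBot ℕ∞)) :
    ∃ t : Coh.HH X (DCoh.HD (a.obj O).obj (-(d : ℤ))) d →ₗ[k] k,
      Canon.IsRDualOver k X d (DCoh.HD (a.obj O).obj (-(d : ℤ))) t := by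
  let e' : (tildeQ k).obj (unitD k) ≅ O := ObjectProperty.isoMk _ (tildeUnitIso k ≪≫ e.symm)
  let c := (DerivedCategory.homologyFunctor X.Modules (-(d : ℤ))).mapIso ((ObjectProperty.ι _).mapIso (a.mapIso e'))
  have hq : Coh.IsQCoh (DCoh.HD (a.obj ((tildeQ k).obj (unitD k))).obj (-(d : ℤ))) :=
    (a.obj ((tildeQ k).obj (unitD k))).property _
  obtain ⟨t, ht⟩ := exists_trace adj d (fun F hF => subsingleton_hh_of_dim_le k d hd F hF) (unitD k) hq
  refine ⟨(unitEquiv k).toLinearMap.comp (t.comp (CohFinite.hhMap k c.inv d)), (a.obj O).property _,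
    fun F hF => ⟨fun φ φ' h => ?_, fun ψ => ?_⟩⟩
  · obtain ⟨φ₀, -, hu⟩ := ht F hF (t.comp (CohFinite.hhMap k (φ ≫ c.inv) d))
    have h1 : φ ≫ c.inv = φ₀ := hu _ fun x => rfl
    have h2 : φ' ≫ c.inv = φ₀ := hu _ fun x => by
      have h' := (unitEquiv k).injective (LinearMap.congr_fun h x)
      refine (congrArg t ?_).trans (h'.trans (congrArg t ?_))
      · exact CohFinite.hhMap_comp k φ c.inv d x
      · exact (CohFinite.hhMap_comp k φ' c.inv d x).symm
    exact (cancel_mono c.inv).1 (h1.trans h2.symm)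
  · obtain ⟨φ, hφ, -⟩ := ht F hF ((unitEquiv k).symm.toLinearMap.comp ψ)
    refine ⟨φ ≫ c.hom, LinearMap.ext fun x => ?_⟩
    refine Eq.trans (congrArg (fun z => unitEquiv k (t z))
      ((CohFinite.hhMap_comp k (φ ≫ c.hom) c.inv d x).symm.trans
        (congrArg (fun g => CohFinite.hhMap k g d x) ((Category.assoc _ _ _).trans (by rw [Iso.hom_inv_id, Category.comp_id]))))) ?_
    exact (congrArg (unitEquiv k) (hφ x).symm).trans ((unitEquiv k).apply_symm_apply (ψ x))

/-- **existence of a coherent dualizing pair** -/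
theorem exists_coh_isRDual (d : ℕ) (hd : topologicalKrullDim ↥X ≤ (d : WithBot ℕ∞)) :
    ∃ (ω : X.Modules) (t : Coh.HH X ω d →ₗ[k] k), Coh.IsCoh ω ∧ Canon.IsRDualOver k X d ω t := by
  haveI := isNoetherian_of_proper (X ↘ Spec (CommRingCat.of k))
  haveI : QuasiCompact (X ↘ Spec (CommRingCat.of k)) := quasiCompact_of_compactSpace (X ↘ Spec (CommRingCat.of k))
  haveI : QuasiSeparated (X ↘ Spec (CommRingCat.of k)) := inferInstance
  have hf : DCoh.RpushPreservesQCoh (X ↘ Spec (CommRingCat.of k)) := fun E hE => DQPush.isQCohD_rpush (X ↘ Spec (CommRingCat.of k)) hE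
  haveI : (DCoh.RpushQ (X ↘ Spec (CommRingCat.of k)) hf).IsLeftAdjoint := isLeftAdjoint_rpushQ (X ↘ Spec (CommRingCat.of k)) hf
  let adj : DCoh.RpushQ (X ↘ Spec (CommRingCat.of k)) hf ⊣ _ := Adjunction.ofIsLeftAdjoint _
  let O := (tildeQ k).obj (unitD k)
  obtain ⟨t, ht⟩ := exists_isRDual k adj O (tildeUnitIso k) d hd
  exact ⟨_, t, isCoh_dualModule k adj O (tildeUnitIso k) _, ht⟩

end Groth.Agent.DCohShriek
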