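import Groth.Agent.DCohShriek.Coprod

/-!
# The right adjoint of `Rf_*` commutes with restriction to opens of the base
-/

set_option autoImplicit false
set_option backward.isDefEq.respectTransparency false
set_option backward.isDefEq.respectTransparency.types false
set_option linter.style.haveILetI false
set_option linter.unusedSectionVars false

universe u

open CategoryTheory Limits Pretriangulated AlgebraicGeometry

attribute [local instance] HasDerivedCategory.standard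

namespace Groth.Agent.DCohShriek

open Groth.Agent.DQCoh (RD)
open Groth.Agent.PerfGen

variable {X Y : Scheme.{u}}

/-- restriction on `D_QCoh` -/
noncomputable abbrev rdQ {U : Scheme.{u}} (j : U ⟶ Y) [IsOpenImmersion j] : DCoh.DQCoh Y ⥤ DCoh.DQCoh U :=
  ObjectProperty.lift _ (ObjectProperty.ι _ ⋙ RD j) fun K => isQCohD_RD j K.property

lemma fin'_map {o : Option ℤ} (k : ℤ → ℤ) {f : X ⟶ Y} [DCoh.HasRpush f] (h : Fin' o f) : Fin' (o.map k) f :=
  fun P hP => (h P hP).imp id fun h' => ⟨by simpa using h'.1, h'.2⟩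

lemma bdd_obj₃ {o : Option ℤ} {Z : Scheme.{u}} (T : Triangle (DCoh.D Z)) (hT : T ∈ distTriang (DCoh.D Z))
    (h₁ : Bdd o T.obj₁) (h₂ : Bdd o T.obj₂) : Bdd (o.map (· - 1)) T.obj₃ := fun c hc i hi => by
  obtain ⟨c₀, hc₀, rfl⟩ : ∃ c₀ ∈ o, c₀ - 1 = c := by simpa [Option.mem_def, Option.map_eq_some_iff] using hc
  exact (DerivedCategory.HomologySequence.exact₃ _ hT i (i + 1) rfl).isZero_X₂
    ((h₂ c₀ hc₀ i (by omega)).eq_of_src _ _) ((h₁ c₀ hc₀ (i + 1) (by omega)).eq_of_tgt _ _)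

variable (f : X ⟶ Y) [DCoh.HasRpush f] {hf : DCoh.RpushPreservesQCoh f} {a : DCoh.DQCoh Y ⥤ DCoh.DQCoh X}
  (adj : DCoh.RpushQ f hf ⊣ a) (V : Y.Opens) [DCoh.HasRpush (f ∣_ V)]
  {hfV : DCoh.RpushPreservesQCoh (f ∣_ V)} {aV : DCoh.DQCoh V ⥤ DCoh.DQCoh (f ⁻¹ᵁ V)}
  (adjV : DCoh.RpushQ (f ∣_ V) hfV ⊣ aV)

/-- the adjoint of the comparison `R(f|_V)_*(a K|_U) ≅ (Rf_* a K)|_V → K|_V` -/
noncomputable def thetaPre (K : DCoh.DQCoh Y) :
    (DCoh.RpushQ (f ∣_ V) hfV).obj ((rdQ (f ⁻¹ᵁ V).ι).obj (a.obj K)) ⟶ (rdQ V.ι).obj K :=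
  ObjectProperty.homMk ((DQPush.rpushRestrIso f V).inv.app (a.obj K).obj ≫ (RD V.ι).map (adj.counit.app K).hom)

/-- the base change map `(a K)|_{f⁻¹V} → a_V (K|_V)` -/
noncomputable def thetaApp (K : DCoh.DQCoh Y) :
    (RD (f ⁻¹ᵁ V).ι).obj (a.obj K).obj ⟶ (aV.obj ((rdQ V.ι).obj K)).obj :=
  (adjV.homEquiv _ _ (thetaPre f adj V K)).hom

lemma tr_thetaApp (K : DCoh.DQCoh Y) : tr adjV (thetaApp f adj V adjV K) =
    (DQPush.rpushRestrIso f V).inv.app (a.obj K).obj ≫ (RD V.ι).map (adj.counit.app K).hom := by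
  have h := congrArg InducedCategory.Hom.hom ((adjV.homEquiv _ _).symm_apply_apply (thetaPre f adj V K))
  rw [Adjunction.homEquiv_counit] at h
  exact h

lemma tr_thetaApp_comp {E : DCoh.D X} (K : DCoh.DQCoh Y) (γ : E ⟶ (a.obj K).obj) :
    tr adjV ((RD (f ⁻¹ᵁ V).ι).map γ ≫ thetaApp f adj V adjV K) =
      (DQPush.rpushRestrIso f V).inv.app E ≫ (RD V.ι).map (tr adj γ) := by
  rw [tr_comp, tr_thetaApp, tr, Functor.map_comp, ← Category.assoc, ← Category.assoc]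
  exact congrArg (· ≫ _) ((DQPush.rpushRestrIso f V).inv.naturality γ)

lemma thetaApp_naturality {K K' : DCoh.DQCoh Y} (g : K ⟶ K') :
    (RD (f ⁻¹ᵁ V).ι).map (a.map g).hom ≫ thetaApp f adj V adjV K' =
      thetaApp f adj V adjV K ≫ (aV.map ((rdQ V.ι).map g)).hom := by
  apply (tr_bijective adjV (isQCohD_RD _ (a.obj K).property) ((rdQ V.ι).obj K')).1
  rw [tr_thetaApp_comp, tr_map, tr_thetaApp, tr, Category.assoc]
  refine congrArg ((DQPush.rpushRestrIso f V).inv.app _ ≫ ·) ?_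
  show _ = (RD V.ι).map (adj.counit.app K).hom ≫ (RD V.ι).map g.hom
  rw [← Functor.map_comp]
  exact congrArg (RD V.ι).map (congrArg InducedCategory.Hom.hom (adj.counit.naturality g))

/-- the base change transformation -/
noncomputable def theta :
    a ⋙ ObjectProperty.ι _ ⋙ RD (f ⁻¹ᵁ V).ι ⟶ rdQ V.ι ⋙ aV ⋙ ObjectProperty.ι _ where
  app := thetaApp f adj V adjV
  naturality _ _ g := thetaApp_naturality f adj V adjV g

set_option maxHeartbeats 1600000 in
/-- **the right adjoint commutes with restriction to opens** -/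
theorem isIso_thetaApp [CompactSpace Y] [QuasiSeparatedSpace Y] [QuasiCompact f] [QuasiSeparated f]
    {o : Option ℤ} (hfin : Fin' o f) (hV : IsCompact (V : Set Y)) (K : DCoh.DQCoh Y) (hb : Bdd o K.obj) :
    IsIso (thetaApp f adj V adjV K) := by
  haveI : CompactSpace X := QuasiCompact.compactSpace_of_compactSpace f
  haveI : QuasiSeparatedSpace X := quasiSeparatedSpace_of_quasiSeparated f
  haveI : CompactSpace V := isCompact_iff_compactSpace.1 hV
  haveI : QuasiCompact V.ι := quasiCompact_of_compactSpace _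
  have hUc : IsCompact ((f ⁻¹ᵁ V : X.Opens) : Set X) := f.isCompact_preimage hV
  haveI : CompactSpace (f ⁻¹ᵁ V) := isCompact_iff_compactSpace.1 hUc
  haveI : QuasiCompact (f ⁻¹ᵁ V).ι := quasiCompact_of_compactSpace _
  haveI : QuasiSeparatedSpace (f ⁻¹ᵁ V) := quasiSeparatedSpace_of_quasiSeparated (f ⁻¹ᵁ V).ι
  haveI := DCohShriek.additive_rpush f
  haveI := DCohShriek.additive_rpush (f ∣_ V)
  let r := DQPush.rpushRestrIso f V
  let θ := thetaApp f adj V adjV K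
  have hnat : ∀ {E E' : DCoh.D X} (β : E ⟶ E'), r.inv.app E ≫ (RD V.ι).map ((DCoh.Rpush f).map β) =
      (DCoh.Rpush (f ∣_ V)).map ((RD (f ⁻¹ᵁ V).ι).map β) ≫ r.inv.app E' := fun β => (r.inv.naturality β).symm
  suffices h : ∀ P : DCoh.D X, DCoh.IsPerfect P →
      Function.Bijective fun x : (RD (f ⁻¹ᵁ V).ι).obj P ⟶ (RD (f ⁻¹ᵁ V).ι).obj (a.obj K).obj => x ≫ θ by
    refine isIso_of_bijective_perfect (isQCohD_RD _ (a.obj K).property) (aV.obj ((rdQ V.ι).obj K)).property θ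
      fun F hF => ?_
    obtain ⟨P, hP, ⟨r'⟩⟩ := retT_of_perfect (hasGen X) (f ⁻¹ᵁ V).ι isClosed_univ
      (by rw [Set.compl_univ]; exact isCompact_empty) (F := F) ⟨hF, suppD_univ _⟩
    refine ⟨fun x y hxy => ?_, fun y => ?_⟩
    · have h2 : (r'.r ≫ x) ≫ θ = (r'.r ≫ y) ≫ θ := by
        rw [Category.assoc, Category.assoc]; exact congrArg (r'.r ≫ ·) hxy
      have h3 : r'.r ≫ x = r'.r ≫ y := (h P hP.1).1 h2
      simpa [Retract.retract_assoc] using congrArg (r'.i ≫ ·) h3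
    · obtain ⟨x, hx⟩ := (h P hP.1).2 (r'.r ≫ y)
      exact ⟨r'.i ≫ x, by simpa [Retract.retract_assoc] using congrArg (r'.i ≫ ·) hx⟩
  intro P hP
  have hPq : DCoh.IsQCohD P := isQCohD_of_isPerfect hP
  let η := (adjR V.ι).unit.app K.obj
  have hRq : DCoh.IsQCohD ((DCoh.Rpush V.ι).obj ((RD V.ι).obj K.obj)) :=
    DQPush.isQCohD_rpush V.ι (isQCohD_RD V.ι K.property)
  have hηV : IsIso ((RD V.ι).map η) := isIso_map_unit_adjR V.ι K.obj
  constructor
  · intro x y hxy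
    rw [← sub_eq_zero]
    have hz : (x - y) ≫ θ = 0 := by rw [Preadditive.sub_comp, sub_eq_zero]; exact hxy
    generalize x - y = z at hz ⊢
    obtain ⟨E, β, γ, hE, -, hβ, hγ⟩ := exists_lift_map (hasGen X) (f ⁻¹ᵁ V).ι isClosed_univ
      (by rw [Set.compl_univ]; exact isCompact_empty) hP (suppD_univ _) (a.obj K).property z
    have h1 : (RD V.ι).map (tr adj γ) = 0 := by
      have h2 : (RD (f ⁻¹ᵁ V).ι).map γ ≫ θ = 0 := by rw [← hγ, Category.assoc, hz, comp_zero]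
      have h3 := congrArg (tr adjV) h2
      rw [tr_thetaApp_comp, show tr adjV (0 : (RD (f ⁻¹ᵁ V).ι).obj E ⟶ _) = 0 by simp [tr]] at h3
      rwa [← comp_zero (f := r.inv.app E), cancel_epi] at h3
    have h4 : tr adj γ ≫ η = 0 := by
      apply ((adjR V.ι).homEquiv _ _).symm.injective
      rw [Adjunction.homEquiv_counit, Adjunction.homEquiv_counit, Functor.map_zero, zero_comp,
        Functor.map_comp, h1, zero_comp, zero_comp]
    obtain ⟨G, g, d, hG⟩ := distinguished_cocone_triangle₁ η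
    let G' : DCoh.DQCoh Y := ⟨G, isQCohD_obj₁ _ hG K.property hRq⟩
    obtain ⟨χ, hχ⟩ := Triangle.coyoneda_exact₂ _ hG _ h4
    obtain ⟨α', hα'⟩ := (tr_bijective adj (isQCohD_of_isPerfect hE) G').2 χ
    have hGb : Bdd o G := bdd_obj₁ _ hG hb (bdd_rpush V.ι (bdd_RD V.ι hb))
    have hGV : IsZero ((RD V.ι).obj G) :=
      (Triangle.isZero₁_iff_isIso₂ _ ((RD V.ι).map_distinguished _ hG)).2 hηV
    obtain ⟨E', β', hE', hβ', hk⟩ := killOn_of_isZero_RD (f ⁻¹ᵁ V) hUc (a.obj G').property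
      (isZero_RD_adjoint f adj hfin V G' hGb hGV) hE α'
    have h5 : β' ≫ γ = 0 := tr_eq_zero adj (isQCohD_of_isPerfect hE') (by
      rw [tr_comp, hχ]
      show (DCoh.Rpush f).map β' ≫ χ ≫ g = 0
      rw [← hα', ← Category.assoc, ← tr_comp, hk]
      simp [tr])
    have h6 := congrArg (RD (f ⁻¹ᵁ V).ι).map h5
    rw [Functor.map_comp, Functor.map_zero, ← hγ] at h6
    rw [← cancel_epi ((RD (f ⁻¹ᵁ V).ι).map β), ← cancel_epi ((RD (f ⁻¹ᵁ V).ι).map β'), h6, comp_zero, comp_zero]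
  · intro x
    let y : (RD V.ι).obj ((DCoh.Rpush f).obj P) ⟶ (RD V.ι).obj K.obj := r.hom.app P ≫ tr adjV x
    let ψ := (adjR V.ι).homEquiv _ _ y
    obtain ⟨C, d, e, hC⟩ := distinguished_cocone_triangle η
    let C' : DCoh.DQCoh Y := ⟨C, isQCohD_obj₃ _ hC K.property hRq⟩
    obtain ⟨α'', hα''⟩ := (tr_bijective adj hPq C').2 (ψ ≫ d)
    have hCV : IsZero ((RD V.ι).obj C) :=
      (Triangle.isZero₃_iff_isIso₁ _ ((RD V.ι).map_distinguished _ hC)).2 hηV
    have hCb : Bdd (o.map (· - 1)) C := bdd_obj₃ _ hC hb (bdd_rpush V.ι (bdd_RD V.ι hb))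
    obtain ⟨P', β, hP', hβ, hk⟩ := killOn_of_isZero_RD (f ⁻¹ᵁ V) hUc (a.obj C').property
      (isZero_RD_adjoint f adj (fin'_map _ hfin) V C' hCb hCV) hP α''
    have h1 : ((DCoh.Rpush f).map β ≫ ψ) ≫ d = 0 := by
      rw [Category.assoc, ← hα'', ← tr_comp, hk]; simp [tr]
    obtain ⟨ψ', hψ'⟩ := Triangle.coyoneda_exact₂ _ hC _ h1
    obtain ⟨γ, hγ⟩ := (tr_bijective adj (isQCohD_of_isPerfect hP') K).2 ψ'
    refine ⟨inv ((RD (f ⁻¹ᵁ V).ι).map β) ≫ (RD (f ⁻¹ᵁ V).ι).map γ, ?_⟩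
    show (_ ≫ _) ≫ θ = x
    rw [Category.assoc, IsIso.inv_comp_eq]
    apply (tr_bijective adjV (isQCohD_RD _ (isQCohD_of_isPerfect hP')) ((rdQ V.ι).obj K)).1
    rw [tr_thetaApp_comp, tr_comp]
    have h2 : (RD V.ι).map (tr adj γ) = (RD V.ι).map ((DCoh.Rpush f).map β) ≫ y := by
      apply ((adjR V.ι).homEquiv _ _).injective
      rw [Adjunction.homEquiv_naturality_left, hγ, Adjunction.homEquiv_unit]
      refine Eq.trans ?_ hψ'.symm
      exact ((adjR V.ι).unit.naturality ψ').symm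
    rw [h2, ← Category.assoc, hnat, Category.assoc]
    show _ ≫ r.inv.app P ≫ r.hom.app P ≫ _ = _
    rw [Iso.inv_hom_id_app_assoc]

end Groth.Agent.DCohShriek
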