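import Groth.Agent.DCohShriek.CoherentMain
import Groth.Agent.PerfHom.Basic
import Groth.Agent.CohProperPush.Basic

/-!
# Finiteness of `Ext` on a scheme proper over a noetherian ring
-/

set_option autoImplicit false
set_option backward.isDefEq.respectTransparency false
set_option backward.isDefEq.respectTransparency.types false
set_option linter.style.haveILetI false
set_option linter.unusedSectionVars false

universe u

open CategoryTheory Limits AlgebraicGeometry

attribute [local instance] HasDerivedCategory.standard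

namespace Groth.Agent.DCohShriek

open Groth.Agent.PerfGen

variable {A : Type u} [CommRing A] {X : Scheme.{u}} [X.Over (Spec (CommRingCat.of A))]

instance linear_tensorBi_app (N : X.Modules) : ((DCoh.tensorBi (X := X)).flip.obj N).Linear A :=
  ⟨fun {P Q} f r => (linear_trm (R := A) N).map_smul f r⟩

lemma tensorCx_map_smul_id (C E : CochainComplex X.Modules ℤ) (r : A) :
    ((DCoh.tensorCx (X := X)).map (r • 𝟙 C)).app E = r • 𝟙 ((DCoh.tensorCx.obj C).obj E) := by
  refine HomologicalComplex.hom_ext _ _ fun n => HomologicalComplex.mapBifunctor.hom_ext fun p q h => ?_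
  refine (HomologicalComplex.ι_mapBifunctorMap (r • 𝟙 C) (𝟙 E) (DCoh.tensorBi (X := X)) _ p q n h).trans ?_
  have h1 : ((DCoh.tensorBi (X := X)).map (r • 𝟙 (C.X p))).app (E.X q) = r • 𝟙 _ :=
    (((DCoh.tensorBi (X := X)).flip.obj (E.X q)).map_smul r (𝟙 (C.X p))).trans
      (congrArg (r • ·) (CategoryTheory.Functor.map_id _ _))
  show ((DCoh.tensorBi (X := X)).map (r • 𝟙 (C.X p))).app (E.X q) ≫ _ = _ ≫ (r • 𝟙 _)
  rw [h1]
  simp only [Linear.smul_comp, Linear.comp_smul, HomologicalComplex.id_f,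
    Category.id_comp]
  erw [CategoryTheory.Functor.map_id, Category.id_comp]

lemma ltensor_map_smul_id {E : CochainComplex X.Modules ℤ} (hE : DCoh.IsKFlat E) [DCoh.HasLTensorCx E]
    (M : DCoh.D X) (r : A) : (DCoh.LTensorCx E).map (r • 𝟙 M) = r • 𝟙 _ := by
  obtain ⟨C, ⟨e⟩⟩ : ∃ C, Nonempty (DerivedCategory.Q.obj C ≅ M) :=
    ⟨(DerivedCategory.Q : _ ⥤ DCoh.D X).objPreimage M, ⟨DerivedCategory.Q.objObjPreimageIso M⟩⟩
  have hC : (DCoh.LTensorCx E).map (DerivedCategory.Q.map (r • 𝟙 C)) = r • 𝟙 _ := by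
    haveI := KFlat.isIso_ltCounit_app_of_kFlat hE C
    rw [← cancel_mono ((KFlat.ltCounit E).app C)]
    refine ((KFlat.ltCounit E).naturality (r • 𝟙 C)).trans ?_
    show _ ≫ DerivedCategory.Q.map (((DCoh.tensorCx (X := X)).map (r • 𝟙 C)).app E) = _
    rw [tensorCx_map_smul_id, Functor.map_smul, CategoryTheory.Functor.map_id, Linear.comp_smul, Linear.smul_comp]
    simp
  have h2 : r • 𝟙 M = e.inv ≫ DerivedCategory.Q.map (r • 𝟙 C) ≫ e.hom := by
    rw [Functor.map_smul, CategoryTheory.Functor.map_id]; simp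
  rw [h2, Functor.map_comp, Functor.map_comp, hC]
  simp [← Functor.map_comp]

/-- `- ⊗^L E` is linear -/
lemma linear_ltensor {E : CochainComplex X.Modules ℤ} (hE : DCoh.IsKFlat E) [DCoh.HasLTensorCx E] :
    (DCoh.LTensorCx E).Linear A := ⟨fun {M N} f r => by
  rw [show r • f = (r • 𝟙 M) ≫ f by rw [Linear.smul_comp, Category.id_comp], Functor.map_comp,
    ltensor_map_smul_id hE, Linear.smul_comp, Category.id_comp]⟩

variable [IsNoetherianRing A] [IsProper (X ↘ Spec (CommRingCat.of A))]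

/-- global sections -/
theorem finite_hom_structureModule (G : DCoh.D X) (hG : ∀ i, Coh.IsCoh (DCoh.HD G i)) (a : ℤ) [G.IsGE a] :
    Module.Finite A (DCoh.inD X (Coh.structureModule X) ⟶ G) := by
  let f := X ↘ Spec (CommRingCat.of A)
  haveI : f.IsOver (Spec (CommRingCat.of A)) := isOver_spec f
  haveI := isNoetherian_of_proper f
  haveI := KFlat.hasLpull f
  haveI : DCoh.HasRpush f := DerPush.hasRpush_sch f
  haveI := DCohShriek.additive_rpush f
  haveI := linear_rpush (A := A) f
  have hsupp : ∀ i, ClSub.IsProperOver f (CohB1.support (DCoh.HD G i)) := fun i =>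
    ClSubLib.mono (Z := Set.univ) (ClSubLib.isProperOver_of_subset f (𝟙 X) Set.univ isClosed_univ
      (fun x _ => ⟨x, rfl⟩)) (QC.isClosed_support (hG i).2) (Set.subset_univ _)
  haveI := finite_hom_unit A (K := (DCoh.Rpush f).obj G) (CohProperPush.main f G a hG hsupp)
  obtain ⟨adj⟩ := DerPush.nonempty_lpull_adj_rpush f
  obtain ⟨u⟩ := PerfPush.nonempty_lpull_unit f
  let O := DCoh.inD (Spec (CommRingCat.of A)) (Coh.structureModule _)
  let l : ((DCoh.Lpull f).obj O ⟶ G) →ₗ[A] (O ⟶ (DCoh.Rpush f).obj G) :=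
    (Linear.leftComp A _ (adj.unit.app O)).comp ((DCoh.Rpush f).mapLinearMap A)
  have hl : Function.Bijective l := by
    have : ⇑l = adj.homEquiv O G := funext fun x => (adj.homEquiv_unit _ _ _).symm
    rw [this]
    exact Equiv.bijective _
  haveI : Module.Finite A ((DCoh.Lpull f).obj O ⟶ G) := Module.Finite.equiv (LinearEquiv.ofBijective l hl).symm
  exact Module.Finite.equiv (Linear.homCongr A u (Iso.refl G))

/-- **finiteness of `Ext`** -/
theorem finite_hom_of_proper (K L : DCoh.D X) (hK : ∀ i, Coh.IsCoh (DCoh.HD K i)) (b : ℤ) [K.IsLE b]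
    (hL : ∀ i, Coh.IsCoh (DCoh.HD L i)) (a : ℤ) [L.IsGE a] : Module.Finite A (K ⟶ L) := by
  haveI := isNoetherian_of_proper (X ↘ Spec (CommRingCat.of A))
  have hKq : DCoh.IsQCohD K := fun i => (hK i).1
  obtain ⟨C, hC, -, ⟨eC⟩⟩ := KFlat.exists_isKFlat_rep K
  haveI := KFlat.hasLTensorCx C
  haveI := RHomCx.hasRSheafHom C
  haveI := (DCoh.RSheafHomAdj C).leftAdjoint_preservesColimits
  haveI : PreservesBinaryBiproducts (DCoh.LTensorCx C) := preservesBinaryBiproducts_of_preservesBinaryCoproducts _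
  haveI : (DCoh.LTensorCx C).Additive := Functor.additive_of_preservesBinaryBiproducts _
  haveI := linear_ltensor (A := A) hC
  let e : DCoh.toD X C ≅ K := eC
  have hCpc : ∀ n, DCoh.IsPseudoCoherentD n (DCoh.toD X C) := fun n =>
    DQCoh.pc_of_iso e.symm ((DQCoh.pc_iff_isCoh K hKq n).2 ⟨fun i _ => hK i, b, ‹_›⟩)
  let G := (DCoh.RSheafHom C).obj L
  have hGcoh : ∀ i, Coh.IsCoh (DCoh.HD G i) := fun i =>
    RHomCx.prop_RSheafHom_pseudoCoherent RHomCx.locClass_coh inferInstance C (a - i - 1) (hCpc _) L hL a i (by omega)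
  obtain ⟨I, hI, hge, ⟨eI⟩⟩ := RHomCx.exists_kInjective_rep_ge L a
  haveI := hI
  haveI := hge
  have hle : ((KFlat.resF X).obj C).IsLE b := by
    haveI : (DerivedCategory.Q.obj ((KFlat.resF X).obj C)).IsLE b :=
      DerivedCategory.TStructure.t.isLE_of_iso
        (e.symm ≪≫ (asIso (DerivedCategory.Q.map ((KFlat.resψ X).app C))).symm) b
    exact (DerivedCategory.isLE_Q_obj_iff _ b).1 this
  haveI := hle
  haveI : G.IsGE (a - b) := (DerivedCategory.isGE_iff _ _).2 fun i hi => by
    obtain ⟨e'⟩ := RHomCx.nonempty_HD_RSheafHom' C eI i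
    exact (RHomCx.isZero_homology_GE_of_isLE (KFlat.isKFlat_resF C) b I a i (by omega)).of_iso e'
  haveI := finite_hom_structureModule (A := A) G hGcoh (a - b)
  let O := DCoh.inD X (Coh.structureModule X)
  obtain ⟨v⟩ := PerfHom.nonempty_unit_ltensor (X := X) hC
  let l : (O ⟶ G) →ₗ[A] ((DCoh.LTensorCx C).obj O ⟶ L) :=
    (Linear.rightComp A _ ((DCoh.RSheafHomAdj C).counit.app L)).comp ((DCoh.LTensorCx C).mapLinearMap A)
  have hl : Function.Bijective l := by
    have : ⇑l = ((DCoh.RSheafHomAdj C).homEquiv O L).symm :=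
      funext fun x => ((DCoh.RSheafHomAdj C).homEquiv_counit _ _ _).symm
    rw [this]
    exact Equiv.bijective _
  haveI : Module.Finite A ((DCoh.LTensorCx C).obj O ⟶ L) := Module.Finite.equiv (LinearEquiv.ofBijective l hl)
  exact Module.Finite.equiv (Linear.homCongr A (v ≪≫ e) (Iso.refl L))

end Groth.Agent.DCohShriek
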