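import Groth.Agent.DCohShriek.BaseChange
import Groth.Agent.DQPush.Affine
import Groth.Agent.DQCoh.Affine
import Groth.Prelude.Def_DDual2

/-!
# The right adjoint of direct image along a morphism of affine schemes
-/

set_option autoImplicit false
set_option backward.isDefEq.respectTransparency false
set_option backward.isDefEq.respectTransparency.types false
set_option linter.style.haveILetI false
set_option linter.unusedSectionVars false

universe u

open CategoryTheory Limits AlgebraicGeometry

attribute [local instance] HasDerivedCategory.standard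

noncomputable section

namespace Groth.Agent.DCohShriek

open Groth.Agent.DQCoh (RD rdComp rdCongr)

instance preservesFiniteLimits_tilde' (R : CommRingCat.{u}) : PreservesFiniteLimits (tilde.functor R) :=
  QC.tilde_preservesFiniteLimits

/-- the tilde functor to `D_QCoh` -/
abbrev tildeQ (A : Type u) [CommRing A] : Dual.D A ⥤ DCoh.DQCoh (Spec (CommRingCat.of A)) :=
  ObjectProperty.lift _ (DCoh.tildeD (CommRingCat.of A)) fun M =>
    ((DQCoh.tildeD_affine (R := CommRingCat.of A)).2.2 _).2 ⟨M, ⟨Iso.refl _⟩⟩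

instance isEquivalence_tildeQ (A : Type u) [CommRing A] : (tildeQ A).IsEquivalence := by
  haveI := (DQCoh.tildeD_affine (R := CommRingCat.of A)).1
  haveI := (DQCoh.tildeD_affine (R := CommRingCat.of A)).2.1
  haveI : (tildeQ A).EssSurj := ⟨fun K => by
    obtain ⟨M, ⟨e⟩⟩ := ((DQCoh.tildeD_affine (R := CommRingCat.of A)).2.2 _).1 K.property
    exact ⟨M, ⟨ObjectProperty.isoMk _ e⟩⟩⟩
  exact {}

variable {A B : Type u} [CommRing A] [CommRing B] (φ : A →+* B)
  [DCoh.HasRpush (Spec.map (CommRingCat.ofHom φ))]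
  {hq : DCoh.RpushPreservesQCoh (Spec.map (CommRingCat.ofHom φ))}

/-- direct image on `D_QCoh` is restriction of scalars -/
def rpushQTildeIso :
    tildeQ B ⋙ DCoh.RpushQ (Spec.map (CommRingCat.ofHom φ)) hq ≅ DRing.restrictD φ ⋙ tildeQ A :=
  NatIso.ofComponents (fun M => ObjectProperty.isoMk _ ((DQPush.rpushTildeIso φ).app M))
    (fun f => InducedCategory.hom_ext ((DQPush.rpushTildeIso φ).hom.naturality f))

variable {a : DCoh.DQCoh (Spec (CommRingCat.of A)) ⥤ DCoh.DQCoh (Spec (CommRingCat.of B))}
  (adj : DCoh.RpushQ (Spec.map (CommRingCat.ofHom φ)) hq ⊣ a)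

/-- restriction of scalars has a right adjoint given by `a` -/
abbrev restrictDAdjoint (a : DCoh.DQCoh (Spec (CommRingCat.of A)) ⥤ DCoh.DQCoh (Spec (CommRingCat.of B))) :
    Dual.D A ⥤ Dual.D B :=
  tildeQ A ⋙ a ⋙ (tildeQ B).asEquivalence.inverse

def restrictDAdjunction : DRing.restrictD φ ⊣ restrictDAdjoint a :=
  (((tildeQ B).asEquivalence.toAdjunction.comp adj).comp (tildeQ A).asEquivalence.symm.toAdjunction).ofNatIsoLeft
    (Functor.isoWhiskerRight (rpushQTildeIso φ) _ ≪≫ Functor.associator _ _ _ ≪≫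
      Functor.isoWhiskerLeft _ (tildeQ A).asEquivalence.unitIso.symm ≪≫ Functor.rightUnitor _) |>.ofNatIsoRight
    (Iso.refl _)

include adj in
/-- **the right adjoint on an affine scheme** -/
theorem nonempty_adjoint_tilde {R : Dual.D A ⥤ Dual.D B} (adjR : DRing.restrictD φ ⊣ R) (ω : Dual.D A) :
    Nonempty (((tildeQ B).obj (R.obj ω)) ≅ a.obj ((tildeQ A).obj ω)) :=
  ⟨(tildeQ B).mapIso ((adjR.rightAdjointUniq (restrictDAdjunction φ adj)).app ω) ≪≫
    (tildeQ B).asEquivalence.counitIso.app _⟩

end Groth.Agent.DCohShriek
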