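import Groth.Agent.DCohShriek.Supp
import Groth.Agent.WContr.DCDerived
import Mathlib.AlgebraicGeometry.Group.Affine
import Groth.Agent.PerfGen.TwistGen
import Groth.Agent.DQCoh.AffineAmp
import Groth.Agent.H4Easy.Batch8
import Groth.Agent.PerfPush.Unit
import Groth.Agent.PerfGen.AffineTop
import Groth.Agent.QC.Coherent

/-!
# Finiteness of `Hom` into bounded below coherent objects over an affine noetherian scheme
-/

set_option autoImplicit false
set_option backward.isDefEq.respectTransparency false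
set_option backward.isDefEq.respectTransparency.types false
set_option linter.style.haveILetI false
set_option linter.unusedSectionVars false

universe t v u

open CategoryTheory Limits Pretriangulated AlgebraicGeometry ObjectProperty ZeroObject

namespace Groth.Agent.DCohShriek

/-! ### finiteness of `Hom` is a triangulated property -/

section Fin

variable {R : Type t} [CommRing R] {D : Type u} [Category.{v} D] [Preadditive D] [Linear R D]
  [HasZeroObject D] [HasShift D ℤ] [∀ n : ℤ, (shiftFunctor D n).Additive] [Pretriangulated D]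
  [∀ n : ℤ, (shiftFunctor D n).Linear R]

variable (R) in
/-- all `Hom(W⟦n⟧, K)` are finite -/
def FinHom (K : D) : ObjectProperty D := fun W => ∀ n : ℤ, Module.Finite R (W⟦n⟧ ⟶ K)

instance retracts_finHom (K : D) : (FinHom R K).IsStableUnderRetracts :=
  ⟨fun {X Y} r h n => by
    haveI := h n
    refine Module.Finite.of_surjective (Linear.leftComp R K (r.i⟦n⟧')) fun g => ⟨r.r⟦n⟧' ≫ g, ?_⟩
    show r.i⟦n⟧' ≫ r.r⟦n⟧' ≫ g = g
    rw [← Category.assoc, ← Functor.map_comp, r.retract, CategoryTheory.Functor.map_id, Category.id_comp]⟩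

instance shift_finHom (K : D) : (FinHom R K).IsStableUnderShift ℤ :=
  ⟨fun m => ⟨fun W h n => by
    haveI := h (m + n)
    exact Module.Finite.equiv (Linear.homCongr R ((shiftFunctorAdd D m n).app W) (Iso.refl K))⟩⟩

lemma finHom_ext₂ [IsNoetherianRing R] (K : D) (T : Triangle D) (hT : T ∈ distTriang D)
    (h₁ : FinHom R K T.obj₁) (h₃ : FinHom R K T.obj₃) : FinHom R K T.obj₂ := fun n => by
  haveI := h₁ n
  haveI := h₃ n
  let g := Linear.leftComp R K (T.mor₂⟦n⟧')
  let f := Linear.leftComp R K (T.mor₁⟦n⟧')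
  have h12 : T.mor₁⟦n⟧' ≫ T.mor₂⟦n⟧' = 0 := by
    rw [← Functor.map_comp, comp_distTriang_mor_zero₁₂ _ hT, Functor.map_zero]
  have hex : LinearMap.range g = LinearMap.ker f := by
    ext φ
    constructor
    · rintro ⟨ψ, rfl⟩
      show T.mor₁⟦n⟧' ≫ T.mor₂⟦n⟧' ≫ ψ = 0
      rw [← Category.assoc, h12, zero_comp]
    · intro hφ
      obtain ⟨ψ, hψ⟩ := Triangle.yoneda_exact₂ _ (Triangle.shift_distinguished _ hT n) φ (by
        show (n.negOnePow • T.mor₁⟦n⟧') ≫ φ = 0
        rw [Units.smul_def, Preadditive.zsmul_comp, show T.mor₁⟦n⟧' ≫ φ = 0 from hφ, smul_zero])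
      refine ⟨(n.negOnePow : ℤ) • ψ, ?_⟩
      rw [hψ]
      show T.mor₂⟦n⟧' ≫ _ = (n.negOnePow • T.mor₂⟦n⟧') ≫ ψ
      rw [Units.smul_def, Preadditive.zsmul_comp, Preadditive.comp_zsmul]
  haveI : IsNoetherian R (T.obj₂⟦n⟧ ⟶ K) := isNoetherian_of_range_eq_ker g f hex
  infer_instance

instance triangulatedClosed₂_finHom [IsNoetherianRing R] (K : D) : (FinHom R K).IsTriangulatedClosed₂ :=
  IsTriangulatedClosed₂.mk' fun T hT h₁ h₃ => finHom_ext₂ K T hT h₁ h₃

instance containsZero_finHom (K : D) : (FinHom R K).ContainsZero :=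
  ⟨⟨0, isZero_zero D, fun n => by
    haveI : Subsingleton ((0 : D)⟦n⟧ ⟶ K) :=
      ⟨((shiftFunctor D n).map_isZero (isZero_zero D)).eq_of_src⟩
    infer_instance⟩⟩

instance isTriangulated_finHom [IsNoetherianRing R] (K : D) : (FinHom R K).IsTriangulated := {}

end Fin

attribute [local instance] HasDerivedCategory.standard

open Groth.Agent.PerfGen
open Groth.Agent.DQCoh (isQCoh_cohomology_of_pseudoCoherent)

/-- coherence is invariant under isomorphism -/
lemma isCoh_iso {X : Scheme.{u}} {M N : X.Modules} (e : M ≅ N) (hM : Coh.IsCoh M) : Coh.IsCoh N :=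
  QC.isCoh_of_epi hM (QC.isQCoh_of_iso e hM.1) e.hom

/-! ### the affine case -/

section Spec

variable (A : Type u) [CommRing A]

local notation "SA" => Spec (CommRingCat.of A)

lemma toGlobal_spec (a : A) :
    Coh.toGlobal (Spec (CommRingCat.of A) ↘ Spec (CommRingCat.of A)) a = (Scheme.ΓSpecIso (CommRingCat.of A)).inv a := by
  have h : Spec (CommRingCat.of A) ↘ Spec (CommRingCat.of A) = 𝟙 _ := by
    rw [specOverSpec_over]
    exact Spec.map_id (CommRingCat.of A)
  rw [h]
  rfl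

lemma smul_id_app_top_spec (M : (Spec (CommRingCat.of A)).Modules) (a : A) (m : Γ(M, ⊤)) :
    (a • 𝟙 M : M ⟶ M).app ⊤ m =
      (Spec (CommRingCat.of A)).presheaf.map (homOfLE (le_top : (⊤ : (Spec (CommRingCat.of A)).Opens) ≤ ⊤)).op ((Scheme.ΓSpecIso (CommRingCat.of A)).inv a) • m := by
  rw [KLin.smul_app_apply, toGlobal_spec]
  rfl

instance linear_tilde_spec : (tilde.functor (CommRingCat.of A)).Linear A := by
  refine (Functor.linear_iff A _).2 fun M a => ?_
  refine (tilde.adjunction.homEquiv _ _).injective ?_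
  rw [Adjunction.homEquiv_apply, Adjunction.homEquiv_apply]
  ext m
  show (tilde.map (a • 𝟙 M)).app ⊤ ((tilde.toOpen M ⊤).hom m) =
    (a • 𝟙 (tilde M) : tilde M ⟶ tilde M).app ⊤ ((tilde.toOpen M ⊤).hom m)
  rw [smul_id_app_top_spec]
  have h1 := ConcreteCategory.congr_hom (tilde.toOpen_map_app (a • 𝟙 M) (⊤ : (Spec (CommRingCat.of A)).Opens)) m
  exact h1.trans ((tilde.toOpen M ⊤).hom.map_smul a m)

theorem exists_hom_unit_equiv {K : DCoh.D SA} (hK : DCoh.IsQCohD K) :
    ∃ H : ModuleCat.{u} A, Nonempty (DCoh.HD K 0 ≅ tilde (R := CommRingCat.of A) H) ∧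
      Nonempty ((DCoh.inD SA (Coh.structureModule SA) ⟶ K) ≃ₗ[A] H) := by
  haveI : PreservesFiniteLimits (tilde.functor (CommRingCat.of A)) := QC.tilde_preservesFiniteLimits
  obtain ⟨hfull, hfaith, hess⟩ := DQCoh.tildeD_affine (R := CommRingCat.of A)
  haveI := hfull
  haveI := hfaith
  obtain ⟨M, ⟨e⟩⟩ := (hess K).1 hK
  let T := DCoh.tildeD (CommRingCat.of A)
  haveI : T.Linear A := inferInstanceAs ((tilde.functor (CommRingCat.of A)).mapDerivedCategory.Linear A)
  let A₀ := (DerivedCategory.singleFunctor (ModuleCat.{u} A) 0).obj (ModuleCat.of A A)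
  let eO : T.obj A₀ ≅ DCoh.inD SA (Coh.structureModule SA) :=
    ((tilde.functor (CommRingCat.of A)).mapDerivedCategorySingleFunctor 0).app (ModuleCat.of A A) ≪≫
      (DerivedCategory.singleFunctor _ 0).mapIso (tildeSelf (R := CommRingCat.of A))
  refine ⟨(DerivedCategory.homologyFunctor (ModuleCat.{u} A) 0).obj M,
    ⟨(DerivedCategory.homologyFunctor (Spec (CommRingCat.of A)).Modules 0).mapIso e.symm ≪≫
      DQCoh.hdTildeIso (R := CommRingCat.of A) M 0⟩, ⟨?_⟩⟩
  exact (Linear.homCongr A eO e).symm ≪≫ₗ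
    (LinearEquiv.ofBijective (T.mapLinearMap A (X := A₀) (Y := M))
      ((Functor.FullyFaithful.ofFullyFaithful T).map_bijective A₀ M)).symm ≪≫ₗ
    WContr.DC.evEquiv (R := A) (ModuleCat.of A A) M ≪≫ₗ
    (ModuleCat.homLinearEquiv (S := A)).trans (LinearMap.ringLmapEquivSelf A A _)

theorem finite_hom_unit {K : DCoh.D SA} (hK : ∀ i, Coh.IsCoh (DCoh.HD K i)) :
    Module.Finite A (DCoh.inD SA (Coh.structureModule SA) ⟶ K) := by
  obtain ⟨H, ⟨e⟩, ⟨l⟩⟩ := exists_hom_unit_equiv A fun i => (hK i).1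
  haveI : Module.Finite A H :=
    (H4Easy.isFT_tilde_iff (CommRingCat.of A) H).1 (QC.isFT_of_epi e.hom (hK 0).2)
  exact Module.Finite.equiv l.symm

/-- coherence detected by finiteness of maps from `O` -/
theorem isCoh_HD_of_finite {K : DCoh.D SA} (hK : DCoh.IsQCohD K) (i : ℤ)
    (h : Module.Finite A (DCoh.inD SA (Coh.structureModule SA) ⟶ K⟦i⟧)) : Coh.IsCoh (DCoh.HD K i) := by
  obtain ⟨H, ⟨e⟩, ⟨l⟩⟩ := exists_hom_unit_equiv A (K := K⟦i⟧) (isQCohD_shift hK i)
  haveI := h
  haveI : Module.Finite A H := Module.Finite.equiv l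
  exact isCoh_iso (e.symm ≪≫
      ((DerivedCategory.homologyFunctor (Spec (CommRingCat.of A)).Modules 0).shiftIso i 0 i (by omega)).app K)
    ⟨QC.isQCoh_tilde (R := CommRingCat.of A) H, (H4Easy.isFT_tilde_iff (CommRingCat.of A) H).2 inferInstance⟩

/-- maps out of a perfect object -/
theorem finite_hom_perfect [IsNoetherianRing A] {P : DCoh.D SA} (hP : DCoh.IsPerfect P) {K : DCoh.D SA}
    (hK : ∀ i, Coh.IsCoh (DCoh.HD K i)) : Module.Finite A (P ⟶ K) := by
  let O := DCoh.inD SA (Coh.structureModule SA)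
  have hO : FinHom A K O := fun n => by
    let K' := K⟦-n⟧
    haveI := finite_hom_unit A (K := K') fun i => isCoh_iso
      (((DerivedCategory.homologyFunctor (Spec (CommRingCat.of A)).Modules 0).shiftIso (-n) i (-n + i) rfl).app K).symm
      (hK _)
    let c := (shiftFunctorCompIsoId (DCoh.D SA) n (-n) (add_neg_cancel n)).app O
    haveI : Module.Finite A ((O⟦n⟧)⟦-n⟧ ⟶ K') :=
      @Module.Finite.equiv A _ _ _ _ _ _ _ (inferInstanceAs (Module.Finite A (O ⟶ K')))
        (Linear.homCongr A (show O ≅ (O⟦n⟧)⟦-n⟧ from c.symm) (Iso.refl K'))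
    exact Module.Finite.equiv (LinearEquiv.ofBijective
      ((shiftFunctor (DCoh.D SA) (-n)).mapLinearMap A (X := O⟦n⟧) (Y := K))
      ((Functor.FullyFaithful.ofFullyFaithful (shiftFunctor (DCoh.D SA) (-n))).map_bijective _ _)).symm
  have hOp : DCoh.IsPerfect O := PerfPush.isPerfect_unit _
  obtain ⟨W, p, q, hW, hpq⟩ := exists_fac (localizing_qcohD SA) (localizing_qcohD SA) (fun _ h => h)
    (isQCohD_of_isPerfect hOp) (cpt_of_perfect hOp) (gen_unit_affine SA) (isQCohD_of_isPerfect hP)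
    (cpt_of_perfect hP) (𝟙 P)
  haveI : (only O).Nonempty := ⟨⟨O, rfl⟩⟩
  have hWf : FinHom A K W := (triangEnvelope_le_iff (P := only O)).2 (fun Z hZ => by cases hZ; exact hO) _ hW.1
  haveI := (FinHom A K).prop_of_retract ⟨p, q, hpq⟩ hWf 0
  exact Module.Finite.equiv (Linear.homCongr A ((shiftFunctorZero (DCoh.D SA) ℤ).app P) (Iso.refl K))

/-- maps out of a pseudo-coherent object -/
theorem finite_hom_pc [IsNoetherianRing A] {E : DCoh.D SA} (hE : ∀ m, DCoh.IsPseudoCoherentD m E) {K : DCoh.D SA}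
    (hK : ∀ i, Coh.IsCoh (DCoh.HD K i)) (c : ℤ) (hc : ∀ i, i < c → IsZero (DCoh.HD K i)) :
    Module.Finite A (E ⟶ K) := by
  obtain ⟨r, hr⟩ := hasApprox SA Set.univ isClosed_univ (by simp)
  have hq : DCoh.IsQCohD E := fun i => (isQCoh_cohomology_of_pseudoCoherent (i - 1) E (hE _)).1 i (by omega)
  obtain ⟨P, C, g, w, d, hT, hP, hC⟩ := hr (c - 1) _ hq (hE _) (fun i _ => Set.subset_univ _)
  haveI := finite_hom_perfect A hP.1 hK
  refine Module.Finite.of_injective (Linear.leftComp A K g) fun φ φ' h => ?_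
  obtain ⟨χ, hχ⟩ := Triangle.yoneda_exact₂ _ hT (φ - φ') (by
    show g ≫ (φ - φ') = 0
    rw [Preadditive.comp_sub, sub_eq_zero]; exact h)
  rw [← sub_eq_zero, hχ, eq_zero_of_le_ge (a := c - 2) (b := c) (by omega) (fun i hi => hC i (by omega)) hc χ,
    comp_zero]

end Spec

end Groth.Agent.DCohShriek
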