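import Groth.Agent.DCohShriek.DualizingField
import Groth.Agent.DualCx.RightAdjoint
import Mathlib.RingTheory.Jacobson.Ring
import Mathlib.Algebra.Category.ModuleCat.ChangeOfRings

/-! The dualizing complex of a proper scheme over a field does not depend on the base field. -/

set_option autoImplicit false
set_option linter.style.haveILetI false
set_option backward.isDefEq.respectTransparency false
set_option backward.isDefEq.respectTransparency.types false
universe u

open CategoryTheory Limits AlgebraicGeometry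

attribute [local instance] HasDerivedCategory.standard

noncomputable section

namespace Groth.Agent.DCohShriek

open Groth.Agent.DQCoh (RD rdComp rdCongr)
open Groth.Agent.PerfGen

variable {k k' : Type u} [Field k] [Field k'] [Algebra k k'] {X : Scheme.{u}}

/-- a nonempty scheme of finite type over `k` and over `k'` forces `k'` finite over `k` -/
theorem finite_baseField [Nonempty X] (f : X ⟶ Spec (CommRingCat.of k)) [LocallyOfFiniteType f]
    (f' : X ⟶ Spec (CommRingCat.of k')) (w : f' ≫ Spec.map (CommRingCat.ofHom (algebraMap k k')) = f) :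
    Module.Finite k k' := by
  obtain ⟨U, hU, hxU⟩ := QC.exists_affine_mem (Classical.arbitrary X)
  let R := Γ(X, U)
  let ψ' : CommRingCat.of k' ⟶ R := Spec.preimage (hU.fromSpec ≫ f')
  haveI : Nontrivial R := by
    obtain ⟨z, -⟩ := hU.range_fromSpec.ge hxU
    haveI : Nonempty (PrimeSpectrum R) := ⟨z⟩
    exact PrimeSpectrum.nonempty_iff_nontrivial.1 ‹_›
  letI : Algebra k R := (ψ'.hom.comp (algebraMap k k')).toAlgebra
  have hft : Algebra.FiniteType k R := by
    have h : hU.fromSpec ≫ f = Spec.map (CommRingCat.ofHom (algebraMap k k') ≫ ψ') := by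
      rw [Spec.map_comp, ← w, ← Category.assoc, Spec.map_preimage]
    haveI : LocallyOfFiniteType (hU.fromSpec ≫ f) := inferInstance
    rw [h, HasRingHomProperty.Spec_iff (P := @LocallyOfFiniteType)] at this
    exact this
  obtain ⟨m, hm⟩ := Ideal.exists_maximal R
  letI : Field (R ⧸ m) := Ideal.Quotient.field m
  haveI : Algebra.FiniteType k (R ⧸ m) := hft.of_surjective (Ideal.Quotient.mkₐ k m) Ideal.Quotient.mk_surjective
  haveI : Module.Finite k (R ⧸ m) := finite_of_finite_type_of_isJacobsonRing k (R ⧸ m)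
  let g : k' →+* (R ⧸ m) := (Ideal.Quotient.mk m).comp ψ'.hom
  exact Module.Finite.of_injective
    ({ g with commutes' := fun r => rfl } : k' →ₐ[k] (R ⧸ m)).toLinearMap g.injective

/-- `Hom_k(k', k) ≅ k'` -/
theorem nonempty_coext_iso [Module.Finite k k'] :
    Nonempty ((ModuleCat.coextendScalars.{u} (algebraMap k k')).obj (ModuleCat.of k k) ≅ ModuleCat.of k' k') := by
  let φ : k →+* k' := algebraMap k k'
  let N := ((ModuleCat.restrictScalars.{u} φ).obj (ModuleCat.of k' k') →ₗ[k] ModuleCat.of k k)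
  let e := Module.finBasis k k'
  let i₀ : Fin (Module.finrank k k') := ⟨0, Module.finrank_pos⟩
  let c : k' →ₗ[k] k := e.coord i₀
  have aux : ∀ (r : k) (x : k'), c (φ r * x) = r * c x := fun r x => by
    rw [← Algebra.smul_def, map_smul, smul_eq_mul]
  let φ₀ : N :=
    { toFun := fun x => c (x : k')
      map_add' := fun x y => c.map_add (x : k') (y : k')
      map_smul' := fun r x => aux r x }
  have h0 : c (e i₀) = 1 := by simp [c]
  let L : k' →ₗ[k'] N := LinearMap.toSpanSingleton k' N φ₀
  have happ : ∀ a x : k', (L a) x = c (x * a) := fun a x => rfl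
  have hinj : Function.Injective L := (injective_iff_map_eq_zero _).2 fun a ha => by
    by_contra hne
    have h1 := happ a (e i₀ * a⁻¹)
    rw [ha, mul_assoc, inv_mul_cancel₀ hne, mul_one, h0] at h1
    exact one_ne_zero h1.symm
  let T : k' →ₗ[k] (k' →ₗ[k] k) :=
    LinearMap.mk₂ k (fun a x => c (x * a)) (fun a a' x => by simp [mul_add])
      (fun r a x => by rw [Algebra.smul_def, mul_left_comm]; exact aux r _)
      (fun a x x' => by simp [add_mul])
      (fun r a x => by rw [Algebra.smul_def, mul_assoc]; exact aux r _)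
  have hT : Function.Injective T := (injective_iff_map_eq_zero _).2 fun a ha => by
    by_contra hne
    have h1 := LinearMap.congr_fun ha (e i₀ * a⁻¹)
    simp only [T, LinearMap.mk₂_apply, mul_assoc, inv_mul_cancel₀ hne, mul_one, h0, LinearMap.zero_apply] at h1
    exact one_ne_zero h1
  have hsurj : Function.Surjective T :=
    (LinearMap.injective_iff_surjective_of_finrank_eq_finrank Subspace.dual_finrank_eq.symm).1 hT
  have hLs : Function.Surjective L := fun ψ => by
    obtain ⟨a, ha⟩ := hsurj
      { toFun := fun x => ψ x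
        map_add' := fun x y => ψ.map_add x y
        map_smul' := fun r x => by
          rw [Algebra.smul_def]
          exact ψ.map_smul r x }
    exact ⟨a, LinearMap.ext fun x => (happ a x).trans (LinearMap.congr_fun ha x)⟩
  exact ⟨(LinearEquiv.toModuleIso (LinearEquiv.ofBijective L ⟨hinj, hLs⟩)).symm⟩

variable {X : Scheme.{u}}

/-- the main theorem -/
theorem nonempty_iso_baseField (f : X ⟶ Spec (CommRingCat.of k)) [IsProper f]
    (f' : X ⟶ Spec (CommRingCat.of k')) (w : f' ≫ Spec.map (CommRingCat.ofHom (algebraMap k k')) = f)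
    [DCoh.HasRpush f] (hf : DCoh.RpushPreservesQCoh f) {a : DCoh.DQCoh (Spec (CommRingCat.of k)) ⥤ DCoh.DQCoh X}
    (adj : DCoh.RpushQ f hf ⊣ a) [DCoh.HasRpush f'] (hf' : DCoh.RpushPreservesQCoh f')
    {a' : DCoh.DQCoh (Spec (CommRingCat.of k')) ⥤ DCoh.DQCoh X} (adj' : DCoh.RpushQ f' hf' ⊣ a')
    (O : DCoh.DQCoh (Spec (CommRingCat.of k))) (eO : O.obj ≅ DCoh.inD _ (Coh.structureModule _))
    (O' : DCoh.DQCoh (Spec (CommRingCat.of k'))) (eO' : O'.obj ≅ DCoh.inD _ (Coh.structureModule _)) :
    Nonempty ((a.obj O).obj ≅ (a'.obj O').obj) := by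
  rcases isEmpty_or_nonempty X with hX | hX
  · have hz : ∀ E : DCoh.D X, IsZero E := fun E =>
      ((isZero_RD_iff (𝟙 X) E).2 fun i x _ => (IsEmpty.false x).elim).of_iso ((rdId X).app E).symm
    exact ⟨(hz _).iso (hz _)⟩
  haveI := finite_baseField f f' w
  let φ : k →+* k' := algebraMap k k'
  let g := Spec.map (CommRingCat.ofHom φ)
  haveI : DCoh.HasRpush g := DerPush.hasRpush_sch _
  haveI : CompactSpace X := QuasiCompact.compactSpace_of_compactSpace f
  have hg : DCoh.RpushPreservesQCoh g := fun E hE => DQPush.isQCohD_rpush g hE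
  haveI := isLeftAdjoint_rpushQ g hg
  let ag := (DCoh.RpushQ g hg).rightAdjoint
  let adjg : DCoh.RpushQ g hg ⊣ ag := Adjunction.ofIsLeftAdjoint _
  let ea : ag ⋙ a' ≅ a :=
    ((adj'.comp adjg).ofNatIsoLeft (rpushQComp f' g f w hf' hg hf).symm).rightAdjointUniq adj
  let F := ModuleCat.restrictScalars.{u} φ
  let cadj := ModuleCat.restrictCoextendScalarsAdj.{u} φ
  let I : CochainComplex (ModuleCat.{u} k) ℤ :=
    (CochainComplex.singleFunctor (ModuleCat.{u} k) 0).obj (ModuleCat.of k k)
  haveI : ∀ i, Injective (I.X i) := fun i =>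
    (Module.injective_iff_injective_object k (I.X i)).1 (Module.injective_of_isSemisimpleRing k _)
  haveI : I.IsKInjective := CochainComplex.isKInjective_of_injective I 0
  let Rd := restrictDAdjoint ag
  obtain ⟨eW⟩ := DualCx.nonempty_iso_of_adj (restrictDAdjunction φ adjg) (DualCx.raCounit cadj I)
    (fun Y => DualCx.raCounit_bijective cadj I Y)
  obtain ⟨ec⟩ := nonempty_coext_iso (k := k) (k' := k')
  let eQ := (DerivedCategory.singleFunctorIsoCompQ (ModuleCat.{u} k) 0).app (ModuleCat.of k k)
  let eQ' := (DerivedCategory.singleFunctorIsoCompQ (ModuleCat.{u} k') 0).app (ModuleCat.of k' k')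
  let eI : Dual.inD k' k' ≅ Rd.obj (Dual.inD k k) :=
    eQ' ≪≫ DerivedCategory.Q.mapIso
      (((HomologicalComplex.singleMapHomologicalComplex (ModuleCat.coextendScalars.{u} φ) (ComplexShape.up ℤ) 0).app
        (ModuleCat.of k k)) ≪≫ (HomologicalComplex.single _ (ComplexShape.up ℤ) 0).mapIso ec).symm ≪≫
      eW ≪≫ Rd.mapIso eQ.symm
  obtain ⟨eR⟩ := nonempty_adjoint_tilde φ adjg (restrictDAdjunction φ adjg) (Dual.inD k k)
  let st : ∀ (F : Type u) [Field F], DCoh.inD (Spec (CommRingCat.of F)) (Coh.structureModule _) ≅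
      ((tildeQ F).obj (Dual.inD F F)).obj := fun F _ =>
    (DerivedCategory.singleFunctor _ 0).mapIso (tildeSelf (R := CommRingCat.of F)).symm ≪≫
      (((tilde.functor (CommRingCat.of F)).mapDerivedCategorySingleFunctor 0).app (ModuleCat.of F F)).symm
  let eO1 : O ≅ (tildeQ k).obj (Dual.inD k k) := ObjectProperty.isoMk _ (eO ≪≫ st k)
  let eO2 : O' ≅ (tildeQ k').obj (Dual.inD k' k') := ObjectProperty.isoMk _ (eO' ≪≫ st k')
  exact ⟨(ObjectProperty.ι _).mapIso ((ea.app O).symm ≪≫
    a'.mapIso (ag.mapIso eO1 ≪≫ eR.symm ≪≫ (tildeQ k').mapIso eI.symm ≪≫ eO2.symm))⟩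

end Groth.Agent.DCohShriek
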