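import Groth.Agent.DCohShriek.HomFinite
import Groth.Agent.DCohShriek.SuppApps
import Groth.Agent.DQCoh.PerfCrit

/-!
# Finiteness of `Hom(P, a K)` for a proper morphism to an affine noetherian scheme
-/

set_option autoImplicit false
set_option backward.isDefEq.respectTransparency false
set_option backward.isDefEq.respectTransparency.types false
set_option linter.style.haveILetI false
set_option linter.unusedSectionVars false

universe u

open CategoryTheory Limits Pretriangulated AlgebraicGeometry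

attribute [local instance] HasDerivedCategory.standard

namespace Groth.Agent.DCohShriek

open Groth.Agent.PerfGen

variable {A : Type u} [CommRing A] {X : Scheme.{u}}

lemma isOver_spec (h : X ⟶ Spec (CommRingCat.of A)) :
    letI : X.Over (Spec (CommRingCat.of A)) := ⟨h⟩
    h.IsOver (Spec (CommRingCat.of A)) := by
  letI : X.Over (Spec (CommRingCat.of A)) := ⟨h⟩
  refine ⟨?_⟩
  rw [show Spec (CommRingCat.of A) ↘ Spec (CommRingCat.of A) = 𝟙 _ by
    rw [specOverSpec_over]; exact Spec.map_id (CommRingCat.of A)]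
  exact Category.comp_id h

/-- **maps from perfect objects to `a K` form finite modules** -/
theorem finite_hom_adjoint [IsNoetherianRing A] [X.Over (Spec (CommRingCat.of A))]
    (h : X ⟶ Spec (CommRingCat.of A)) [h.IsOver (Spec (CommRingCat.of A))] [IsProper h] [DCoh.HasRpush h]
    {hq : DCoh.RpushPreservesQCoh h} {a : DCoh.DQCoh (Spec (CommRingCat.of A)) ⥤ DCoh.DQCoh X}
    (adj : DCoh.RpushQ h hq ⊣ a) (K : DCoh.DQCoh (Spec (CommRingCat.of A)))
    (hK : ∀ i, Coh.IsCoh (DCoh.HD K.obj i)) (c : ℤ) (hc : ∀ i, i < c → IsZero (DCoh.HD K.obj i))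
    {P : DCoh.D X} (hP : DCoh.IsPerfect P) : Module.Finite A (P ⟶ (a.obj K).obj) := by
  haveI : IsNoetherian (Spec (CommRingCat.of A)) := inferInstance
  haveI := DCohShriek.additive_rpush h
  haveI := linear_rpush (A := A) h
  have hpc : ∀ m, DCoh.IsPseudoCoherentD m ((DCoh.Rpush h).obj P) := by
    rcases fin'_some h c P hP with hp | ⟨-, hp⟩
    · exact fun m => DQCoh.pc_of_perfect hp m
    · exact hp
  haveI := finite_hom_pc A hpc hK c hc
  let trL : (P ⟶ (a.obj K).obj) →ₗ[A] ((DCoh.Rpush h).obj P ⟶ K.obj) :=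
    { toFun := fun α => tr adj α
      map_add' := fun α β => by
        show (DCoh.Rpush h).map (α + β) ≫ _ = (DCoh.Rpush h).map α ≫ _ + (DCoh.Rpush h).map β ≫ _
        rw [Functor.map_add, Preadditive.add_comp]
      map_smul' := fun r α => by
        show (DCoh.Rpush h).map (r • α) ≫ _ = r • ((DCoh.Rpush h).map α ≫ _)
        rw [Functor.map_smul, Linear.smul_comp] }
  exact Module.Finite.equiv (LinearEquiv.ofBijective trL (tr_bijective adj (isQCohD_of_isPerfect hP) K)).symm

section Transfer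

variable {B : Type u} [CommRing B]

lemma smul_eq_smul [X.Over (Spec (CommRingCat.of A))] [X.Over (Spec (CommRingCat.of B))] (a : A) (b : B)
    (hab : Coh.toGlobal (X ↘ Spec (CommRingCat.of A)) a = Coh.toGlobal (X ↘ Spec (CommRingCat.of B)) b)
    {E F : DCoh.D X} (f : E ⟶ F) : a • f = b • f := by
  obtain ⟨K, ⟨e⟩⟩ : ∃ K, Nonempty (DerivedCategory.Q.obj K ≅ E) :=
    ⟨(DerivedCategory.Q : _ ⥤ DCoh.D X).objPreimage E, ⟨DerivedCategory.Q.objObjPreimageIso E⟩⟩
  have hK : a • 𝟙 K = b • 𝟙 K := by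
    refine HomologicalComplex.hom_ext _ _ fun n => ?_
    show a • 𝟙 (K.X n) = b • 𝟙 (K.X n)
    rw [KLin.smul_id, KLin.smul_id]
    show Formal.smulModΓ _ _ = Formal.smulModΓ _ _
    exact congrArg (Formal.smulModΓ (K.X n)) hab
  have hE : a • 𝟙 E = b • 𝟙 E := by
    have hA : a • 𝟙 E = e.inv ≫ DerivedCategory.Q.map (a • 𝟙 K) ≫ e.hom := by
      rw [Functor.map_smul, CategoryTheory.Functor.map_id]; simp
    have hB : b • 𝟙 E = e.inv ≫ DerivedCategory.Q.map (b • 𝟙 K) ≫ e.hom := by
      rw [Functor.map_smul, CategoryTheory.Functor.map_id]; simp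
    rw [hA, hB, hK]
  calc a • f = (a • 𝟙 E) ≫ f := by rw [Linear.smul_comp, Category.id_comp]
    _ = (b • 𝟙 E) ≫ f := by rw [hE]
    _ = b • f := by rw [Linear.smul_comp, Category.id_comp]

end Transfer

/-- **the right adjoint for a proper morphism of affine schemes preserves coherence** -/
theorem coh_spec_adjoint [IsNoetherianRing A] {B : Type u} [CommRing B]
    (h : Spec (CommRingCat.of B) ⟶ Spec (CommRingCat.of A)) [IsProper h] [DCoh.HasRpush h]
    {hq : DCoh.RpushPreservesQCoh h}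
    {a : DCoh.DQCoh (Spec (CommRingCat.of A)) ⥤ DCoh.DQCoh (Spec (CommRingCat.of B))}
    (adj : DCoh.RpushQ h hq ⊣ a) (K : DCoh.DQCoh (Spec (CommRingCat.of A)))
    (hK : ∀ i, Coh.IsCoh (DCoh.HD K.obj i)) (c : ℤ) (hc : ∀ i, i < c → IsZero (DCoh.HD K.obj i)) (i : ℤ) :
    Coh.IsCoh (DCoh.HD (a.obj K).obj i) := by
  letI : (Spec (CommRingCat.of B)).Over (Spec (CommRingCat.of A)) := ⟨h⟩
  haveI : h.IsOver (Spec (CommRingCat.of A)) := isOver_spec h
  let O := DCoh.inD (Spec (CommRingCat.of B)) (Coh.structureModule (Spec (CommRingCat.of B)))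
  let φ : A → B := fun r => (Scheme.ΓSpecIso (CommRingCat.of B)).hom (Coh.toGlobal h r)
  have hφ : ∀ r, Coh.toGlobal h r = Coh.toGlobal (Spec (CommRingCat.of B) ↘ Spec (CommRingCat.of B)) (φ r) := fun r => by
    rw [toGlobal_spec]
    exact (congrArg (fun ψ => ψ.hom (Coh.toGlobal h r)) (Scheme.ΓSpecIso (CommRingCat.of B)).hom_inv_id).symm
  refine isCoh_HD_of_finite B (a.obj K).property i ?_
  have hO : DCoh.IsPerfect (O⟦-i⟧) := DQCoh.perfect_shift (PerfPush.isPerfect_unit _) _
  haveI := finite_hom_adjoint h adj K hK c hc hO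
  obtain ⟨s, hs⟩ := Module.Finite.fg_top (R := A) (M := O⟦-i⟧ ⟶ (a.obj K).obj)
  haveI : Module.Finite B (O⟦-i⟧ ⟶ (a.obj K).obj) := by
    refine ⟨⟨s, ?_⟩⟩
    rw [eq_top_iff]
    intro x hxt; clear hxt
    have hx : x ∈ Submodule.span A (s : Set (O⟦-i⟧ ⟶ (a.obj K).obj)) := by rw [hs]; exact Submodule.mem_top
    induction hx using Submodule.span_induction with
    | mem y hy => exact Submodule.subset_span hy
    | zero => exact Submodule.zero_mem _
    | add y z _ _ hy hz => exact Submodule.add_mem _ hy hz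
    | smul r y _ hy => rw [smul_eq_smul r (φ r) (hφ r)]; exact Submodule.smul_mem _ _ hy
  let c₀ := (shiftFunctorCompIsoId (DCoh.D (Spec (CommRingCat.of B))) (-i) i (neg_add_cancel i)).app O
  haveI : Module.Finite B ((O⟦-i⟧)⟦i⟧ ⟶ (a.obj K).obj⟦i⟧) :=
    Module.Finite.equiv (LinearEquiv.ofBijective
      ((shiftFunctor (DCoh.D (Spec (CommRingCat.of B))) i).mapLinearMap B (X := O⟦-i⟧) (Y := (a.obj K).obj))
      ((Functor.FullyFaithful.ofFullyFaithful (shiftFunctor (DCoh.D (Spec (CommRingCat.of B))) i)).map_bijective _ _))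
  exact Module.Finite.equiv (Linear.homCongr B (show (O⟦-i⟧)⟦i⟧ ≅ O from c₀) (Iso.refl ((a.obj K).obj⟦i⟧)))

end Groth.Agent.DCohShriek
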