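import Groth.Agent.DCohShriek.Compact

/-!
# The upper shriek functor of a composite
-/

set_option autoImplicit false
set_option backward.isDefEq.respectTransparency false
set_option backward.isDefEq.respectTransparency.types false
set_option linter.style.haveILetI false
set_option linter.unusedSectionVars false

universe u

open CategoryTheory Limits AlgebraicGeometry

attribute [local instance] HasDerivedCategory.standard

namespace Groth.Agent.DCohShriek

open Groth.Agent.DQCoh (RD rdComp rdCongr)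
open Groth.Agent.PerfGen

variable {X Y Z : Scheme.{u}}

/-- restriction of a transformation given on components -/
lemma isGE_RD (j : X ⟶ Y) [IsOpenImmersion j] {M : DCoh.D Y} {n : ℤ} (h : DerivedCategory.IsGE M n) :
    DerivedCategory.IsGE ((RD j).obj M) n :=
  (DerivedCategory.isGE_iff _ _).2 fun i hi => bdd_RD j (bdd_of_isGE h) n rfl i hi

set_option maxHeartbeats 1600000 in
/-- **`(g f)^! = f^! g^!`** -/
theorem nonempty_shriek_comp [IsNoetherian Y] [IsNoetherian Z] [IsNoetherian X] {f : X ⟶ Y} {g : Y ⟶ Z}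
    (cf : DEt.Compactification f) (cg : DEt.Compactification g) (cgf : DEt.Compactification (f ≫ g))
    [DCoh.HasRpush cf.fbar] [DCoh.HasRpush cg.fbar] [DCoh.HasRpush cgf.fbar]
    {hf : DCoh.RpushPreservesQCoh cf.fbar} {hg : DCoh.RpushPreservesQCoh cg.fbar}
    {hgf : DCoh.RpushPreservesQCoh cgf.fbar} {a : DCoh.DQCoh Y ⥤ DCoh.DQCoh cf.Xbar}
    {b : DCoh.DQCoh Z ⥤ DCoh.DQCoh cg.Xbar} {c : DCoh.DQCoh Z ⥤ DCoh.DQCoh cgf.Xbar}
    (adjf : DCoh.RpushQ cf.fbar hf ⊣ a) (adjg : DCoh.RpushQ cg.fbar hg ⊣ b)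
    (adjgf : DCoh.RpushQ cgf.fbar hgf ⊣ c) :
    Nonempty (Dual3.bddι Z ⋙ c ⋙ ObjectProperty.ι _ ⋙ RD cgf.j ≅
      Dual3.bddι Z ⋙ (b ⋙ rdQ cg.j) ⋙ a ⋙ ObjectProperty.ι _ ⋙ RD cf.j) := by
  haveI := isNoetherian_of_proper cg.fbar
  haveI := isNoetherian_of_proper cgf.fbar
  -- a compactification over the compactification of `g`
  let k : X ⟶ pullback cgf.fbar cg.fbar := pullback.lift cgf.j (f ≫ cg.j)
    (by rw [cgf.fac, Category.assoc, cg.fac])
  have hk1 : k ≫ pullback.fst cgf.fbar cg.fbar = cgf.j := pullback.lift_fst _ _ _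
  have hk2 : k ≫ pullback.snd cgf.fbar cg.fbar = f ≫ cg.j := pullback.lift_snd _ _ _
  haveI : IsImmersion (k ≫ pullback.fst cgf.fbar cg.fbar) := by rw [hk1]; infer_instance
  haveI : IsImmersion k := IsImmersion.of_comp k (pullback.fst cgf.fbar cg.fbar)
  haveI : IsProper (pullback.fst cgf.fbar cg.fbar) :=
    MorphismProperty.of_isPullback (P := @IsProper) (IsPullback.of_hasPullback cgf.fbar cg.fbar).flip cg.isProper
  haveI : IsProper (pullback.snd cgf.fbar cg.fbar) :=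
    MorphismProperty.of_isPullback (P := @IsProper) (IsPullback.of_hasPullback cgf.fbar cg.fbar) cgf.isProper
  obtain ⟨c', i, hi, hji, hif⟩ := Compactif.exists_compactification (f := f ≫ g)
    (pullback.fst cgf.fbar cg.fbar ≫ cgf.fbar) k (by rw [← Category.assoc, hk1, cgf.fac])
  haveI := isNoetherian_of_proper c'.fbar
  let p : c'.Xbar ⟶ cg.Xbar := i ≫ pullback.snd _ _
  haveI : IsProper p := inferInstance
  have hpf : p ≫ cg.fbar = c'.fbar := by
    rw [Category.assoc, ← pullback.condition, hif]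
  have hjp : c'.j ≫ p = f ≫ cg.j := by rw [← Category.assoc, hji, hk2]
  haveI : DCoh.HasRpush p := DerPush.hasRpush_sch p
  haveI : DCoh.HasRpush c'.fbar := DerPush.hasRpush_sch c'.fbar
  have hpq : DCoh.RpushPreservesQCoh p := fun K hK => DQPush.isQCohD_rpush p hK
  have hq' : DCoh.RpushPreservesQCoh c'.fbar := fun K hK => DQPush.isQCohD_rpush c'.fbar hK
  haveI := isLeftAdjoint_rpushQ p hpq
  let ap := (DCoh.RpushQ p hpq).rightAdjoint
  let adjp : DCoh.RpushQ p hpq ⊣ ap := Adjunction.ofIsLeftAdjoint _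
  obtain ⟨e₁⟩ := nonempty_shriek_iso cgf c' adjgf
    ((adjp.comp adjg).ofNatIsoLeft (rpushQComp p cg.fbar c'.fbar hpf hpq hg hq').symm)
  -- restriction to `Y`
  let V : cg.Xbar.Opens := cg.j.opensRange
  have hV : IsCompact (V : Set cg.Xbar) := isCompact_range cg.j.continuous
  haveI : CompactSpace V := isCompact_iff_compactSpace.1 hV
  haveI : QuasiSeparatedSpace V := quasiSeparatedSpace_of_quasiSeparated V.ι
  let g₀ : (V : Scheme.{u}) ⟶ Y := cg.j.isoOpensRange.inv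
  have hg₀ : g₀ ≫ cg.j = V.ι := cg.j.isoOpensRange_inv_comp
  haveI : IsProper (p ∣_ V) := MorphismProperty.of_isPullback (isPullback_morphismRestrict p V).flip ‹_›
  let j'' : X ⟶ (p ⁻¹ᵁ V : Scheme.{u}) := IsOpenImmersion.lift (p ⁻¹ᵁ V).ι c'.j (by
    rw [Scheme.Opens.range_ι]
    rintro _ ⟨t, rfl⟩
    refine ⟨f.base t, ?_⟩
    rw [← Scheme.Hom.comp_apply, ← hjp]
    rfl)
  have hj'' : j'' ≫ (p ⁻¹ᵁ V).ι = c'.j := IsOpenImmersion.lift_fac _ _ _
  haveI : IsOpenImmersion (j'' ≫ (p ⁻¹ᵁ V).ι) := by rw [hj'']; infer_instance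
  haveI : IsOpenImmersion j'' := IsOpenImmersion.of_comp j'' (p ⁻¹ᵁ V).ι
  haveI : IsProper g₀ := inferInstance
  have hfac : j'' ≫ (p ∣_ V) ≫ g₀ = f := by
    rw [← cancel_mono cg.j, Category.assoc, Category.assoc, hg₀, morphismRestrict_ι, ← Category.assoc, hj'', hjp]
  let c'' : DEt.Compactification f :=
    ⟨(p ⁻¹ᵁ V : Scheme.{u}), j'', (p ∣_ V) ≫ g₀, inferInstance, inferInstance, hfac⟩
  haveI : CompactSpace (p ⁻¹ᵁ V) := isCompact_iff_compactSpace.1 (p.isCompact_preimage hV)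
  haveI : QuasiSeparatedSpace (p ⁻¹ᵁ V) := quasiSeparatedSpace_of_quasiSeparated (p ∣_ V)
  haveI : DCoh.HasRpush c''.fbar := DerPush.hasRpush_sch c''.fbar
  have hVq : DCoh.RpushPreservesQCoh (p ∣_ V) := fun K hK => DQPush.isQCohD_rpush (p ∣_ V) hK
  have hgq : DCoh.RpushPreservesQCoh g₀ := fun K hK => DQPush.isQCohD_rpush g₀ hK
  have hcq : DCoh.RpushPreservesQCoh c''.fbar := fun K hK => by
    haveI : QuasiCompact c''.fbar := inferInstanceAs (QuasiCompact ((p ∣_ V) ≫ g₀))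
    haveI : QuasiSeparated c''.fbar := inferInstanceAs (QuasiSeparated ((p ∣_ V) ≫ g₀))
    exact DQPush.isQCohD_rpush c''.fbar hK
  haveI := isLeftAdjoint_rpushQ (p ∣_ V) hVq
  let aV := (DCoh.RpushQ (p ∣_ V) hVq).rightAdjoint
  let adjV : DCoh.RpushQ (p ∣_ V) hVq ⊣ aV := Adjunction.ofIsLeftAdjoint _
  have hgc : IsClosed (Set.range g₀.base) := g₀.isClosedEmbedding.isClosed_range
  obtain ⟨e₂⟩ := nonempty_shriek_iso c'' cf (h₁ := hcq)
    (((adjV.comp (adjClopen g₀ hgc hgq))).ofNatIsoLeft (rpushQComp (p ∣_ V) g₀ c''.fbar rfl hVq hgq hcq).symm) adjf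
  let G : (Dual3.IsBddBelowQ Z).FullSubcategory ⥤ (Dual3.IsBddBelowQ Y).FullSubcategory :=
    ObjectProperty.lift _ (Dual3.bddι Z ⋙ b ⋙ rdQ cg.j) fun K => by
      obtain ⟨n, hn⟩ := K.property
      obtain ⟨m, hm⟩ := exists_bdd_adjoint cg.fbar adjg K.obj n hn
      exact ⟨m, isGE_RD cg.j hm⟩
  haveI : ∀ K : (Dual3.IsBddBelowQ Z).FullSubcategory, IsIso (thetaApp p adjp V adjV (b.obj K.obj)) := fun K => by
    obtain ⟨n, hn⟩ := K.property
    obtain ⟨m, hm⟩ := exists_bdd_adjoint cg.fbar adjg K.obj n hn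
    exact isIso_thetaApp p adjp V adjV (fin'_some p m) hV _ (bdd_of_isGE hm)
  let κ : rdQ V.ι ≅ rdQ cg.j ⋙ rdQ g₀ :=
    NatIso.ofComponents
      (fun M => ObjectProperty.isoMk _ ((rdCongr hg₀.symm ≪≫ rdComp g₀ cg.j).app M.obj))
      (fun φ => InducedCategory.hom_ext ((rdCongr hg₀.symm ≪≫ rdComp g₀ cg.j).hom.naturality φ.hom))
  let e₃ : Dual3.bddι Z ⋙ (b ⋙ ap) ⋙ ObjectProperty.ι _ ⋙ RD c'.j ≅
      G ⋙ Dual3.bddι Y ⋙ (rdQ g₀ ⋙ aV) ⋙ ObjectProperty.ι _ ⋙ RD j'' := by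
    refine NatIso.ofComponents (fun K =>
      (rdCongr hj''.symm ≪≫ rdComp j'' (p ⁻¹ᵁ V).ι).app (ap.obj (b.obj K.obj)).obj ≪≫
        (RD j'').mapIso (asIso (thetaApp p adjp V adjV (b.obj K.obj)) ≪≫
          (ObjectProperty.ι _).mapIso (aV.mapIso (κ.app (b.obj K.obj))))) ?_
    intro K K' φ
    have h1 := (rdCongr hj''.symm ≪≫ rdComp j'' (p ⁻¹ᵁ V).ι).hom.naturality (ap.map (b.map φ.hom)).hom
    have h2 : (RD j'').map ((RD (p ⁻¹ᵁ V).ι).map (ap.map (b.map φ.hom)).hom) ≫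
          (RD j'').map (thetaApp p adjp V adjV (b.obj K'.obj) ≫ (aV.map (κ.hom.app (b.obj K'.obj))).hom) =
        (RD j'').map (thetaApp p adjp V adjV (b.obj K.obj) ≫ (aV.map (κ.hom.app (b.obj K.obj))).hom) ≫
          (RD j'').map (aV.map ((rdQ g₀).map ((rdQ cg.j).map (b.map φ.hom)))).hom := by
      rw [← Functor.map_comp, ← Functor.map_comp]
      congr 1
      rw [← Category.assoc, thetaApp_naturality, Category.assoc, Category.assoc]
      congr 1
      have hκ := κ.hom.naturality (b.map φ.hom)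
      show (aV.map _ ≫ aV.map _).hom = (aV.map _ ≫ aV.map _).hom
      rw [← Functor.map_comp, ← Functor.map_comp, hκ]
      rfl
    simp only [Iso.trans_hom, Iso.app_hom, Functor.mapIso_hom, asIso_hom, Category.assoc, Functor.comp_map,
      ObjectProperty.ι_map] at h1 h2 ⊢
    rw [reassoc_of% h1, h2]
    rfl
  exact ⟨e₁ ≪≫ e₃ ≪≫ Functor.isoWhiskerLeft G e₂ ≪≫ Iso.refl _⟩

end Groth.Agent.DCohShriek
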