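import Groth.Agent.DCohShriek.Supp

/-!
# The right adjoint of `Rf_*` commutes with coproducts when `Rf_*` preserves perfect objects
-/

set_option autoImplicit false
set_option backward.isDefEq.respectTransparency false
set_option backward.isDefEq.respectTransparency.types false
set_option linter.style.haveILetI false
set_option linter.unusedSectionVars false

universe u

open CategoryTheory Limits Pretriangulated AlgebraicGeometry

attribute [local instance] HasDerivedCategory.standard

namespace Groth.Agent.DCohShriek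

open Groth.Agent.PerfGen

/-- maps from perfect objects detect isomorphisms in `D_QCoh` -/
theorem isIso_of_bijective_perfect {X : Scheme.{u}} [CompactSpace X] [QuasiSeparatedSpace X] {A B : DCoh.D X}
    (hA : DCoh.IsQCohD A) (hB : DCoh.IsQCohD B) (c : A ⟶ B)
    (h : ∀ P : DCoh.D X, DCoh.IsPerfect P → Function.Bijective fun x : P ⟶ A => x ≫ c) : IsIso c := by
  obtain ⟨G, -, hgen, hGp⟩ := exists_gen_qcohD X
  obtain ⟨N, b, d, hN⟩ := distinguished_cocone_triangle c
  exact (Triangle.isZero₃_iff_isIso₁ _ hN).1 (hgen N (isQCohD_obj₃ _ hN hA hB)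
    (hom_eq_zero_of_bijective hN fun m => h _ (DQCoh.perfect_shift hGp m)))

theorem preservesCoproducts_adjoint {X Y : Scheme.{u}} [CompactSpace X] [QuasiSeparatedSpace X] [CompactSpace Y]
    [QuasiSeparatedSpace Y] (f : X ⟶ Y) [DCoh.HasRpush f] {hf : DCoh.RpushPreservesQCoh f}
    {a : DCoh.DQCoh Y ⥤ DCoh.DQCoh X} (adj : DCoh.RpushQ f hf ⊣ a)
    (hperf : ∀ P : DCoh.D X, DCoh.IsPerfect P → DCoh.IsPerfect ((DCoh.Rpush f).obj P)) (J : Type u) :
    PreservesColimitsOfShape (Discrete J) a := by
  classical
  haveI := additive_rpush f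
  haveI : HasColimitsOfShape (Discrete J) (DCoh.DQCoh X) := hasCoproducts_qcohD X J
  haveI : HasColimitsOfShape (Discrete J) (DCoh.DQCoh Y) := hasCoproducts_qcohD Y J
  haveI := preservesCoproducts_ι X J
  haveI := preservesCoproducts_ι Y J
  haveI := PerfGen.hasCoproducts_D' X J
  haveI := PerfGen.hasCoproducts_D' Y J
  suffices H : ∀ K : J → DCoh.DQCoh Y, PreservesColimit (Discrete.functor K) a by
    refine ⟨fun {F} => ?_⟩
    haveI := H fun j => F.obj ⟨j⟩
    exact preservesColimit_of_iso_diagram _ Discrete.natIsoFunctor.symm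
  intro K
  suffices IsIso (sigmaComparison a K) from PreservesCoproduct.of_iso_comparison a K
  let ιX : DCoh.DQCoh X ⥤ DCoh.D X := ObjectProperty.ι _
  let ιY : DCoh.DQCoh Y ⥤ DCoh.D Y := ObjectProperty.ι _
  let eX := PreservesCoproduct.iso ιX fun j => a.obj (K j)
  let eY := PreservesCoproduct.iso ιY K
  have hιX : ∀ j, Sigma.ι (fun j => (a.obj (K j)).obj) j ≫ eX.inv = (Sigma.ι (fun j => a.obj (K j)) j).hom :=
    fun j => ι_comp_sigmaComparison ιX _ j
  have hιY : ∀ j, Sigma.ι (fun j => (K j).obj) j ≫ eY.inv = (Sigma.ι K j).hom :=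
    fun j => ι_comp_sigmaComparison ιY _ j
  have hc : ∀ (P : DCoh.D X) (j : J) (α : P ⟶ (a.obj (K j)).obj),
      α ≫ Sigma.ι (fun j => (a.obj (K j)).obj) j ≫ eX.inv ≫ (sigmaComparison a K).hom =
        α ≫ (a.map (Sigma.ι K j)).hom := fun P j α => by
    rw [reassoc_of% hιX]
    exact congrArg (α ≫ ·) (congrArg InducedCategory.Hom.hom (ι_comp_sigmaComparison a K j))
  haveI : IsIso (sigmaComparison a K).hom := by
    refine isIso_of_bijective_perfect (∐ fun j => a.obj (K j)).property (a.obj (∐ K)).property _ fun P hP => ?_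
    refine ⟨fun x y hxy => ?_, fun φ => ?_⟩
    · rw [← sub_eq_zero]
      have hz : (x - y) ≫ (sigmaComparison a K).hom = 0 := by rw [Preadditive.sub_comp, sub_eq_zero]; exact hxy
      generalize x - y = z at hz ⊢
      obtain ⟨s, p, hp⟩ := finFac_perfect X hP (fun j => (a.obj (K j)).obj) (fun j => (a.obj (K j)).property)
        (z ≫ eX.hom)
      have hz' : z = ∑ j ∈ s, p j ≫ Sigma.ι (fun j => (a.obj (K j)).obj) j ≫ eX.inv := by
        refine ((congrArg (z ≫ ·) eX.hom_inv_id).trans (Category.comp_id z)).symm.trans ?_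
        refine (Category.assoc _ _ _).symm.trans ?_
        rw [hp, Preadditive.sum_comp]
        simp
      have hsum : (∑ j ∈ s, tr adj (p j) ≫ Sigma.ι (fun j => (K j).obj) j) = 0 := by
        rw [← cancel_mono eY.inv, zero_comp, Preadditive.sum_comp]
        have h2 := congrArg (tr adj) hz
        rw [hz', Preadditive.sum_comp] at h2
        simp only [Category.assoc, hc] at h2
        rw [show tr adj (0 : P ⟶ (a.obj (∐ K)).obj) = 0 by simp [tr]] at h2
        simp only [Category.assoc, hιY]
        refine Eq.trans ?_ h2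
        simp only [tr, Functor.map_sum, Preadditive.sum_comp]
        exact Finset.sum_congr rfl fun j _ => (tr_map adj (Sigma.ι K j) (p j)).symm
      rw [hz']
      refine Finset.sum_eq_zero fun j hj => ?_
      have : p j = 0 := tr_eq_zero adj (isQCohD_of_isPerfect hP) (by
        rw [← sum_proj (fun j => (K j).obj) s (fun j => tr adj (p j)) hj, hsum, zero_comp])
      rw [this, zero_comp]
    · obtain ⟨s, q, hq⟩ := finFac_perfect Y (hperf P hP) (fun j => (K j).obj) (fun j => (K j).property)
        (tr adj φ ≫ eY.hom)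
      choose p hp using fun j => (tr_bijective adj (isQCohD_of_isPerfect hP) (K j)).2 (q j)
      refine ⟨∑ j ∈ s, p j ≫ Sigma.ι (fun j => (a.obj (K j)).obj) j ≫ eX.inv, ?_⟩
      refine (tr_bijective adj (isQCohD_of_isPerfect hP) (∐ K)).1 ?_
      simp only [Preadditive.sum_comp, Category.assoc, hc]
      refine Eq.trans ?_ (((Category.assoc _ _ _).trans (congrArg (tr adj φ ≫ ·) eY.hom_inv_id)).trans (Category.comp_id _))
      rw [hq, Preadditive.sum_comp]
      simp only [tr, Functor.map_sum, Preadditive.sum_comp]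
      refine Finset.sum_congr rfl fun j _ => ?_
      rw [Category.assoc, hιY, ← hp]
      exact tr_map adj (Sigma.ι K j) (p j)
  haveI : IsIso (ιX.map (sigmaComparison a K)) := inferInstanceAs (IsIso (sigmaComparison a K).hom)
  exact isIso_of_reflects_iso (sigmaComparison a K) ιX

end Groth.Agent.DCohShriek
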