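import Groth.Agent.DualCx.FiniteMap
import Groth.Agent.DualCx.Criterion
import Groth.Agent.DualCx.Residue
import Groth.Agent.DualCx.LocGlobal
import Groth.Agent.DualFlat.Iso
import Mathlib.RingTheory.TensorProduct.Quotient

/-!
# A complex is dualizing at a maximal ideal when its adjoint at the residue field is
-/

set_option autoImplicit false
set_option maxHeartbeats 1000000
set_option backward.isDefEq.respectTransparency false
set_option backward.isDefEq.respectTransparency.types false
set_option linter.style.haveILetI false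

universe u

open CategoryTheory Limits DerivedCategory TensorProduct

attribute [local instance] HasDerivedCategory.standard

noncomputable section

namespace Groth.Agent.DCohShriek

open Groth.Agent.DualCx

variable {B : Type u} [CommRing B] [IsNoetherianRing B] (m : Ideal B) [m.IsMaximal] {ν : Dual.D B}

/-- the maps from the residue field -/
theorem exists_residue_equiv {R : Dual.D B ⥤ Dual.D (B ⧸ m)}
    (adjR : DRing.restrictD (algebraMap B (B ⧸ m)) ⊣ R) (hd : Dual.IsDualizing (B ⧸ m) (R.obj ν)) :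
    ∃ n : ℤ, (∀ i : ℤ, i ≠ n → Subsingleton (T ν (B ⧸ m) i)) ∧ Nonempty (T ν (B ⧸ m) n ≃ₗ[B] (B ⧸ m)) := by
  letI : Field (B ⧸ m) := Ideal.Quotient.field m
  let k := B ⧸ m
  have h := isRA_counit (A := B) (B := k) adjR ν
  haveI : (⊥ : Ideal k).IsMaximal := Ideal.bot_isMaximal
  obtain ⟨R'⟩ := nonempty_rep hd
  obtain ⟨n, hz, ⟨e⟩⟩ := residue_spec (m := (⊥ : Ideal k)) hd R'
  let q : (k ⧸ (⊥ : Ideal k)) ≃ₗ[k] k := Submodule.quotEquivOfEqBot _ rfl
  let e' : T (R.obj ν) k n ≃ₗ[k] k := (DualCx.congr (R.obj ν) n q).trans (e.trans q)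
  let e0 : Dual.inD B k ≅ (resD B k).obj (Dual.inD k k) :=
    (DerivedCategory.singleFunctor (ModuleCat.{u} B) 0).mapIso (resSelf (A := B) (B := k)).symm ≪≫
      (((res B k).mapDerivedCategorySingleFunctor 0).app (ModuleCat.of k k)).symm
  let Ψ : ∀ i, T (R.obj ν) k i → T ν k i := fun i f => e0.hom ≫ raMap (adjR.counit.app ν) i _ f
  have hΨ : ∀ i, Function.Bijective (Ψ i) := fun i =>
    (show Function.Bijective (fun g => e0.hom ≫ g) from
      ⟨fun _ _ h => (cancel_epi e0.hom).1 h, fun g => ⟨e0.inv ≫ g, e0.hom_inv_id_assoc g⟩⟩).comp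
      (h.raMap_bijective i (Dual.inD k k))
  refine ⟨n, fun i hi => ?_, ?_⟩
  · haveI : Subsingleton (T (R.obj ν) k i) := (DualCx.congr (R.obj ν) i q).symm.toEquiv.subsingleton_congr.1 (hz i hi)
    exact (Equiv.ofBijective _ (hΨ i)).symm.subsingleton
  · let P : T (R.obj ν) k n →ₛₗ[RingHom.id ℕ] T ν k n :=
      { toFun := Ψ n
        map_add' := fun x y => by
          show _ ≫ raMap _ n _ (x + y) = _
          rw [raMap_add, Preadditive.comp_add]
        map_smul' := fun c x => by
          induction c with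
          | zero => simp [Ψ, raMap]
          | succ c ih =>
            have hadd : Ψ n (c • x + x) = Ψ n (c • x) + Ψ n x := by
              show _ ≫ raMap _ n _ (c • x + x) = _
              rw [raMap_add, Preadditive.comp_add]
            rw [succ_nsmul, hadd, ih]
            simp [succ_nsmul] }
    have hsmul : ∀ (b : B) (x : T (R.obj ν) k n), Ψ n (algebraMap B k b • x) = b • Ψ n x := fun b x => by
      show _ ≫ raMap _ n _ (algebraMap B k b • x) = _
      rw [raMap_smul, Linear.comp_smul]
    refine ⟨({ Equiv.ofBijective _ (hΨ n) with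
      map_add' := fun x y => by
        show _ ≫ raMap _ n _ (x + y) = _
        rw [raMap_add, Preadditive.comp_add]
        rfl } : T (R.obj ν) k n ≃+ T ν k n).symm.trans e'.toAddEquiv |>.toLinearEquiv fun b y => ?_⟩
    obtain ⟨x, rfl⟩ := (hΨ n).2 y
    rw [← hsmul b x]
    show e' ((Equiv.ofBijective _ (hΨ n)).symm (Ψ n (algebraMap B k b • x))) =
      b • e' ((Equiv.ofBijective _ (hΨ n)).symm (Ψ n x))
    rw [Equiv.ofBijective_symm_apply_apply, Equiv.ofBijective_symm_apply_apply, map_smul]
    exact IsScalarTower.algebraMap_smul k b (e' x)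

/-- vanishing of maps from the residue field, seen through the adjoint -/
theorem subsingleton_T_of_adjoint {R : Dual.D B ⥤ Dual.D (B ⧸ m)}
    (adjR : DRing.restrictD (algebraMap B (B ⧸ m)) ⊣ R) {i : ℤ}
    (h : Subsingleton (T (R.obj ν) (B ⧸ m) i)) : Subsingleton (T ν (B ⧸ m) i) := by
  let k := B ⧸ m
  have hR := isRA_counit (A := B) (B := k) adjR ν
  let e0 : Dual.inD B k ≅ (resD B k).obj (Dual.inD k k) :=
    (DerivedCategory.singleFunctor (ModuleCat.{u} B) 0).mapIso (resSelf (A := B) (B := k)).symm ≪≫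
      (((res B k).mapDerivedCategorySingleFunctor 0).app (ModuleCat.of k k)).symm
  haveI : Subsingleton ((resD B k).obj (Dual.inD k k) ⟶ ν⟦i⟧) :=
    (Equiv.ofBijective _ (hR.raMap_bijective i (Dual.inD k k))).subsingleton_congr.1 h
  exact ⟨fun f g => (cancel_epi e0.inv).1 (Subsingleton.elim _ _)⟩

/-- the residue field of the localization -/
lemma nonempty_ext_residue : Nonempty ((ext (algebraMap B (Localization.AtPrime m))).obj (ModuleCat.of B (B ⧸ m)) ≅
    ModuleCat.of (Localization.AtPrime m)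
      (Localization.AtPrime m ⧸ IsLocalRing.maximalIdeal (Localization.AtPrime m))) := by
  refine ⟨LinearEquiv.toModuleIso ?_⟩
  exact ((DRingKP.extendTensorIso (B ⧸ m)).toLinearEquiv.trans
    (Algebra.TensorProduct.quotIdealMapEquivTensorQuot (Localization.AtPrime m) m).symm.toLinearEquiv).trans
    (Submodule.quotEquivOfEq _ _ (Localization.AtPrime.map_eq_maximalIdeal (I := m)))

/-- vanishing of maps from the residue field localizes -/
theorem subsingleton_T_locD {a : ℤ} (hlow : ∀ i : ℤ, i < a → Subsingleton (Dual.HD B ν i)) {i : ℤ}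
    (h : Subsingleton (T ν (B ⧸ m) i)) :
    Subsingleton (T ((locD (algebraMap B (Localization.AtPrime m))).obj ν)
      (Localization.AtPrime m ⧸ IsLocalRing.maximalIdeal (Localization.AtPrime m)) i) := by
  let L := Localization.AtPrime m
  let φ := algebraMap B L
  haveI : Module.Flat B L := IsLocalization.flat L m.primeCompl
  haveI := isGE_of_low hlow
  haveI := exists_isGE_shift ν a i
  obtain ⟨eκ⟩ := nonempty_ext_residue m
  refine subsingleton_of_forall_eq 0 fun f => ?_
  obtain ⟨s, hs, g, hg⟩ := exists_locD_map_eq (φ := φ) (S := m.primeCompl) (K := Dual.inD B (B ⧸ m)) (L := ν⟦i⟧)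
    0 (a - i) (finite_hd_inD _) ((locInD φ (B ⧸ m)).hom ≫ (DerivedCategory.singleFunctor (ModuleCat.{u} L) 0).map eκ.hom ≫ f ≫
      ((locD φ).commShiftIso i).inv.app ν)
  rw [Subsingleton.elim g 0, Functor.map_zero,
    (IsLocalization.map_units L (⟨s, hs⟩ : m.primeCompl)).smul_eq_zero] at hg
  rw [← cancel_mono (((locD φ).commShiftIso i).inv.app ν), zero_comp,
    ← cancel_epi ((DerivedCategory.singleFunctor (ModuleCat.{u} L) 0).map eκ.hom), comp_zero,
    ← cancel_epi (locInD φ (B ⧸ m)).hom, comp_zero]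
  exact hg

/-- **the criterion at a maximal ideal** -/
theorem isDualizing_locD_of_residue (hfin : ∀ i : ℤ, Module.Finite B (Dual.HD B ν i)) {a : ℤ}
    (hlow : ∀ i : ℤ, i < a → Subsingleton (Dual.HD B ν i)) {R : Dual.D B ⥤ Dual.D (B ⧸ m)}
    (adjR : DRing.restrictD (algebraMap B (B ⧸ m)) ⊣ R) (hd : Dual.IsDualizing (B ⧸ m) (R.obj ν)) :
    Dual.IsDualizing (Localization.AtPrime m) ((locD (algebraMap B (Localization.AtPrime m))).obj ν) := by
  obtain ⟨n, hz, ⟨e⟩⟩ := exists_residue_equiv m adjR hd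
  let L := Localization.AtPrime m
  let φ := algebraMap B L
  let M := IsLocalRing.maximalIdeal L
  haveI : IsNoetherianRing L := IsLocalization.isNoetherianRing m.primeCompl L inferInstance
  haveI : Module.Flat B L := IsLocalization.flat L m.primeCompl
  haveI := isGE_of_low hlow
  haveI := isGE_locD φ ν a
  obtain ⟨eκ⟩ := nonempty_ext_residue m
  let J : ∀ i, T ν (B ⧸ m) i → T ((locD φ).obj ν) (L ⧸ M) i := fun i g =>
    (DerivedCategory.singleFunctor (ModuleCat.{u} L) 0).map eκ.inv ≫ (locInD φ (B ⧸ m)).inv ≫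
      (locD φ).map g ≫ ((locD φ).commShiftIso i).hom.app ν
  have hsur : ∀ i (f : T ((locD φ).obj ν) (L ⧸ M) i), ∃ s ∉ m, ∃ g, φ s • f = J i g := fun i f => by
    haveI := exists_isGE_shift ν a i
    obtain ⟨s, hs, g, hg⟩ := exists_locD_map_eq (φ := φ) (S := m.primeCompl) (K := Dual.inD B (B ⧸ m)) (L := ν⟦i⟧)
      0 (a - i) (finite_hd_inD _) ((locInD φ (B ⧸ m)).hom ≫ (DerivedCategory.singleFunctor (ModuleCat.{u} L) 0).map eκ.hom ≫ f ≫
        ((locD φ).commShiftIso i).inv.app ν)
    refine ⟨s, hs, g, ?_⟩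
    show _ = _ ≫ _ ≫ (locD φ).map g ≫ _
    rw [← hg]
    simp only [Linear.smul_comp, Linear.comp_smul, Category.assoc]
    rw [Iso.inv_hom_id_app]
    erw [Category.comp_id, Iso.inv_hom_id_assoc, ← Functor.map_comp_assoc, eκ.inv_hom_id, CategoryTheory.Functor.map_id, Category.id_comp]
  have hunit : ∀ s ∉ m, IsUnit (φ s) := fun s hs => IsLocalization.map_units L (⟨s, hs⟩ : m.primeCompl)
  have hvan : ∀ i : ℤ, i ≠ n → Subsingleton (T ((locD φ).obj ν) (L ⧸ M) i) := fun i hi =>
    subsingleton_of_forall_eq 0 fun f => by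
      haveI := hz i hi
      obtain ⟨s, hs, g, hg⟩ := hsur i f
      rw [Subsingleton.elim g 0, show J i 0 = 0 by simp [J]] at hg
      exact (hunit s hs).smul_left_cancel.1 (hg.trans (smul_zero _).symm)
  let x := e.symm (Submodule.Quotient.mk 1)
  have hx : ∀ g : T ν (B ⧸ m) n, ∃ b : B, g = b • x := fun g => by
    obtain ⟨b, hb⟩ := Submodule.Quotient.mk_surjective _ (e g)
    refine ⟨b, e.injective ?_⟩
    rw [map_smul, e.apply_symm_apply, ← hb, ← Submodule.Quotient.mk_smul, smul_eq_mul, mul_one]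
  have hJ : ∀ (b : B) g, J n (b • g) = φ b • J n g := fun b g => by
    simp only [J, locD_smul, Linear.smul_comp, Linear.comp_smul]
  have hx0 : J n x ≠ 0 := fun h0 => by
    have h1 : (locD φ).map x = 0 := by
      rw [← cancel_mono (((locD φ).commShiftIso n).hom.app ν), zero_comp,
        ← cancel_epi (locInD φ (B ⧸ m)).inv, comp_zero,
        ← cancel_epi ((DerivedCategory.singleFunctor (ModuleCat.{u} L) 0).map eκ.inv), comp_zero]
      exact h0
    haveI := exists_isGE_shift ν a n
    obtain ⟨s, hs, hsx⟩ := exists_smul_eq_zero_of_locD (φ := φ) (S := m.primeCompl) (L := ν⟦n⟧) 0 (a - n)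
      (finite_hd_inD (B ⧸ m)) x h1
    have h2 := congrArg e hsx
    rw [map_smul, map_zero, e.apply_symm_apply, ← Submodule.Quotient.mk_smul, smul_eq_mul, mul_one,
      Submodule.Quotient.mk_eq_zero] at h2
    exact hs h2
  let p : L →ₗ[L] T ((locD φ).obj ν) (L ⧸ M) n := LinearMap.toSpanSingleton L _ (J n x)
  have hp : Function.Surjective p := fun f => by
    obtain ⟨s, hs, g, hg⟩ := hsur n f
    obtain ⟨b, rfl⟩ := hx g
    obtain ⟨u, hu⟩ := hunit s hs
    refine ⟨↑u⁻¹ * φ b, ?_⟩
    show (↑u⁻¹ * φ b) • J n x = f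
    rw [mul_smul, ← hJ, ← hg, ← hu, smul_smul, Units.inv_mul, one_smul]
  have hker : LinearMap.ker p = M := by
    refine ((IsLocalRing.maximalIdeal.isMaximal L).eq_of_le ?_ fun r hr => ?_).symm
    · intro htop
      apply hx0
      have : (1 : L) ∈ LinearMap.ker p := htop ▸ Submodule.mem_top
      exact (one_smul L (J n x)).symm.trans this
    · exact smul_eq_zero_of_killed (fun y => by
        obtain ⟨y, rfl⟩ := Submodule.Quotient.mk_surjective _ y
        rw [← Submodule.Quotient.mk_smul, Submodule.Quotient.mk_eq_zero]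
        exact Ideal.mul_mem_right _ _ hr) (J n x)
  exact isDualizing_of_residue (fun i => finite_locHD φ (hfin i))
    (fun i hi => ModuleCat.subsingleton_of_isZero (isZero_locHD φ (hlow i hi))) hvan
    ((LinearMap.quotKerEquivOfSurjective p hp).symm.trans (Submodule.quotEquivOfEq _ _ hker))

end Groth.Agent.DCohShriek
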