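import Groth.Agent.DCohShriek.CoherentMain
import Groth.Agent.DCohShriek.AffineAdjoint
import Groth.Agent.DCohShriek.ResidueDual
import Groth.Agent.DualSch.Glue
import Groth.Agent.DualSch.Reflexive
import Groth.Agent.DualCx.EssFin
import Groth.Agent.DualCx.Pointwise
import Groth.Agent.DualCx.Dim

/-!
# The right adjoint of `Rf_*` for a proper `f` preserves dualizing complexes
-/

set_option autoImplicit false
set_option maxHeartbeats 1000000
set_option backward.isDefEq.respectTransparency false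
set_option backward.isDefEq.respectTransparency.types false
set_option linter.style.haveILetI false
set_option linter.unusedSectionVars false

universe u

open CategoryTheory Limits AlgebraicGeometry

attribute [local instance] HasDerivedCategory.standard

noncomputable section

namespace Groth.Agent.DCohShriek

open Groth.Agent.DQCoh (RD rdComp rdCongr)
open Groth.Agent.PerfGen
open Groth.Agent.DualCx (locD lBaseChangeObjIso isDualizing_of_iso)

variable {X Y : Scheme.{u}}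

/-- charts of a bounded below coherent complex -/
lemma exists_chart_coh {B : Type u} [CommRing B] (j : Spec (CommRingCat.of B) ⟶ X) [IsOpenImmersion j]
    {E : DCoh.D X} (hE : ∀ i, Coh.IsCoh (DCoh.HD E i)) (a : ℤ) (ha : ∀ i, i < a → IsZero (DCoh.HD E i)) :
    ∃ ν : Dual.D B, Nonempty ((RD j).obj E ≅ (DCoh.tildeD (CommRingCat.of B)).obj ν) ∧
      (∀ i, Module.Finite B (Dual.HD B ν i)) ∧ ∀ i, i < a → Subsingleton (Dual.HD B ν i) := by
  obtain ⟨ν, ⟨e⟩⟩ := ((DQCoh.tildeD_affine (R := CommRingCat.of B)).2.2 _).1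
    (isQCohD_RD j fun i => (hE i).1)
  refine ⟨ν, ⟨e.symm⟩, fun i => ?_, fun i hi => ?_⟩
  · obtain ⟨f⟩ := DualSch.nonempty_restrict_HD j e.symm i
    exact (H4Easy.isFT_tilde_iff (CommRingCat.of B) _).1 (isCoh_iso f (isCoh_restrictFunctor j (hE i))).2
  · obtain ⟨f⟩ := DualSch.nonempty_restrict_HD j e.symm i
    exact ModuleCat.subsingleton_of_isZero (DQCoh.isZero_of_tilde (R := CommRingCat.of B)
      (((Scheme.Modules.restrictFunctor j).map_isZero (ha i hi)).of_iso f.symm))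

/-- a dualizing complex is bounded below -/
lemma exists_low [CompactSpace Y] {K : DCoh.D Y} (hK : Dual2.IsDualizingSch Y K) :
    ∃ c : ℤ, ∀ i, i < c → IsZero (DCoh.HD K i) := by
  choose W hW hx using fun y : Y => QC.exists_affine_mem y
  choose ω hω e using fun y => hK Γ(Y, W y) (hW y).fromSpec
  choose a b hab using fun y => (haveI := (hω y).isNoetherianRing; DualCx.bounded_of_dualizing (hω y))
  obtain ⟨t, ht⟩ := isCompact_univ.elim_finite_subcover (fun y : Y => (W y : Set Y)) (fun y => (W y).2)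
    (fun y _ => Set.mem_iUnion.2 ⟨y, hx y⟩)
  obtain ⟨A, hA⟩ := (t.image a).finite_toSet.bddBelow
  refine ⟨A, fun i hi => ?_⟩
  have hcov : ∀ y : Y, ∃ z, z ∈ t ∧ y ∈ W z := fun y => by simpa using ht (Set.mem_univ y)
  choose z hz hyz using hcov
  refine K0Coh.isZero_of_restrict_cover (fun y => W (z y)) hyz fun y => ?_
  obtain ⟨f⟩ := DualSch.nonempty_restrict_HD (hW (z y)).fromSpec (e (z y)).some i
  haveI : Subsingleton ((DerivedCategory.homologyFunctor (ModuleCat.{u} Γ(Y, W (z y))) i).obj (ω (z y))) :=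
    hab (z y) i (Or.inl (hi.trans_le (hA (Finset.mem_coe.2 (Finset.mem_image_of_mem a (hz y))))))
  have h0 : IsZero ((Scheme.Modules.restrictFunctor (hW (z y)).fromSpec).obj (DCoh.HD K i)) :=
    ((tilde.functor Γ(Y, W (z y))).map_isZero (ModuleCat.isZero_of_subsingleton _)).of_iso f
  let r := ((Scheme.Modules.restrictFunctorCongr ((hW (z y)).isoSpec_hom_fromSpec)).symm ≪≫
    Scheme.Modules.restrictFunctorComp (hW (z y)).isoSpec.hom (hW (z y)).fromSpec).app (DCoh.HD K i)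
  exact ((Scheme.Modules.restrictFunctor (hW (z y)).isoSpec.hom).map_isZero h0).of_iso r

/-- adjoints along a closed point inside an affine open -/
theorem nonempty_adjoint_point [IsNoetherian X] {U : X.Opens} (hU : IsAffineOpen U) (m : Ideal Γ(X, U))
    [m.IsMaximal] [DCoh.HasRpush (Spec.map (CommRingCat.ofHom (Ideal.Quotient.mk m)) ≫ hU.fromSpec)]
    (hs : IsClosed (Set.range (Spec.map (CommRingCat.ofHom (Ideal.Quotient.mk m)) ≫ hU.fromSpec).base))
    {hc : DCoh.RpushPreservesQCoh (Spec.map (CommRingCat.ofHom (Ideal.Quotient.mk m)) ≫ hU.fromSpec)}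
    {ac : DCoh.DQCoh X ⥤ DCoh.DQCoh (Spec (CommRingCat.of (Γ(X, U) ⧸ m)))}
    (adjc : DCoh.RpushQ (Spec.map (CommRingCat.ofHom (Ideal.Quotient.mk m)) ≫ hU.fromSpec) hc ⊣ ac)
    (M : DCoh.DQCoh X) (c : ℤ) (hM : ∀ i, i < c → IsZero (DCoh.HD M.obj i))
    [DCoh.HasRpush (Spec.map (CommRingCat.ofHom (Ideal.Quotient.mk m)))]
    {hq : DCoh.RpushPreservesQCoh (Spec.map (CommRingCat.ofHom (Ideal.Quotient.mk m)))}
    {aq : DCoh.DQCoh (Spec Γ(X, U)) ⥤ DCoh.DQCoh (Spec (CommRingCat.of (Γ(X, U) ⧸ m)))}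
    (adjq : DCoh.RpushQ (Spec.map (CommRingCat.ofHom (Ideal.Quotient.mk m))) hq ⊣ aq) :
    Nonempty (aq.obj ((rdQ hU.fromSpec).obj M) ≅ ac.obj M) := by
  let q : Spec (CommRingCat.of (Γ(X, U) ⧸ m)) ⟶ Spec Γ(X, U) := Spec.map (CommRingCat.ofHom (Ideal.Quotient.mk m))
  let s := q ≫ hU.fromSpec
  haveI : IsClosedImmersion q := IsClosedImmersion.spec_of_surjective _ Ideal.Quotient.mk_surjective
  haveI : IsPreimmersion s := inferInstanceAs (IsPreimmersion (q ≫ hU.fromSpec))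
  haveI : IsClosedImmersion s := IsClosedImmersion.of_isPreimmersion s hs
  haveI : IsProper (s ∣_ U) := MorphismProperty.of_isPullback (isPullback_morphismRestrict s U).flip inferInstance
  let p := (s ∣_ U) ≫ hU.isoSpec.hom
  haveI : IsProper p := inferInstance
  haveI : DCoh.HasRpush p := DerPush.hasRpush_sch _
  have hp : DCoh.RpushPreservesQCoh p := fun E hE => DQPush.isQCohD_rpush p hE
  haveI := isNoetherianRing_Γ hU
  haveI : IsNoetherian (s ⁻¹ᵁ U : Scheme.{u}) := isNoetherian_of_proper p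
  haveI := isLeftAdjoint_rpushQ p hp
  let ap := (DCoh.RpushQ p hp).rightAdjoint
  let adjp : DCoh.RpushQ p hp ⊣ ap := Adjunction.ofIsLeftAdjoint _
  obtain ⟨e⟩ := nonempty_iso_affineBase s adjc M c hM U hU adjp
  have hrange : ∀ z, z ∈ s ⁻¹ᵁ U := fun z => hU.range_fromSpec.le ⟨q.base z, rfl⟩
  let t : Spec (CommRingCat.of (Γ(X, U) ⧸ m)) ⟶ (s ⁻¹ᵁ U : Scheme.{u}) :=
    IsOpenImmersion.lift (s ⁻¹ᵁ U).ι (𝟙 _) (by
      rw [Scheme.Opens.range_ι]
      rintro z -
      exact hrange z)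
  have ht : t ≫ (s ⁻¹ᵁ U).ι = 𝟙 _ := IsOpenImmersion.lift_fac _ _ _
  haveI : IsOpenImmersion (t ≫ (s ⁻¹ᵁ U).ι) := by rw [ht]; infer_instance
  haveI : IsOpenImmersion t := IsOpenImmersion.of_comp t (s ⁻¹ᵁ U).ι
  haveI : IsClosedImmersion (t ≫ (s ⁻¹ᵁ U).ι) := by rw [ht]; infer_instance
  haveI : IsClosedImmersion t := IsClosedImmersion.of_comp t (s ⁻¹ᵁ U).ι
  have htq : t ≫ p = q := by
    rw [← cancel_mono hU.fromSpec]
    show (t ≫ (s ∣_ U) ≫ hU.isoSpec.hom) ≫ hU.fromSpec = s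
    simp only [Category.assoc, IsAffineOpen.isoSpec_hom_fromSpec, morphismRestrict_ι]
    rw [← Category.assoc, ht, Category.id_comp]
  haveI : DCoh.HasRpush t := DerPush.hasRpush_sch _
  have htQ : DCoh.RpushPreservesQCoh t := fun E hE => DQPush.isQCohD_rpush t hE
  let e' : ap ⋙ rdQ t ≅ aq :=
    (((adjClopen t t.isClosedEmbedding.isClosed_range htQ).comp adjp).ofNatIsoLeft
      (rpushQComp t p q htq htQ hp hq).symm).rightAdjointUniq adjq
  exact ⟨ObjectProperty.isoMk _ ((ObjectProperty.ι _).mapIso (e'.app ((rdQ hU.fromSpec).obj M)).symm ≪≫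
    (RD t).mapIso e.symm ≪≫ ((rdComp t (s ⁻¹ᵁ U).ι).symm ≪≫ rdCongr ht ≪≫ rdId _).app (ac.obj M).obj)⟩

/-- the chart at a closed point -/
theorem exists_chart_closed [IsNoetherian Y] (f : X ⟶ Y) [IsProper f] [DCoh.HasRpush f]
    {hf : DCoh.RpushPreservesQCoh f} {a : DCoh.DQCoh Y ⥤ DCoh.DQCoh X} (adj : DCoh.RpushQ f hf ⊣ a)
    (K : DCoh.DQCoh Y) (hK : Dual2.IsDualizingSch Y K.obj) (x : X) (hx : IsClosed ({x} : Set X)) :
    ∃ (B : Type u) (_ : CommRing B) (k : Spec (CommRingCat.of B) ⟶ X) (_ : IsOpenImmersion k) (ν : Dual.D B)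
      (m : Ideal B) (hm : m.IsMaximal), IsNoetherianRing B ∧ DualCx.EssFin.HasDual B ∧ k ⟨m, hm.isPrime⟩ = x ∧
        Nonempty ((RD k).obj (a.obj K).obj ≅ (DCoh.tildeD (CommRingCat.of B)).obj ν) ∧
          Dual.IsDualizing (Localization.AtPrime m) ((locD (algebraMap B (Localization.AtPrime m))).obj ν) ∧
          ∀ i : ℤ, (∀ (W : Y.Opens) (hW : IsAffineOpen W) (ω : Dual.D Γ(Y, W)),
              Nonempty ((DCoh.restrictD hW.fromSpec).obj K.obj ≅ (DCoh.tildeD Γ(Y, W)).obj ω) →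
              ∀ (M : Type u) [AddCommGroup M] [Module Γ(Y, W) M] [Module.Finite Γ(Y, W) M],
                Subsingleton (DualCx.T ω M i)) →
            Subsingleton (DualCx.T ((locD (algebraMap B (Localization.AtPrime m))).obj ν)
              (Localization.AtPrime m ⧸ IsLocalRing.maximalIdeal (Localization.AtPrime m)) i) := by
  haveI := isNoetherian_of_proper f
  have hKc : ∀ i, Coh.IsCoh (DCoh.HD K.obj i) := DualSch.isCoh_HD hK
  obtain ⟨c, hc⟩ := exists_low hK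
  obtain ⟨W, hW, hxW⟩ := QC.exists_affine_mem (f.base x)
  obtain ⟨ω, hω, ⟨eω⟩⟩ := hK Γ(Y, W) hW.fromSpec
  haveI := isNoetherianRing_Γ hW
  haveI : IsProper (f ∣_ W) := MorphismProperty.of_isPullback (isPullback_morphismRestrict f W).flip ‹_›
  let p := (f ∣_ W) ≫ hW.isoSpec.hom
  haveI : IsProper p := inferInstance
  haveI : IsNoetherian (f ⁻¹ᵁ W : Scheme.{u}) := isNoetherian_of_proper p
  haveI : DCoh.HasRpush p := DerPush.hasRpush_sch _
  have hp : DCoh.RpushPreservesQCoh p := fun E hE => DQPush.isQCohD_rpush p hE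
  haveI := isLeftAdjoint_rpushQ p hp
  let ap := (DCoh.RpushQ p hp).rightAdjoint
  let adjp : DCoh.RpushQ p hp ⊣ ap := Adjunction.ofIsLeftAdjoint _
  let K' := (rdQ hW.fromSpec).obj K
  obtain ⟨e₀⟩ := nonempty_iso_affineBase f adj K c hc W hW adjp
  let P := ap.obj K'
  have hP : ∀ i, Coh.IsCoh (DCoh.HD P.obj i) := fun i =>
    coh_affineBase p adjp K' (fun k => coh_RD _ k (hKc k)) c (fun k hk => zero_RD _ c hc k hk) i
  obtain ⟨c', hc'⟩ := exists_bdd_adjoint p adjp K' c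
    ((DerivedCategory.isGE_iff _ _).2 fun k hk => zero_RD _ c hc k hk)
  let x' : (f ⁻¹ᵁ W : Scheme.{u}) := ⟨x, hxW⟩
  have hx' : IsClosed ({x'} : Set (f ⁻¹ᵁ W : Scheme.{u})) := by
    have : ({x'} : Set (f ⁻¹ᵁ W : Scheme.{u})) = Subtype.val ⁻¹' ({x} : Set X) := by
      ext z; exact ⟨fun h => congrArg Subtype.val h, fun h => Subtype.ext h⟩
    rw [this]
    exact hx.preimage continuous_subtype_val
  obtain ⟨U, hU, hxU⟩ := QC.exists_affine_mem x'
  haveI := isNoetherianRing_Γ hU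
  let j : Spec Γ((f ⁻¹ᵁ W : Scheme.{u}), U) ⟶ X := hU.fromSpec ≫ (f ⁻¹ᵁ W).ι
  obtain ⟨ν, ⟨eν⟩, hνf, hνl⟩ := exists_chart_coh hU.fromSpec hP c' (fun i hi => bdd_of_isGE hc' c' rfl i hi)
  obtain ⟨z, hz⟩ := hU.range_fromSpec.ge hxU
  have hzc : IsClosed ({z} : Set (Spec Γ((f ⁻¹ᵁ W : Scheme.{u}), U))) := by
    rw [← hU.fromSpec.isOpenEmbedding.injective.preimage_image {z}, Set.image_singleton, hz]
    exact hx'.preimage hU.fromSpec.continuous
  let m := z.asIdeal
  haveI hm : m.IsMaximal := (PrimeSpectrum.isClosed_singleton_iff_isMaximal z).1 hzc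
  let q : Spec (CommRingCat.of (Γ((f ⁻¹ᵁ W : Scheme.{u}), U) ⧸ m)) ⟶ Spec Γ((f ⁻¹ᵁ W : Scheme.{u}), U) :=
    Spec.map (CommRingCat.ofHom (Ideal.Quotient.mk m))
  haveI : IsClosedImmersion q := IsClosedImmersion.spec_of_surjective _ Ideal.Quotient.mk_surjective
  let s := q ≫ hU.fromSpec
  have hqz : ∀ w, q.base w = z := fun w => by
    refine PrimeSpectrum.ext ((hm.eq_of_le (Ideal.IsPrime.ne_top inferInstance) ?_).symm)
    intro b hb
    show Ideal.Quotient.mk m b ∈ w.asIdeal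
    rw [Ideal.Quotient.eq_zero_iff_mem.2 hb]
    exact Ideal.zero_mem _
  have hsr : IsClosed (Set.range s.base) := by
    have h1 : Set.range s.base ⊆ {x'} := by
      rintro _ ⟨w, rfl⟩
      show hU.fromSpec.base (q.base w) = x'
      rw [hqz]; exact hz
    rcases Set.subset_singleton_iff_eq.1 h1 with h | h <;> rw [h]
    exacts [isClosed_empty, hx']
  haveI : IsPreimmersion s := inferInstanceAs (IsPreimmersion (q ≫ hU.fromSpec))
  haveI : IsClosedImmersion s := IsClosedImmersion.of_isPreimmersion s hsr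
  haveI : DCoh.HasRpush q := DerPush.hasRpush_sch _
  haveI : DCoh.HasRpush s := DerPush.hasRpush_sch _
  haveI := isNoetherian_of_proper s
  have hqq : DCoh.RpushPreservesQCoh q := fun E hE => DQPush.isQCohD_rpush q hE
  have hsq : DCoh.RpushPreservesQCoh s := fun E hE => DQPush.isQCohD_rpush s hE
  haveI := isLeftAdjoint_rpushQ q hqq
  haveI := isLeftAdjoint_rpushQ s hsq
  let aq := (DCoh.RpushQ q hqq).rightAdjoint
  let adjq : DCoh.RpushQ q hqq ⊣ aq := Adjunction.ofIsLeftAdjoint _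
  let as' := (DCoh.RpushQ s hsq).rightAdjoint
  let adjs : DCoh.RpushQ s hsq ⊣ as' := Adjunction.ofIsLeftAdjoint _
  obtain ⟨e₁⟩ := nonempty_adjoint_point hU m hsr adjs P c' (fun i hi => bdd_of_isGE hc' c' rfl i hi) adjq
  -- the composite to the base
  let A : Type u := Γ(Y, W)
  let ψ : CommRingCat.of A ⟶ CommRingCat.of (Γ((f ⁻¹ᵁ W : Scheme.{u}), U) ⧸ m) := Spec.preimage (s ≫ p)
  let g := Spec.map (CommRingCat.ofHom ψ.hom)
  have hg : s ≫ p = g := (Spec.map_preimage (s ≫ p)).symm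
  haveI : IsProper g := by rw [← hg]; infer_instance
  haveI : IsFinite g := IsFinite.iff_isProper_and_isAffineHom.2 ⟨inferInstance, inferInstance⟩
  letI := ψ.hom.toAlgebra
  haveI : Module.Finite A (Γ((f ⁻¹ᵁ W : Scheme.{u}), U) ⧸ m) := (IsFinite.SpecMap_iff (CommRingCat.ofHom ψ.hom)).1 ‹_›
  haveI : DCoh.HasRpush g := DerPush.hasRpush_sch _
  have hgq : DCoh.RpushPreservesQCoh g := fun E hE => DQPush.isQCohD_rpush g hE
  let adjg : DCoh.RpushQ g hgq ⊣ ap ⋙ as' :=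
    (adjs.comp adjp).ofNatIsoLeft (rpushQComp s p g hg hsq hp hgq).symm
  obtain ⟨e₂⟩ := nonempty_adjoint_tilde ψ.hom adjg (restrictDAdjunction ψ.hom adjg) ω
  obtain ⟨e₃⟩ := nonempty_adjoint_tilde (Ideal.Quotient.mk m) adjq (restrictDAdjunction (Ideal.Quotient.mk m) adjq) ν
  let e₄ : (tildeQ A).obj ω ≅ K' := ObjectProperty.isoMk _ eω.symm
  let e₅ : (tildeQ Γ((f ⁻¹ᵁ W : Scheme.{u}), U)).obj ν ≅ (rdQ hU.fromSpec).obj P := ObjectProperty.isoMk _ eν.symm
  let e₆ := (tildeQ (Γ((f ⁻¹ᵁ W : Scheme.{u}), U) ⧸ m)).preimageIso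
    (e₂ ≪≫ (ap ⋙ as').mapIso e₄ ≪≫ e₁.symm ≪≫ aq.mapIso e₅.symm ≪≫ e₃.symm)
  have hd : Dual.IsDualizing (Γ((f ⁻¹ᵁ W : Scheme.{u}), U) ⧸ m) ((restrictDAdjoint aq).obj ν) :=
    isDualizing_of_iso e₆ (DualCx.isDualizing_rightAdjoint hω
      (show DRing.restrictD (algebraMap A (Γ((f ⁻¹ᵁ W : Scheme.{u}), U) ⧸ m)) ⊣ _ from restrictDAdjunction ψ.hom adjg))
  have hft : DualCx.EssFin.HasDual Γ((f ⁻¹ᵁ W : Scheme.{u}), U) := by
    let φ : CommRingCat.of A ⟶ Γ((f ⁻¹ᵁ W : Scheme.{u}), U) := Spec.preimage (hU.fromSpec ≫ p)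
    have hφ : φ.hom.FiniteType := by
      refine (HasRingHomProperty.Spec_iff (P := @LocallyOfFiniteType)).1 ?_
      rw [Spec.map_preimage]
      infer_instance
    letI := φ.hom.toAlgebra
    haveI : Algebra.FiniteType A Γ((f ⁻¹ᵁ W : Scheme.{u}), U) := hφ
    exact DualCx.EssFin.essFiniteType ⟨ω, hω⟩ _
  refine ⟨Γ((f ⁻¹ᵁ W : Scheme.{u}), U), inferInstance, j, inferInstance, ν, m, hm, inferInstance, hft, ?_, ⟨?_⟩, ?_,
    fun i hi => subsingleton_T_locD m hνl (subsingleton_T_of_adjoint m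
      (show DRing.restrictD (algebraMap _ (Γ((f ⁻¹ᵁ W : Scheme.{u}), U) ⧸ m)) ⊣ _ from
        restrictDAdjunction (Ideal.Quotient.mk m) adjq) ?_)⟩
  · show (f ⁻¹ᵁ W).ι.base (hU.fromSpec.base z) = x
    rw [hz]; rfl
  · exact (rdComp hU.fromSpec (f ⁻¹ᵁ W).ι).app _ ≪≫ (RD hU.fromSpec).mapIso e₀ ≪≫ eν
  · exact isDualizing_locD_of_residue m hνf hνl
      (show DRing.restrictD (algebraMap _ (Γ((f ⁻¹ᵁ W : Scheme.{u}), U) ⧸ m)) ⊣ _ from
        restrictDAdjunction (Ideal.Quotient.mk m) adjq) hd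
  · haveI : Module.Finite A ((DualCx.res A (Γ((f ⁻¹ᵁ W : Scheme.{u}), U) ⧸ m)).obj
        (ModuleCat.of _ (Γ((f ⁻¹ᵁ W : Scheme.{u}), U) ⧸ m)) : ModuleCat.{u} A) :=
      Module.Finite.equiv (DualCx.resSelf (A := A) (B := Γ((f ⁻¹ᵁ W : Scheme.{u}), U) ⧸ m)).toLinearEquiv.symm
    haveI := hi W hW ω ⟨eω⟩
      ((DualCx.res A (Γ((f ⁻¹ᵁ W : Scheme.{u}), U) ⧸ m)).obj
        (ModuleCat.of _ (Γ((f ⁻¹ᵁ W : Scheme.{u}), U) ⧸ m)) : ModuleCat.{u} A)
    have h1 := (DualCx.isRA_counit (A := A) (B := Γ((f ⁻¹ᵁ W : Scheme.{u}), U) ⧸ m)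
      (show DRing.restrictD (algebraMap A (Γ((f ⁻¹ᵁ W : Scheme.{u}), U) ⧸ m)) ⊣ _ from
        restrictDAdjunction ψ.hom adjg) ω).subsingleton_T _ i this
    exact (Iso.homCongr (Iso.refl _) ((shiftFunctor _ i).mapIso e₆)).subsingleton_congr.1 h1

section Local

variable [∀ (U V : Scheme.{u}) (j : U ⟶ V) [IsOpenImmersion j], PreservesFiniteLimits (Scheme.Modules.restrictFunctor j)]

/-- moving a dualizing localization between charts, along a specialization -/
theorem isDualizing_locD_transfer {B B₀ : Type u} [CommRing B] [CommRing B₀] [IsNoetherianRing B] [IsNoetherianRing B₀]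
    (k : Spec (CommRingCat.of B) ⟶ X) [IsOpenImmersion k] (k₀ : Spec (CommRingCat.of B₀) ⟶ X) [IsOpenImmersion k₀]
    {E : DCoh.D X} {ν : Dual.D B} {ν₀ : Dual.D B₀}
    (e : (RD k).obj E ≅ (DCoh.tildeD (CommRingCat.of B)).obj ν)
    (e₀ : (RD k₀).obj E ≅ (DCoh.tildeD (CommRingCat.of B₀)).obj ν₀)
    (q : PrimeSpectrum B) (m₀ : PrimeSpectrum B₀) (h : k q ⤳ k₀ m₀)
    (hd : Dual.IsDualizing (Localization.AtPrime m₀.asIdeal)
      ((locD (algebraMap B₀ (Localization.AtPrime m₀.asIdeal))).obj ν₀)) :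
    Dual.IsDualizing (Localization.AtPrime q.asIdeal) ((locD (algebraMap B (Localization.AtPrime q.asIdeal))).obj ν) := by
  haveI := fun (S T : Type u) [CommRing S] [CommRing T] (φ : S →+* T) => DRingKP.hasLBaseChange φ
  obtain ⟨q', hq'⟩ : k q ∈ Set.range k₀ := h.mem_open k₀.isOpenEmbedding.isOpen_range ⟨m₀, rfl⟩
  obtain ⟨g, g₀, ψ, hg, hloc, hfac⟩ := DualSch.exists_common_chart k k₀ q q' hq'.symm
  let C := Localization.Away g
  let L := Localization.AtPrime q.asIdeal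
  let L₀ := Localization.AtPrime m₀.asIdeal
  letI := ψ.toAlgebra
  haveI := hloc
  haveI : IsOpenImmersion (Spec.map (CommRingCat.ofHom (algebraMap B C))) :=
    IsOpenImmersion.of_isLocalization (R := B) (S := C) g
  haveI : IsOpenImmersion (Spec.map (CommRingCat.ofHom (algebraMap B₀ C))) :=
    IsOpenImmersion.of_isLocalization (R := B₀) (S := C) g₀
  haveI : Module.Flat B C := IsLocalization.flat _ (Submonoid.powers g)
  haveI : Module.Flat B₀ C := IsLocalization.flat _ (Submonoid.powers g₀)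
  obtain ⟨eC⟩ := DualSch.nonempty_chart_compare (B := C) k k₀ hfac e e₀
  have hgu : IsUnit (algebraMap B L g) := IsLocalization.map_units L (⟨g, hg⟩ : q.asIdeal.primeCompl)
  let χ : C →+* L := IsLocalization.Away.lift g hgu
  letI : Algebra C L := χ.toAlgebra
  haveI : IsScalarTower B C L := IsScalarTower.of_algebraMap_eq fun b => (IsLocalization.Away.lift_eq g hgu b).symm
  let rI : Ideal C := (IsLocalRing.maximalIdeal L).comap χ
  haveI : rI.IsPrime := Ideal.IsPrime.comap χ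
  haveI hL : IsLocalization.AtPrime L rI := by
    haveI := IsLocalization.isLocalization_of_submonoid_le C L (Submonoid.powers g) q.asIdeal.primeCompl
      (Submonoid.powers_le.2 hg)
    refine IsLocalization.of_le (q.asIdeal.primeCompl.map (algebraMap B C)) rI.primeCompl ?_ fun r hr =>
      not_not.1 fun hu => hr ((IsLocalRing.mem_maximalIdeal _).2 hu)
    rintro _ ⟨b, hb, rfl⟩ hbr
    have hb' : algebraMap C L (algebraMap B C b) ∈ IsLocalRing.maximalIdeal L := hbr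
    rw [← IsScalarTower.algebraMap_apply, IsLocalization.AtPrime.to_map_mem_maximal_iff L q.asIdeal b] at hb'
    exact hb hb'
  letI : Algebra B₀ L := (χ.comp ψ).toAlgebra
  haveI : IsScalarTower B₀ C L := IsScalarTower.of_algebraMap_eq fun _ => rfl
  let q₀ : PrimeSpectrum B₀ := PrimeSpectrum.comap ψ ⟨rI, inferInstance⟩
  haveI hL₀ : IsLocalization.AtPrime L q₀.asIdeal :=
    IsLocalization.isLocalization_isLocalization_atPrime_isLocalization (R := B₀) (S := C) (Submonoid.powers g₀) L rI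
  have hrq : PrimeSpectrum.comap (algebraMap B C) ⟨rI, inferInstance⟩ = q := by
    refine PrimeSpectrum.ext (Ideal.ext fun b => ?_)
    show algebraMap C L (algebraMap B C b) ∈ IsLocalRing.maximalIdeal L ↔ b ∈ q.asIdeal
    rw [← IsScalarTower.algebraMap_apply]
    exact IsLocalization.AtPrime.to_map_mem_maximal_iff L q.asIdeal b
  have hk : k₀ q₀ = k q := by
    have h1 := congrArg (fun φ : Spec (CommRingCat.of C) ⟶ X => φ.base ⟨rI, inferInstance⟩) hfac
    simp only [Scheme.Hom.comp_base, TopCat.comp_app] at h1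
    rw [← hrq]
    exact h1.symm
  have hle : q₀ ≤ m₀ := by
    rw [PrimeSpectrum.le_iff_specializes]
    refine k₀.isOpenEmbedding.isInducing.specializes_iff.1 ?_
    rw [← hk] at h
    exact h
  have hsub : m₀.asIdeal.primeCompl ≤ q₀.asIdeal.primeCompl := fun b hb hb' => hb (hle hb')
  have hu₀ : ∀ y : m₀.asIdeal.primeCompl, IsUnit (algebraMap B₀ L y) := fun y =>
    IsLocalization.map_units L (⟨y.1, hsub y.2⟩ : q₀.asIdeal.primeCompl)
  letI : Algebra L₀ L := (IsLocalization.lift (M := m₀.asIdeal.primeCompl) (S := L₀) hu₀).toAlgebra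
  haveI : IsScalarTower B₀ L₀ L := IsScalarTower.of_algebraMap_eq fun b =>
    (IsLocalization.lift_eq (M := m₀.asIdeal.primeCompl) (S := L₀) hu₀ b).symm
  haveI := IsLocalization.isLocalization_of_submonoid_le L₀ L m₀.asIdeal.primeCompl q₀.asIdeal.primeCompl hsub
  haveI : Module.Flat B L := IsLocalization.flat L q.asIdeal.primeCompl
  haveI : Module.Flat B₀ L₀ := IsLocalization.flat L₀ m₀.asIdeal.primeCompl
  haveI : IsNoetherianRing L₀ := IsLocalization.isNoetherianRing m₀.asIdeal.primeCompl L₀ inferInstance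
  have h1 : Dual.IsDualizing L₀ ((DRing.LBaseChange (algebraMap B₀ L₀)).obj ν₀) :=
    isDualizing_of_iso (lBaseChangeObjIso _ ν₀).symm hd
  have h2 := DualCx.Loc.isDualizing_lBaseChange (B := L) (q₀.asIdeal.primeCompl.map (algebraMap B₀ L₀)) h1
  obtain ⟨d₁⟩ := Shriek.nonempty_lbcComp (algebraMap B₀ L₀) (algebraMap L₀ L) (algebraMap B₀ L)
    (IsScalarTower.algebraMap_eq B₀ L₀ L).symm ν₀
  obtain ⟨d₂⟩ := Shriek.nonempty_lbcComp (algebraMap B₀ C) (algebraMap C L) (algebraMap B₀ L)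
    (IsScalarTower.algebraMap_eq B₀ C L).symm ν₀
  obtain ⟨d₃⟩ := Shriek.nonempty_lbcComp (algebraMap B C) (algebraMap C L) (algebraMap B L)
    (IsScalarTower.algebraMap_eq B C L).symm ν
  exact isDualizing_of_iso (d₁ ≪≫ d₂.symm ≪≫ (DRing.LBaseChange (algebraMap C L)).mapIso eC.symm ≪≫ d₃ ≪≫
    lBaseChangeObjIso _ ν) h2

/-- **the adjoint of a dualizing complex is dualizing** -/
theorem isDualizingSch_adjoint [IsNoetherian Y] (f : X ⟶ Y) [IsProper f] [DCoh.HasRpush f]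
    {hf : DCoh.RpushPreservesQCoh f} {a : DCoh.DQCoh Y ⥤ DCoh.DQCoh X} (adj : DCoh.RpushQ f hf ⊣ a)
    (K : DCoh.DQCoh Y) (hK : Dual2.IsDualizingSch Y K.obj) : Dual2.IsDualizingSch X (a.obj K).obj := by
  haveI := isNoetherian_of_proper f
  obtain ⟨c, hc⟩ := exists_low hK
  obtain ⟨c', hc'⟩ := exists_bdd_adjoint f adj K c ((DerivedCategory.isGE_iff _ _).2 fun i hi => hc i hi)
  have key : ∀ x : X, ∃ x₀ : X, x ⤳ x₀ ∧ IsClosed ({x₀} : Set X) := fun x => by
    obtain ⟨x₀, hx₀, hc₀⟩ := (isClosed_closure (s := ({x} : Set X))).exists_closed_singleton ⟨x, subset_closure rfl⟩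
    exact ⟨x₀, specializes_iff_mem_closure.2 hx₀, hc₀⟩
  choose x₀ hsp hcl using key
  choose B hB k hk ν m hm hnoe hdual hkm e hd _ using fun x : X => exists_chart_closed f adj K hK (x₀ x) (hcl x)
  refine DualSch.isDualizingSch_of_cover (a.obj K).obj X B k (fun x => ⟨x, ?_⟩) fun i => ⟨ν i, ?_, e i⟩
  · exact (hsp x).mem_open (k x).isOpenEmbedding.isOpen_range ⟨_, hkm x⟩
  · haveI := hnoe i
    obtain ⟨μ, ⟨eμ⟩, hfin, hlow⟩ := exists_chart_coh (k i)
      (fun n => coh_adjoint f adj K (DualSch.isCoh_HD hK) c hc n) c' (fun n hn => bdd_of_isGE hc' c' rfl n hn)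
    obtain ⟨eμν⟩ := DualSch.nonempty_iso_of_tildeD (eμ.symm ≪≫ (e i).some)
    refine isDualizing_of_iso eμν (DualCx.isDualizing_of_pointwise ?_ hfin hlow fun q => ?_)
    · obtain ⟨η, hη⟩ := hdual i
      exact DualCx.ringKrullDim_lt_top hη
    · obtain ⟨z, hz, hzc⟩ : ∃ z : X, (k i) q ⤳ z ∧ IsClosed ({z} : Set X) := ⟨_, hsp _, hcl _⟩
      obtain ⟨B₀, _, k₀, _, ν₀, m₀, hm₀, hn₀, -, hkm₀, ⟨e₀⟩, hd₀, -⟩ := exists_chart_closed f adj K hK z hzc
      haveI := hn₀
      exact isDualizing_locD_transfer (k i) k₀ eμ e₀ q ⟨m₀, hm₀.isPrime⟩ (hkm₀.symm ▸ hz) hd₀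

end Local

end Groth.Agent.DCohShriek
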