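import Groth.Agent.W7ModH.Basic
import Mathlib.Algebra.Homology.DerivedCategory.Ext.Map

/-!
# The natural isomorphism `Ext^n(O, M) ≅ H^n(M)`
-/

set_option autoImplicit false
set_option backward.isDefEq.respectTransparency false
set_option backward.isDefEq.respectTransparency.types false
set_option backward.defeqAttrib.useBackward true
set_option linter.unusedSectionVars false
set_option linter.style.haveILetI false

universe u

open CategoryTheory Category Limits Opposite Abelian

namespace Groth.Agent.DCohShriek.ExtH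

open Groth.Agent.SiteCoh Groth.Agent.W7ModH

variable {C : Type u} [SmallCategory C] {J : GrothendieckTopology C} {R : Sheaf J RingCat.{u}}
  [HasExt.{u} (SheafOfModules.{u} R)]

local instance preservesFiniteColimits_toSheaf : PreservesFiniteColimits (SheafOfModules.toSheaf.{u} R) :=
  CohQC.toSheaf_preservesFiniteColimits R

/-- the comparison map `Ext^n(O, M) → H^n(M)` -/
noncomputable def cmp (M : SheafOfModules.{u} R) (n : ℕ) :
    Ext (SheafOfModules.unit R) M n →+ Sheaf.H.{u} ((SheafOfModules.toSheaf R).obj M) n :=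
  AddMonoidHom.mk' (fun x => (Ext.mk₀ (one R)).comp (x.mapExactFunctor (SheafOfModules.toSheaf R)) (zero_add n))
    fun x y => by rw [Ext.mapExactFunctor_add, Ext.comp_add]

lemma cmp_natural {M N : SheafOfModules.{u} R} (g : M ⟶ N) (n : ℕ) (x : Ext (SheafOfModules.unit R) M n) :
    cmp N n (x.comp (Ext.mk₀ g) (add_zero n)) =
      Sheaf.H.map ((SheafOfModules.toSheaf R).map g) n (cmp M n x) := by
  show (Ext.mk₀ (one R)).comp ((x.comp (Ext.mk₀ g) (add_zero n)).mapExactFunctor _) (zero_add n) =
    ((Ext.mk₀ (one R)).comp (x.mapExactFunctor _) (zero_add n)).comp (Ext.mk₀ _) (add_zero n)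
  rw [Ext.mapExactFunctor_comp, Ext.mapExactFunctor_mk₀,
    Ext.comp_assoc _ _ _ (zero_add n) (add_zero n) (by omega)]

lemma cmp_extClass {S : ShortComplex (SheafOfModules.{u} R)} (hS : S.ShortExact) (n : ℕ)
    (y : Ext (SheafOfModules.unit R) S.X₃ n) :
    cmp S.X₁ (n + 1) (y.comp hS.extClass rfl) =
      (cmp S.X₃ n y).comp (hS.map_of_exact (SheafOfModules.toSheaf R)).extClass rfl := by
  show (Ext.mk₀ (one R)).comp ((y.comp hS.extClass rfl).mapExactFunctor _) (zero_add (n + 1)) =
    ((Ext.mk₀ (one R)).comp (y.mapExactFunctor _) (zero_add n)).comp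
      (hS.map_of_exact (SheafOfModules.toSheaf R)).extClass rfl
  rw [Ext.mapExactFunctor_comp, Ext.mapExactFunctor_extClass,
    Ext.comp_assoc _ _ _ (zero_add n) rfl (by omega)]

theorem cmp_bijective (M : SheafOfModules.{u} R) (n : ℕ) : Function.Bijective (cmp M n) := by
  induction n generalizing M with
  | zero =>
    have h : ∀ s : SheafOfModules.unit R ⟶ M, cmp M 0 (Ext.mk₀ s) = Ext.mk₀ (unitConstEquiv M s) := fun s => by
      show (Ext.mk₀ (one R)).comp ((Ext.mk₀ s).mapExactFunctor _) (zero_add 0) = _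
      rw [Ext.mapExactFunctor_mk₀, Ext.mk₀_comp_mk₀]
      rfl
    have hc : cmp M 0 ∘ Ext.mk₀ = Ext.mk₀ ∘ unitConstEquiv M := funext h
    exact (Function.Bijective.of_comp_iff _ (Ext.mk₀_bijective _ M)).1
      (hc ▸ (Ext.mk₀_bijective _ _).comp (unitConstEquiv M).bijective)
  | succ n ih =>
    haveI := ModSiteGro.isGrothendieckAbelian R
    let T := SheafOfModules.toSheaf R
    let S := embedSeq M
    haveI hinj : Injective S.X₂ := embedSeq_injective M
    haveI hI' : Subsingleton (Ext (SheafOfModules.unit R) S.X₂ (n + 1)) := subsingleton_ext_injective _ _ n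
    have hS : S.ShortExact := embedSeq_shortExact M
    have hTS : (S.map T).ShortExact := hS.map_of_exact T
    haveI hI : Subsingleton (Ext (constZ J) (S.map T).X₂ (n + 1)) :=
      subsingleton_H_succ_of_totallyAcyclic (W7TotAcyc.isTotallyAcyclic_injective_module R S.X₂) n
    refine ⟨(injective_iff_map_eq_zero _).2 fun x hx => ?_, fun x' => ?_⟩
    · obtain ⟨y, rfl⟩ := Ext.covariant_sequence_exact₁ (SheafOfModules.unit R) hS x
        (Subsingleton.elim _ _) (rfl : n + 1 = n + 1)
      erw [cmp_extClass hS n y] at hx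
      obtain ⟨z', hz'⟩ := Ext.covariant_sequence_exact₃ (constZ J) hTS (cmp S.X₃ n y) rfl hx
      obtain ⟨z, rfl⟩ := (ih S.X₂).2 z'
      have hy : z.comp (Ext.mk₀ S.g) (add_zero n) = y := (ih S.X₃).1 ((cmp_natural S.g n z).trans hz')
      rw [← hy, Ext.comp_assoc _ _ _ (add_zero n) (zero_add 1) (by omega), hS.comp_extClass, Ext.comp_zero]
    · obtain ⟨y', hy'⟩ := Ext.covariant_sequence_exact₁ (constZ J) hTS x'
        (Subsingleton.elim _ _) (rfl : n + 1 = n + 1)
      obtain ⟨y, rfl⟩ := (ih S.X₃).2 y'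
      exact ⟨y.comp hS.extClass rfl, (cmp_extClass hS n y).trans hy'⟩

/-- `Ext^n(O, M) ≃+ H^n(M)` -/
noncomputable def cmpEquiv (M : SheafOfModules.{u} R) (n : ℕ) :
    Ext (SheafOfModules.unit R) M n ≃+ Sheaf.H.{u} ((SheafOfModules.toSheaf R).obj M) n :=
  AddEquiv.ofBijective (cmp M n) (cmp_bijective M n)

end Groth.Agent.DCohShriek.ExtH
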