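import Groth.Agent.DCohShriek.Coherent
import Groth.Agent.DCohShriek.Amplitude
import Groth.Agent.PerfGen.PnPC
import Groth.Agent.DQCoh.PCNoeth

/-!
# The right adjoint of `Rπ_*` for `π : P^n_R → Spec R` preserves bounded below coherent objects
-/

set_option autoImplicit false
set_option backward.isDefEq.respectTransparency false
set_option backward.isDefEq.respectTransparency.types false
set_option linter.style.haveILetI false
set_option linter.unusedSectionVars false

universe u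

open CategoryTheory Limits Pretriangulated AlgebraicGeometry

attribute [local instance] HasDerivedCategory.standard

namespace Groth.Agent.DCohShriek

open Groth.Agent.PerfGen

section Trunc

variable {X Y : Scheme.{u}}

/-- `τ_{≤ n}` with its factorisation property -/
theorem exists_truncLE_fac (A : DCoh.D X) (hA : DCoh.IsQCohD A) (n : ℤ) :
    ∃ (L : DCoh.D X) (τ : L ⟶ A), DCoh.IsQCohD L ∧ L.IsLE n ∧
      (∀ i : ℤ, i ≤ n → IsIso ((DerivedCategory.homologyFunctor X.Modules i).map τ)) ∧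
      ∀ (L' : DCoh.D X), L'.IsLE n → ∀ g : L' ⟶ A, ∃ w : L' ⟶ L, w ≫ τ = g := by
  let t : Triangulated.TStructure (DCoh.D X) := DerivedCategory.TStructure.t
  let H := DerivedCategory.homologyFunctor X.Modules
  have hT := t.triangleLEGE_distinguished n (n + 1) rfl A
  have hR : ((t.truncGE (n + 1)).obj A).IsGE (n + 1) := t.isGE_truncGE_obj A _ _ le_rfl
  have hRz := (DerivedCategory.isGE_iff _ _).1 hR
  have hL : ((t.truncLE n).obj A).IsLE n := t.isLE_truncLE_obj A n n le_rfl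
  have hiso : ∀ i : ℤ, i ≤ n → IsIso ((H i).map ((t.truncLEι n).app A)) := fun i hi => by
    haveI : Mono ((H i).map ((t.truncLEι n).app A)) :=
      (DerivedCategory.HomologySequence.exact₁ _ hT (i - 1) i (by omega)).mono_g
        ((hRz (i - 1) (by omega)).eq_of_src _ _)
    haveI : Epi ((H i).map ((t.truncLEι n).app A)) :=
      (DerivedCategory.HomologySequence.exact₂ _ hT i).epi_f ((hRz i (by omega)).eq_of_tgt _ _)
    exact isIso_of_mono_of_epi _
  refine ⟨_, (t.truncLEι n).app A, fun i => ?_, hL, hiso, fun L' hL' g => ?_⟩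
  · by_cases hi : i ≤ n
    · haveI := hiso i hi
      exact QC.isQCoh_of_iso (asIso ((H i).map ((t.truncLEι n).app A))).symm (hA i)
    · exact DQCoh.isQCoh_of_isZero ((DerivedCategory.isLE_iff _ n).1 hL i (by omega))
  · obtain ⟨w, hw⟩ := Triangle.coyoneda_exact₂ _ hT g
      (eq_zero_of_le_ge (a := n) (b := n + 1) (by omega) (fun i hi => DerivedCategory.isZero_of_isLE L' n i hi)
        (fun i hi => hRz i hi) _)
    exact ⟨w, hw.symm⟩

/-- cohomology is detected by maps from objects bounded above -/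
theorem isIso_hd_of_bijective {A B : DCoh.D X} (hA : DCoh.IsQCohD A) (hB : DCoh.IsQCohD B) (α : A ⟶ B) (j : ℤ)
    (h : ∀ L : DCoh.D X, DCoh.IsQCohD L → L.IsLE j → Function.Bijective fun x : L ⟶ A => x ≫ α)
    (i : ℤ) (hi : i ≤ j) : IsIso ((DerivedCategory.homologyFunctor X.Modules i).map α) := by
  let H := DerivedCategory.homologyFunctor X.Modules i
  obtain ⟨L₁, τ₁, hq₁, hl₁, hiso₁, -⟩ := exists_truncLE_fac A hA j
  obtain ⟨L₂, τ₂, hq₂, hl₂, hiso₂, hfac⟩ := exists_truncLE_fac B hB j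
  haveI := hiso₁ i hi
  haveI := hiso₂ i hi
  obtain ⟨v, hv⟩ := (h L₂ hq₂ hl₂).2 τ₂
  obtain ⟨w, hw⟩ := hfac L₁ hl₁ (τ₁ ≫ α)
  have hwv : w ≫ v = τ₁ := (h L₁ hq₁ hl₁).1 (by
    show (w ≫ v) ≫ α = τ₁ ≫ α
    rw [Category.assoc, show v ≫ α = τ₂ from hv, hw])
  haveI : Epi (H.map v) := epi_of_epi_fac (f := H.map w) (h := H.map τ₁) (by rw [← Functor.map_comp, hwv])
  haveI : IsIso (H.map v ≫ H.map α) := by rw [← Functor.map_comp, show v ≫ α = τ₂ from hv]; infer_instance
  haveI : Mono (H.map v) := mono_of_mono (H.map v) (H.map α)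
  haveI : IsIso (H.map v) := isIso_of_mono_of_epi _
  exact IsIso.of_isIso_comp_left (H.map v) (H.map α)

/-- a map which is an isomorphism on low cohomology stays one after the right adjoint -/
theorem isIso_hd_adjoint_map [CompactSpace X] [QuasiSeparatedSpace X] [CompactSpace Y] [QuasiSeparatedSpace Y]
    (f : X ⟶ Y) [DCoh.HasRpush f] {hf : DCoh.RpushPreservesQCoh f} {a : DCoh.DQCoh Y ⥤ DCoh.DQCoh X}
    (adj : DCoh.RpushQ f hf ⊣ a) : ∃ N : ℕ, ∀ {L K : DCoh.DQCoh Y} (φ : L ⟶ K) (m : ℤ),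
      (∀ i, i ≤ m → IsIso ((DerivedCategory.homologyFunctor Y.Modules i).map φ.hom)) →
      ∀ i, i ≤ m - N → IsIso ((DerivedCategory.homologyFunctor X.Modules i).map (a.map φ).hom) := by
  haveI : QuasiCompact f := quasiCompact_of_compactSpace f
  haveI : QuasiSeparated f := inferInstance
  obtain ⟨N, hN⟩ := DQPush.exists_amplitude f
  refine ⟨N + 3, fun {L K} φ m hφ i hi => ?_⟩
  refine isIso_hd_of_bijective (a.obj L).property (a.obj K).property _ (m - (N + 3 : ℕ)) ?_ i hi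
  intro E hE hEle
  obtain ⟨C, g, d, hT⟩ := distinguished_cocone_triangle φ.hom
  have hC : ∀ k, k < m → IsZero (DCoh.HD C k) := fun k hk => by
    haveI := hφ k (by omega)
    haveI := hφ (k + 1) (by omega)
    refine (DerivedCategory.HomologySequence.exact₃ _ hT k (k + 1) rfl).isZero_X₂ ?_ ?_
    · rw [← cancel_epi ((DerivedCategory.homologyFunctor Y.Modules k).map φ.hom), comp_zero, ← Functor.map_comp,
        show φ.hom ≫ (Triangle.mk φ.hom g d).mor₂ = 0 from comp_distTriang_mor_zero₁₂ _ hT, Functor.map_zero]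
    · rw [← cancel_mono ((DerivedCategory.homologyFunctor Y.Modules (k + 1)).map φ.hom), zero_comp]
      exact DerivedCategory.HomologySequence.δ_comp _ hT k (k + 1) rfl
  haveI := additive_rpush f
  have hRz : ∀ k, m - 3 < k → IsZero (DCoh.HD ((DCoh.Rpush f).obj E) k) := fun k hk =>
    hN E hE _ hEle k (by omega)
  have hbij : Function.Bijective fun ψ : (DCoh.Rpush f).obj E ⟶ L.obj => ψ ≫ φ.hom := by
    refine ⟨fun ψ ψ' hψ => ?_, fun ψ => ?_⟩
    · obtain ⟨u, hu⟩ := Triangle.coyoneda_exact₂ _ (inv_rot_of_distTriang _ hT) (ψ - ψ') (by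
        show (ψ - ψ') ≫ φ.hom = 0
        rw [Preadditive.sub_comp, sub_eq_zero]; exact hψ)
      have hu0 : u = 0 := eq_zero_of_le_ge (a := m - 3) (b := m) (by omega) hRz (fun k hk =>
        (hC (k - 1) (by omega)).of_iso
          (((DerivedCategory.homologyFunctor Y.Modules 0).shiftIso (-1) k (k - 1) (by omega)).app C)) u
      rw [← sub_eq_zero, hu, hu0, zero_comp]
    · obtain ⟨u, hu⟩ := Triangle.coyoneda_exact₂ _ hT ψ
        (eq_zero_of_le_ge (a := m - 3) (b := m) (by omega) hRz hC _)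
      exact ⟨u, hu.symm⟩
  have key : (tr adj : (E ⟶ (a.obj K).obj) → _) ∘ (fun x : E ⟶ (a.obj L).obj => x ≫ (a.map φ).hom) =
      (fun ψ : (DCoh.Rpush f).obj E ⟶ L.obj => ψ ≫ φ.hom) ∘ tr adj := funext fun x => tr_map adj φ x
  refine (Function.Bijective.of_comp_iff' (tr_bijective adj hE K) _).1 ?_
  rw [key]
  exact hbij.comp (tr_bijective adj hE L)

end Trunc

section Pn

lemma isZero_HD_of_hom_zero {A : Type u} [CommRing A] {K : DCoh.D (Spec (CommRingCat.of A))} (hK : DCoh.IsQCohD K)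
    (i : ℤ) (h : ∀ g : DCoh.inD (Spec (CommRingCat.of A)) (Coh.structureModule _) ⟶ K⟦i⟧, g = 0) :
    IsZero (DCoh.HD K i) := by
  obtain ⟨H, ⟨e⟩, ⟨l⟩⟩ := exists_hom_unit_equiv A (K := K⟦i⟧) (isQCohD_shift hK i)
  haveI : Subsingleton (DCoh.inD (Spec (CommRingCat.of A)) (Coh.structureModule _) ⟶ K⟦i⟧) := ⟨fun x y => (h x).trans (h y).symm⟩
  haveI : Subsingleton H := l.symm.injective.subsingleton
  exact ((tilde.functor (CommRingCat.of A)).map_isZero (ModuleCat.isZero_of_subsingleton H)).of_iso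
    ((((DerivedCategory.homologyFunctor _ 0).shiftIso i 0 i (by omega)).app K).symm ≪≫ e)

variable (n : ℕ) (R : Type u) [CommRing R] [IsNoetherianRing R] [DCoh.HasRpush (CohB1.ProjSpace.toSpec n R)]
  {hq : DCoh.RpushPreservesQCoh (CohB1.ProjSpace.toSpec n R)}
  {a : DCoh.DQCoh (Spec (CommRingCat.of R)) ⥤ DCoh.DQCoh (CohB1.ProjSpace n R)}
  (adj : DCoh.RpushQ (CohB1.ProjSpace.toSpec n R) hq ⊣ a)

instance linear_trm {X : Scheme.{u}} [X.Over (Spec (CommRingCat.of R))] (L : X.Modules) :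
    (DCoh.tensorRightMod L).Linear R :=
  ⟨fun {M N} f r => by rw [trm_map_eq_tmap, trm_map_eq_tmap, SerrePn.tmap_smul]⟩

include adj in
theorem coh_pn_bounded (K : DCoh.DQCoh (Spec (CommRingCat.of R))) (hK : ∀ i, Coh.IsCoh (DCoh.HD K.obj i))
    (c b : ℤ) (hc : ∀ i, i < c → IsZero (DCoh.HD K.obj i)) (hb : K.obj.IsLE b) (i : ℤ) :
    Coh.IsCoh (DCoh.HD (a.obj K).obj i) := by
  obtain ⟨hp, hf, hl⟩ := proper_flat_lfp n R
  let π := CohB1.ProjSpace.toSpec n R
  let P := CohB1.ProjSpace n R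
  let S := Spec (CommRingCat.of R)
  haveI : π.IsOver (Spec (CommRingCat.of R)) := isOver_spec π
  haveI : IsLocallyNoetherian P := LocallyOfFiniteType.isLocallyNoetherian π
  haveI : CompactSpace P := QuasiCompact.compactSpace_of_compactSpace π
  haveI : IsNoetherian P := {}
  haveI := KFlat.hasLpull π
  haveI := DCohShriek.additive_rpush π
  haveI := linear_rpush (A := R) π
  let N := (a.obj K).obj
  let O := DCoh.inD S (Coh.structureModule S)
  haveI : SiteCmp.HasRpushD (ModSite.RMor.ofScheme π) := ‹DCoh.HasRpush π›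
  suffices h : ∀ d : ℕ, d ≤ n → ∀ m : ℤ, DCoh.IsPseudoCoherentD m ((twPush n R d).obj N) by
    exact ((DQCoh.pc_iff_isCoh N (a.obj K).property i).1 (pc_of_twPush n R N (a.obj K).property h i)).1 i le_rfl
  intro d hd m
  let G := (twPush n R (d : ℤ)).obj N
  have hG : DCoh.IsQCohD G := DQPush.isQCohD_rpush π (isQCohD_twD n R d (a.obj K).property)
  obtain ⟨adjT⟩ := nonempty_twPull_adj n R (d : ℤ)
  haveI : (twPush n R (d : ℤ)).Linear R :=
    inferInstanceAs (((DCoh.tensorRightMod (tw n R (d : ℤ))).mapDerivedCategory ⋙ DCoh.Rpush π).Linear R)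
  haveI : (twPush n R (d : ℤ)).Additive :=
    inferInstanceAs (((DCoh.tensorRightMod (tw n R (d : ℤ))).mapDerivedCategory ⋙ DCoh.Rpush π).Additive)
  -- maps from a shift of `O`
  have key : ∀ j : ℤ, Nonempty (((DCoh.inD P (tw n R (-(d : ℤ))))⟦j⟧ ⟶ N) ≃ₗ[R] (O⟦j⟧ ⟶ G)) := fun j => by
    obtain ⟨t⟩ := nonempty_twPull_unit n R (d : ℤ) j
    let l : ((twPull n R (d : ℤ)).obj (O⟦j⟧) ⟶ N) →ₗ[R] (O⟦j⟧ ⟶ G) :=
      (Linear.leftComp R _ (adjT.unit.app (O⟦j⟧))).comp ((twPush n R (d : ℤ)).mapLinearMap R)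
    have hl : Function.Bijective l := by
      have : ⇑l = (adjT.homEquiv (O⟦j⟧) N) := funext fun x => (adjT.homEquiv_unit _ _ _).symm
      rw [this]
      exact Equiv.bijective _
    exact ⟨(Linear.homCongr R t.symm (Iso.refl N)) ≪≫ₗ LinearEquiv.ofBijective l hl⟩
  have hfin : ∀ j : ℤ, Module.Finite R (O⟦j⟧ ⟶ G) := fun j => by
    obtain ⟨l⟩ := key j
    haveI := finite_hom_adjoint π adj K hK c hc (DQCoh.perfect_shift (isPerfect_tw n R (-(d : ℤ))) j)
    exact Module.Finite.equiv l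
  have htransfer : ∀ j : ℤ, Nonempty ((O ⟶ G⟦j⟧) ≃ₗ[R] (O⟦-j⟧ ⟶ G)) := fun j => by
    let c₀ := (shiftFunctorCompIsoId (DCoh.D S) (-j) j (neg_add_cancel j)).app O
    exact ⟨((LinearEquiv.ofBijective ((shiftFunctor (DCoh.D S) j).mapLinearMap R (X := O⟦-j⟧) (Y := G))
      ((Functor.FullyFaithful.ofFullyFaithful (shiftFunctor (DCoh.D S) j)).map_bijective _ _)) ≪≫ₗ
        Linear.homCongr R (show (O⟦-j⟧)⟦j⟧ ≅ O from c₀) (Iso.refl (G⟦j⟧))).symm⟩
  refine (DQCoh.pc_iff_isCoh G hG m).2 ⟨fun j _ => isCoh_HD_of_finite R hG j ?_, ?_⟩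
  · obtain ⟨l⟩ := htransfer j
    haveI := hfin (-j)
    exact Module.Finite.equiv l.symm
  · have hperf : DCoh.IsPerfect ((DCoh.Rpush π).obj (DCoh.inD P (tw n R (-(d : ℤ))))) :=
      S1002.result π _ (isPerfect_tw n R _)
    obtain ⟨w, hw⟩ := exists_homVac_isLE hperf
    refine ⟨b + w, (DerivedCategory.isLE_iff _ _).2 fun j hj => isZero_HD_of_hom_zero hG j fun g => ?_⟩
    obtain ⟨l₁⟩ := htransfer j
    obtain ⟨l₂⟩ := key (-j)
    apply (l₂.trans l₁.symm).symm.injective
    rw [map_zero]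
    refine tr_eq_zero adj (isQCohD_of_isPerfect (DQCoh.perfect_shift (isPerfect_tw n R _) _)) ?_
    let s := (RPushSite.shiftIso (ModSite.RMor.ofScheme π) (-j)).app (DCoh.inD P (tw n R (-(d : ℤ))))
    exact (cancel_epi s.inv).1 ((hw K.obj K.property b hb j (by omega) _).trans comp_zero.symm)

include adj in
/-- **`a_π` preserves bounded below coherent objects** -/
theorem coh_pn (K : DCoh.DQCoh (Spec (CommRingCat.of R))) (hK : ∀ i, Coh.IsCoh (DCoh.HD K.obj i)) (c : ℤ)
    (hc : ∀ i, i < c → IsZero (DCoh.HD K.obj i)) (i : ℤ) : Coh.IsCoh (DCoh.HD (a.obj K).obj i) := by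
  obtain ⟨hp, -, -⟩ := proper_flat_lfp n R
  let π := CohB1.ProjSpace.toSpec n R
  haveI : CompactSpace (CohB1.ProjSpace n R) := QuasiCompact.compactSpace_of_compactSpace π
  haveI : QuasiSeparatedSpace (CohB1.ProjSpace n R) := quasiSeparatedSpace_of_quasiSeparated π
  obtain ⟨N, hN⟩ := isIso_hd_adjoint_map π adj
  obtain ⟨L, τ, hLq, hLle, hiso⟩ := exists_truncLE K.obj K.property (i + N)
  let L' : DCoh.DQCoh (Spec (CommRingCat.of R)) := ⟨L, hLq⟩
  haveI := hN (ObjectProperty.homMk τ : L' ⟶ K) (i + N) hiso i (by omega)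
  refine isCoh_iso (asIso ((DerivedCategory.homologyFunctor _ i).map (a.map (ObjectProperty.homMk τ : L' ⟶ K)).hom))
    (coh_pn_bounded n R adj L' (fun k => ?_) c (i + N) (fun k hk => ?_) hLle i)
  · by_cases hk : k ≤ i + N
    · haveI := hiso k hk
      exact isCoh_iso (asIso ((DerivedCategory.homologyFunctor _ k).map τ)).symm (hK k)
    · exact K0Coh.isCoh_of_isZero ((DerivedCategory.isLE_iff _ _).1 hLle k (by omega))
  · by_cases hk' : k ≤ i + N
    · haveI := hiso k hk'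
      exact (hc k hk).of_iso (asIso ((DerivedCategory.homologyFunctor _ k).map τ))
    · exact (DerivedCategory.isLE_iff _ _).1 hLle k (by omega)

end Pn

end Groth.Agent.DCohShriek
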