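import Groth.Agent.DCohShriek.BaseChange
import Groth.Agent.S0922

/-!
# `(a_p K)|_T = K|_T` for an open `T` of `X` mapping isomorphically onto an open of `Y`
-/

set_option autoImplicit false
set_option backward.isDefEq.respectTransparency false
set_option backward.isDefEq.respectTransparency.types false
set_option linter.style.haveILetI false
set_option linter.unusedSectionVars false

universe u

open CategoryTheory Limits Pretriangulated AlgebraicGeometry

attribute [local instance] HasDerivedCategory.standard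

namespace Groth.Agent.DCohShriek

open Groth.Agent.DQCoh (RD rdComp rdCongr)
open Groth.Agent.PerfGen

section Closed

variable {T U : Scheme.{u}} (s : T ⟶ U) [IsOpenImmersion s] (hc : IsClosed (Set.range s.base))

set_option maxHeartbeats 400000 in
include hc in
lemma eq_zero_of_clopen {A : DCoh.D T} {G : DCoh.D U} (hG : IsZero ((RD s).obj G))
    (φ : (DCoh.Rpush s).obj A ⟶ G) : φ = 0 := by
  obtain ⟨W, hW⟩ : ∃ W : U.Opens, (W : Set U) = (Set.range s.base)ᶜ := ⟨⟨_, hc.isOpen_compl⟩, rfl⟩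
  have hA : IsZero ((RD W.ι).obj ((DCoh.Rpush s).obj A)) := by
    refine (isZero_RD_iff _ _).2 ?_
    rw [Scheme.Opens.range_ι]
    refine suppD_rpush _ W.2.isClosed_compl ?_
    refine suppD_mono (fun x _ hx => ?_) (suppD_univ A)
    have hx' : s.base x ∈ (W : Set U) := hx
    rw [hW] at hx'
    exact hx' ⟨x, rfl⟩
  have hWc : IsClosed (W : Set U) := by rw [hW]; exact isClosed_compl_iff.2 s.opensRange.2
  haveI hη : IsIso ((adjR W.ι).unit.app G) := by
    have hcov : Set.range W.ι.base ∪ Set.range s.base = Set.univ := by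
      rw [Scheme.Opens.range_ι, hW]
      exact Set.compl_union_self _
    refine isIso_of_cover W.ι s hcov ((adjR W.ι).unit.app G) (isIso_map_unit_adjR W.ι G) ?_
    refine isIso_of_source_target_iso_zero _ (hG.isoZero) (IsZero.isoZero ?_)
    refine (isZero_RD_iff s _).2 (suppD_mono (T := (W : Set U)) hW.le ?_)
    refine suppD_rpush W.ι hWc (suppD_mono (fun x _ => ?_) (suppD_univ _))
    have hx : W.ι.base x ∈ Set.range W.ι.base := ⟨x, rfl⟩
    rwa [Scheme.Opens.range_ι] at hx
  have h1 : φ ≫ (adjR W.ι).unit.app G = 0 :=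
    ((adjR W.ι).homEquiv ((DCoh.Rpush s).obj A) ((RD W.ι).obj G)).symm.injective (hA.eq_of_src _ _)
  exact (cancel_mono ((adjR W.ι).unit.app G)).1 (h1.trans zero_comp.symm)

include hc in
theorem bijective_rpush_rd (A : DCoh.D T) (B : DCoh.D U) :
    Function.Bijective fun φ : (DCoh.Rpush s).obj A ⟶ B => inv ((adjR s).counit.app A) ≫ (RD s).map φ := by
  let η := (adjR s).unit.app B
  have hη : IsIso ((RD s).map η) := isIso_map_unit_adjR s B
  have key : ∀ φ : (DCoh.Rpush s).obj A ⟶ B,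
      φ ≫ η = (DCoh.Rpush s).map (inv ((adjR s).counit.app A) ≫ (RD s).map φ) := fun φ => by
    rw [Functor.map_comp]
    have h1 := (adjR s).unit.naturality φ
    simp only [Functor.id_obj, Functor.id_map, Functor.comp_obj, Functor.comp_map] at h1
    rw [h1]
    congr 1
    rw [Functor.map_inv]
    exact IsIso.eq_inv_of_inv_hom_id ((adjR s).right_triangle_components A)
  refine ⟨fun φ φ' h => ?_, fun y => ?_⟩
  · obtain ⟨G, g, d, hG⟩ := distinguished_cocone_triangle₁ η
    have h1 : (φ - φ') ≫ η = 0 := by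
      rw [Preadditive.sub_comp, key, key]
      exact sub_eq_zero.2 (congrArg (DCoh.Rpush s).map h)
    obtain ⟨χ, hχ⟩ := Triangle.coyoneda_exact₂ _ hG _ h1
    rw [← sub_eq_zero, hχ, eq_zero_of_clopen s hc
      ((Triangle.isZero₁_iff_isIso₂ _ ((RD s).map_distinguished _ hG)).2 hη) χ, zero_comp]
  · obtain ⟨C, d, e, hC⟩ := distinguished_cocone_triangle η
    have h1 : (DCoh.Rpush s).map y ≫ d = 0 :=
      eq_zero_of_clopen s hc ((Triangle.isZero₃_iff_isIso₁ _ ((RD s).map_distinguished _ hC)).2 hη) _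
    obtain ⟨φ, hφ⟩ := Triangle.coyoneda_exact₂ _ hC _ h1
    refine ⟨φ, ?_⟩
    refine (Functor.FullyFaithful.map_injective (adjR s).fullyFaithfulROfIsIsoCounit ?_)
    exact (key φ).symm.trans hφ.symm

/-- `Rs_* ⊣ s^*` for an open and closed immersion -/
noncomputable def adjClopen (hs : DCoh.RpushPreservesQCoh s) : DCoh.RpushQ s hs ⊣ rdQ s :=
  Adjunction.mkOfHomEquiv
    { homEquiv := fun A B =>
        { toFun := fun φ => ObjectProperty.homMk (inv ((adjR s).counit.app A.obj) ≫ (RD s).map φ.hom)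
          invFun := fun y => ObjectProperty.homMk ((Equiv.ofBijective _ (bijective_rpush_rd s hc A.obj B.obj)).symm y.hom)
          left_inv := fun φ => InducedCategory.hom_ext
            ((Equiv.ofBijective _ (bijective_rpush_rd s hc A.obj B.obj)).symm_apply_apply φ.hom)
          right_inv := fun y => InducedCategory.hom_ext
            ((Equiv.ofBijective _ (bijective_rpush_rd s hc A.obj B.obj)).apply_symm_apply y.hom) }
      homEquiv_naturality_left_symm := fun {A A' B} f g => by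
        apply InducedCategory.hom_ext
        refine (bijective_rpush_rd s hc A.obj B.obj).1 ?_
        refine ((Equiv.ofBijective _ (bijective_rpush_rd s hc A.obj B.obj)).apply_symm_apply (f ≫ g).hom).trans ?_
        have hg := (Equiv.ofBijective _ (bijective_rpush_rd s hc A'.obj B.obj)).apply_symm_apply g.hom
        show f.hom ≫ g.hom = inv _ ≫ (RD s).map ((DCoh.Rpush s).map f.hom ≫
          (Equiv.ofBijective _ (bijective_rpush_rd s hc A'.obj B.obj)).symm g.hom)
        conv_lhs => rw [← hg]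
        simp only [Equiv.ofBijective_apply, Functor.map_comp, ← Category.assoc]
        congr 1
        rw [IsIso.comp_inv_eq, Category.assoc, IsIso.eq_inv_comp]
        exact ((adjR s).counit.naturality f.hom).symm
      homEquiv_naturality_right := fun {A B B'} f g => InducedCategory.hom_ext (by
        show inv _ ≫ (RD s).map (f.hom ≫ g.hom) = (inv _ ≫ (RD s).map f.hom) ≫ (RD s).map g.hom
        rw [Functor.map_comp, Category.assoc]) }

end Closed

/-- `R(s ≫ p)_* = Rp_* Rs_*` on `D_QCoh` -/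
noncomputable def rpushQComp {T U V : Scheme.{u}} (s : T ⟶ U) (p : U ⟶ V) (g : T ⟶ V) [DCoh.HasRpush s]
    [DCoh.HasRpush p] [DCoh.HasRpush g] (w : s ≫ p = g) (hs : DCoh.RpushPreservesQCoh s)
    (hp : DCoh.RpushPreservesQCoh p) (hg : DCoh.RpushPreservesQCoh g) :
    DCoh.RpushQ g hg ≅ DCoh.RpushQ s hs ⋙ DCoh.RpushQ p hp :=
  let e : DCoh.Rpush s ⋙ DCoh.Rpush p ≅ DCoh.Rpush g := by
    subst w
    exact (S0922.result s p).some
  NatIso.ofComponents (fun A => ObjectProperty.isoMk _ (e.app A.obj).symm)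
    (fun f => InducedCategory.hom_ext (e.inv.naturality f.hom))

variable {X Y T : Scheme.{u}}

set_option maxHeartbeats 800000 in
/-- **an open of `X` lying isomorphically over an open of `Y`** -/
theorem nonempty_iso_of_section [CompactSpace T] [CompactSpace X] [QuasiSeparatedSpace X] [CompactSpace Y]
    [QuasiSeparatedSpace Y] (p : X ⟶ Y) [IsSeparated p]
    [DCoh.HasRpush p] {hp : DCoh.RpushPreservesQCoh p} {a : DCoh.DQCoh Y ⥤ DCoh.DQCoh X}
    (adj : DCoh.RpushQ p hp ⊣ a) (j : T ⟶ X) (j' : T ⟶ Y) [IsOpenImmersion j] [IsOpenImmersion j'] (w : j ≫ p = j')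
    {C : Type*} [Category C] (F : C ⥤ DCoh.DQCoh Y)
    (hF : ∀ c, ∃ o : Option ℤ, Fin' o p ∧ Bdd o (F.obj c).obj) :
    Nonempty (F ⋙ a ⋙ ObjectProperty.ι _ ⋙ RD j ≅ F ⋙ ObjectProperty.ι _ ⋙ RD j') := by
  haveI : QuasiCompact p := quasiCompact_of_compactSpace p
  let V : Y.Opens := j'.opensRange
  have hV : IsCompact (V : Set Y) := isCompact_range j'.continuous
  haveI : CompactSpace V := isCompact_iff_compactSpace.1 hV
  haveI : QuasiCompact V.ι := quasiCompact_of_compactSpace _
  haveI : QuasiSeparatedSpace V := quasiSeparatedSpace_of_quasiSeparated V.ι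
  haveI : QuasiCompact (p ∣_ V) := MorphismProperty.of_isPullback (isPullback_morphismRestrict p V).flip ‹_›
  haveI : IsSeparated (p ∣_ V) := MorphismProperty.of_isPullback (isPullback_morphismRestrict p V).flip ‹_›
  haveI : CompactSpace (p ⁻¹ᵁ V) := QuasiCompact.compactSpace_of_compactSpace (p ∣_ V)
  haveI : QuasiSeparatedSpace (p ⁻¹ᵁ V) := quasiSeparatedSpace_of_quasiSeparated (p ∣_ V)
  haveI : QuasiSeparatedSpace T := quasiSeparatedSpace_of_quasiSeparated j'
  let s : T ⟶ (p ⁻¹ᵁ V : Scheme.{u}) := IsOpenImmersion.lift (p ⁻¹ᵁ V).ι j (by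
    rw [Scheme.Opens.range_ι]
    rintro _ ⟨t, rfl⟩
    exact ⟨t, by rw [← w]; rfl⟩)
  have hs : s ≫ (p ⁻¹ᵁ V).ι = j := IsOpenImmersion.lift_fac _ _ _
  haveI : IsOpenImmersion (s ≫ (p ⁻¹ᵁ V).ι) := by rw [hs]; infer_instance
  haveI : IsOpenImmersion s := IsOpenImmersion.of_comp s (p ⁻¹ᵁ V).ι
  let g : T ⟶ (V : Scheme.{u}) := j'.isoOpensRange.hom
  haveI : IsOpenImmersion g := inferInstance
  have hg : g ≫ V.ι = j' := j'.isoOpensRange_hom_ι
  have hsg : s ≫ (p ∣_ V) = g := by
    rw [← cancel_mono V.ι, Category.assoc, morphismRestrict_ι, ← Category.assoc, hs, w, hg]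
  haveI : IsClosedImmersion (s ≫ (p ∣_ V)) := by rw [hsg]; infer_instance
  haveI : IsClosedImmersion s := IsClosedImmersion.of_comp s (p ∣_ V)
  have hsc : IsClosed (Set.range s.base) := s.isClosedEmbedding.isClosed_range
  have hgc : IsClosed (Set.range g.base) := g.isClosedEmbedding.isClosed_range
  have hpV : DCoh.RpushPreservesQCoh (p ∣_ V) := fun K hK => DQPush.isQCohD_rpush (p ∣_ V) hK
  have hsq : DCoh.RpushPreservesQCoh s := fun K hK => DQPush.isQCohD_rpush s hK
  have hgq : DCoh.RpushPreservesQCoh g := fun K hK => DQPush.isQCohD_rpush g hK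
  haveI := isLeftAdjoint_rpushQ (p ∣_ V) hpV
  let aV := (DCoh.RpushQ (p ∣_ V) hpV).rightAdjoint
  let adjV : DCoh.RpushQ (p ∣_ V) hpV ⊣ aV := Adjunction.ofIsLeftAdjoint _
  let e : aV ⋙ rdQ s ≅ rdQ g :=
    (((adjClopen s hsc hsq).comp adjV).ofNatIsoLeft (rpushQComp s (p ∣_ V) g hsg hsq hpV hgq).symm).rightAdjointUniq
      (adjClopen g hgc hgq)
  haveI : ∀ c, IsIso (thetaApp p adj V adjV (F.obj c)) := fun c => by
    obtain ⟨o, ho, hb⟩ := hF c
    exact isIso_thetaApp p adj V adjV ho hV _ hb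
  refine ⟨?_⟩
  refine NatIso.ofComponents (fun c =>
    (rdCongr hs.symm ≪≫ rdComp s (p ⁻¹ᵁ V).ι).app (a.obj (F.obj c)).obj ≪≫
      (RD s).mapIso (asIso (thetaApp p adj V adjV (F.obj c))) ≪≫
      (ObjectProperty.ι _).mapIso (e.app ((rdQ V.ι).obj (F.obj c))) ≪≫
      ((rdComp g V.ι).symm ≪≫ rdCongr hg).app (F.obj c).obj) ?_
  intro c c' φ
  have h1 := (rdCongr hs.symm ≪≫ rdComp s (p ⁻¹ᵁ V).ι).hom.naturality (a.map (F.map φ)).hom
  have h2 := congrArg (RD s).map (thetaApp_naturality p adj V adjV (F.map φ))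
  rw [Functor.map_comp, Functor.map_comp] at h2
  have h3 : (RD s).map (aV.map ((rdQ V.ι).map (F.map φ))).hom ≫ (e.hom.app ((rdQ V.ι).obj (F.obj c'))).hom =
      (e.hom.app ((rdQ V.ι).obj (F.obj c))).hom ≫ (RD g).map ((RD V.ι).map (F.map φ).hom) :=
    congrArg InducedCategory.Hom.hom (e.hom.naturality ((rdQ V.ι).map (F.map φ)))
  have h4 := ((rdComp g V.ι).symm ≪≫ rdCongr hg).hom.naturality (F.map φ).hom
  simp only [Iso.trans_hom, Iso.app_hom, Functor.mapIso_hom, asIso_hom, Category.assoc, Functor.comp_map]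
  simp only [ObjectProperty.ι_map, ObjectProperty.ι_obj, Functor.comp_map,
    NatTrans.comp_app, Category.assoc, Iso.trans_hom] at h1 h2 h4 ⊢
  rw [reassoc_of% h1]
  rw [reassoc_of% h2]
  rw [reassoc_of% h3]
  rw [h4]

end Groth.Agent.DCohShriek
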