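import Groth.Agent.PerfGen.Tors
import Groth.Agent.PerfGen.Extend
import Groth.Agent.DerPush.Triangle
import Groth.Prelude.Def_KLin
import Mathlib

/-!
# `Rf_*` is linear over the base; a torsion criterion for support
-/

set_option autoImplicit false
set_option backward.isDefEq.respectTransparency false
set_option backward.isDefEq.respectTransparency.types false
set_option linter.style.haveILetI false
set_option linter.unusedSectionVars false

universe u

open CategoryTheory Limits Pretriangulated AlgebraicGeometry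

attribute [local instance] HasDerivedCategory.standard

namespace Groth.Agent.DCohShriek

open Groth.Agent.PerfGen

variable {A : Type u} [CommRing A] {X Y : Scheme.{u}}

theorem linear_rpush [X.Over (Spec (CommRingCat.of A))] [Y.Over (Spec (CommRingCat.of A))] (f : X ⟶ Y)
    [f.IsOver (Spec (CommRingCat.of A))] [DCoh.HasRpush f] [(DCoh.Rpush f).Additive] :
    (DCoh.Rpush f).Linear A := by
  refine (Functor.linear_iff A _).2 fun E a => ?_
  obtain ⟨I, hI, ⟨e⟩⟩ := (KInj.isDeforming_Qh (DerPush.exists_kInj_sch (X := X)) (DCoh.pushKh f)).res E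
  haveI hu := DerPush.isIso_rpushUnit_app f hI
  have h1 : (DCoh.Rpush f).map (a • 𝟙 (DerivedCategory.Qh.obj I)) = a • 𝟙 _ := by
    rw [← cancel_epi ((DerPush.rpushUnit f).app I)]
    have h2 := (DerPush.rpushUnit f).naturality (a • 𝟙 I)
    haveI : (DCoh.pushKh f).Linear A := inferInstanceAs
      ((((Scheme.Modules.pushforward f).mapHomotopyCategory (ComplexShape.up ℤ)) ⋙ DerivedCategory.Qh).Linear A)
    have hq : DerivedCategory.Qh.map (a • 𝟙 I) = a • 𝟙 (DerivedCategory.Qh.obj I) := by
      rw [Functor.map_smul, CategoryTheory.Functor.map_id]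
    have h4 : (DCoh.pushKh f).map (a • 𝟙 I) = a • 𝟙 _ :=
      (Functor.map_smul (F := DCoh.pushKh f) _ _).trans (congrArg (a • ·) ((DCoh.pushKh f).map_id I))
    rw [h4, Functor.comp_map, hq] at h2
    refine h2.symm.trans ?_
    rw [Linear.smul_comp, Category.id_comp, Linear.comp_smul]
    exact (congrArg (a • ·) (Category.comp_id _)).symm
  have h3 : a • 𝟙 E = e.hom ≫ (a • 𝟙 (DerivedCategory.Qh.obj I)) ≫ e.inv := by simp
  rw [h3, Functor.map_comp, Functor.map_comp, h1]
  simp [← Functor.map_comp]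

variable [X.Over (Spec (CommRingCat.of A))] [CompactSpace X] [QuasiSeparatedSpace X]

local notation "V₀(" a ")" => (Scheme.zeroLocus X (U := ⊤) {Coh.toGlobal (X ↘ Spec (CommRingCat.of A)) a} : Set X)

/-- **support on `V(a)` is detected by torsion of maps from perfect objects** -/
theorem suppD_of_torsion (a : A) {M : DCoh.D X} (hM : DCoh.IsQCohD M)
    (h : ∀ P : DCoh.D X, DCoh.IsPerfect P → ∀ α : P ⟶ M, ∃ n : ℕ, (a ^ n) • α = 0) : SuppD (V₀(a)) M := by
  have hT : IsClosed (V₀(a)) := Scheme.zeroLocus_isClosed _ _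
  obtain ⟨G, -, hgen, hGp⟩ := exists_gen_qcohD X
  obtain ⟨C, g, d, hC⟩ := distinguished_cocone_triangle (a • 𝟙 G)
  have hC2 : (a ^ 2) • 𝟙 C = 0 := killed_cone a hC
  have hCp : DCoh.IsPerfect C := DQCoh.perfect_obj₃ _ hC hGp hGp
  have hCT : SuppD (V₀(a)) C := fun i => support_subset_of_pow_smul a 2 (by
    have := congrArg (DerivedCategory.homologyFunctor X.Modules i).map hC2
    rwa [hd_map_smul, Functor.map_zero] at this)
  obtain ⟨M₀, r, hM₀, hr, hclass⟩ := exists_coloc (localizing_qcohD X) (cpt_of_perfect hCp) M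
  have hM₀T : PT (V₀(a)) M₀ := hclass _ (localizing_PT hT) ⟨isQCohD_of_isPerfect hCp, hCT⟩
  obtain ⟨N, b, c, hN⟩ := distinguished_cocone_triangle r
  have horth : Orth N C := hom_eq_zero_of_bijective hN hr
  have hinj : ∀ (n : ℤ) (t : G⟦n⟧ ⟶ N), a • t = 0 → t = 0 := by
    intro n t ht
    obtain ⟨s, hs⟩ := Triangle.yoneda_exact₂ _ (Triangle.shift_distinguished _ hC n) t (by
      show (n.negOnePow • (a • 𝟙 G)⟦n⟧') ≫ t = 0
      simp [Units.smul_def, ht])
    have : s = 0 := horth n s
    rw [hs, this, comp_zero]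
  have hN0 : IsZero N := by
    refine hgen N (isQCohD_obj₃ _ hN hM₀ hM) fun n t => ?_
    have hP : DCoh.IsPerfect (G⟦n⟧) := DQCoh.perfect_shift hGp n
    obtain ⟨k, hk⟩ := exists_pow_smul_eq_zero a hP (isQCohD_shift hM₀T.1 1)
      ((localizing_PT hT).shift hM₀T 1).2 (t ≫ c)
    obtain ⟨t', ht'⟩ := Triangle.coyoneda_exact₃ _ hN ((a ^ k) • t) (by
      show ((a ^ k) • t) ≫ c = 0
      rwa [Linear.smul_comp])
    obtain ⟨l, hl⟩ := h _ hP t'
    have hkl : (a ^ (l + k)) • t = 0 := by
      rw [pow_add, mul_smul, ht', ← Linear.smul_comp, hl, zero_comp]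
    clear ht' hl hk
    generalize l + k = m at hkl
    induction m with
    | zero => simpa using hkl
    | succ m ih => exact ih (hinj n _ (by rw [← mul_smul, ← pow_succ']; exact hkl))
  haveI : IsIso r := (Triangle.isZero₃_iff_isIso₁ _ hN).1 hN0
  exact suppD_of_iso (asIso r) hM₀T.2

end Groth.Agent.DCohShriek
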