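import Groth.Agent.DCohShriek.Adjoint
import Groth.Agent.DCohShriek.Amplitude
import Groth.Agent.DCohShriek.Torsion
import Groth.Agent.PerfGen.Extend
import Groth.Agent.PerfGen.ApproxResults
import Groth.Agent.PerfGen.Results
import Groth.Agent.DQPush.Restrict
import Mathlib

/-!
# The right adjoint of `Rf_*` on `D_QCoh` respects supports
-/

set_option autoImplicit false
set_option backward.isDefEq.respectTransparency false
set_option backward.isDefEq.respectTransparency.types false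
set_option linter.style.haveILetI false
set_option linter.unusedSectionVars false

universe u

open CategoryTheory Limits Pretriangulated AlgebraicGeometry

attribute [local instance] HasDerivedCategory.standard

namespace Groth.Agent.DCohShriek

open Groth.Agent.DQCoh (RD)
open Groth.Agent.PerfGen

/-! ### vanishing on an open, tested by perfect objects -/

section Crit

variable {X : Scheme.{u}} [CompactSpace X] [QuasiSeparatedSpace X] (U : X.Opens)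

/-- `α` dies after composition with a map of perfect objects which is invertible on `U` -/
def KillOn {P M : DCoh.D X} (α : P ⟶ M) : Prop :=
  ∃ (P' : DCoh.D X) (β : P' ⟶ P), DCoh.IsPerfect P' ∧ IsIso ((RD U.ι).map β) ∧ β ≫ α = 0

theorem isZero_RD_of_killOn (hU : IsCompact (U : Set X)) {M : DCoh.D X} (hM : DCoh.IsQCohD M)
    (h : ∀ P : DCoh.D X, DCoh.IsPerfect P → ∀ α : P ⟶ M, KillOn U α) : IsZero ((RD U.ι).obj M) := by
  haveI : CompactSpace U := isCompact_iff_compactSpace.1 hU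
  haveI : QuasiCompact U.ι := quasiCompact_of_compactSpace U.ι
  obtain ⟨G, -, hgen, hGp⟩ := exists_gen_qcohD X
  let M' := (RD U.ι).obj M
  have hM' : DCoh.IsQCohD M' := isQCohD_RD U.ι hM
  have h0 : IsZero ((DCoh.Rpush U.ι).obj M') := by
    refine hgen _ (DQPush.isQCohD_rpush U.ι hM') fun n g => ?_
    apply ((adjR U.ι).homEquiv _ _).symm.injective
    refine Eq.trans ?_ (show (0 : (RD U.ι).obj (G⟦n⟧) ⟶ M') = ((adjR U.ι).homEquiv _ _).symm 0 by
      rw [Adjunction.homEquiv_counit, Functor.map_zero, zero_comp])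
    generalize ((adjR U.ι).homEquiv (G⟦n⟧) M').symm g = x
    have hP : DCoh.IsPerfect (G⟦n⟧) := DQCoh.perfect_shift hGp n
    obtain ⟨E₁, β, γ, hE₁, -, hβ, hγ⟩ := exists_lift_map (hasGen X) U.ι isClosed_univ
      (by rw [Set.compl_univ]; exact isCompact_empty) hP (suppD_univ _) hM x
    obtain ⟨P', β', -, hβ', hk⟩ := h E₁ hE₁ γ
    have := congrArg (RD U.ι).map hk
    rw [Functor.map_comp, Functor.map_zero, ← hγ] at this
    rw [← cancel_epi ((RD U.ι).map β), ← cancel_epi ((RD U.ι).map β'), this, comp_zero, comp_zero]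
  exact IsZero.of_iso ((RD U.ι).map_isZero h0) (asIso ((adjR U.ι).counit.app M')).symm

theorem killOn_of_isZero_RD (hU : IsCompact (U : Set X)) {M : DCoh.D X} (hM : DCoh.IsQCohD M)
    (h0 : IsZero ((RD U.ι).obj M)) {P : DCoh.D X} (hP : DCoh.IsPerfect P) (α : P ⟶ M) : KillOn U α := by
  let Z : Set X := (U : Set X)ᶜ
  have hZ : IsClosed Z := U.2.isClosed_compl
  have hMZ : SuppD Z M := by
    have := (isZero_RD_iff U.ι M).1 h0
    rwa [Scheme.Opens.range_ι] at this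
  obtain ⟨G, hG, hGZ, hgen⟩ := hasGen X Z hZ (by rw [compl_compl]; exact hU)
  obtain ⟨W, p, q, hW, rfl⟩ := exists_fac (localizing_PT hZ) (localizing_qcohD X) (fun E h => h.1)
    ⟨isQCohD_of_isPerfect hG, hGZ⟩ (cpt_of_perfect hG) hgen ⟨hM, hMZ⟩ (cpt_of_perfect hP) α
  obtain ⟨hWp, hWZ⟩ := perfT_of_envelope hZ hG hGZ hW.1
  obtain ⟨P', β, d, hT⟩ := distinguished_cocone_triangle₁ p
  refine ⟨P', β, DQCoh.perfect_obj₂ _ (inv_rot_of_distTriang _ hT) (DQCoh.perfect_shift hWp (-1)) hP, ?_, ?_⟩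
  · refine (Triangle.isZero₃_iff_isIso₁ _ ((RD U.ι).map_distinguished _ hT)).1 ?_
    have hZ' : SuppD (Set.range U.ι.base)ᶜ W := by rw [Scheme.Opens.range_ι]; exact hWZ
    exact (isZero_RD_iff U.ι W).2 hZ'
  · have h12 : β ≫ p = 0 := comp_distTriang_mor_zero₁₂ _ hT
    rw [← Category.assoc, h12, zero_comp]

end Crit

/-! ### the bound and the finiteness hypothesis -/

/-- no cohomology below `c`, or no condition -/
def Bdd (o : Option ℤ) {Z : Scheme.{u}} (M : DCoh.D Z) : Prop :=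
  ∀ c ∈ o, ∀ i : ℤ, i < c → IsZero (DCoh.HD M i)

/-- perfect, or pseudo-coherent when a lower bound is imposed -/
def OKo (o : Option ℤ) {Z : Scheme.{u}} (K : DCoh.D Z) : Prop :=
  DCoh.IsPerfect K ∨ (o.isSome ∧ ∀ m : ℤ, DCoh.IsPseudoCoherentD m K)

/-- `Rf_*` sends perfect objects to good ones -/
def Fin' (o : Option ℤ) {X Y : Scheme.{u}} (f : X ⟶ Y) [DCoh.HasRpush f] : Prop :=
  ∀ P : DCoh.D X, DCoh.IsPerfect P → OKo o ((DCoh.Rpush f).obj P)

lemma exists_biprod_of_retract {Z : Scheme.{u}} {K L : DCoh.D Z} (r : Retract K L) :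
    ∃ C : DCoh.D Z, Nonempty (L ≅ K ⊞ C) := by
  obtain ⟨C, a, b, hC⟩ := distinguished_cocone_triangle r.i
  haveI : IsSplitMono r.i := IsSplitMono.mk' ⟨r.r, r.retract⟩
  obtain ⟨e, -⟩ := exists_iso_binaryBiproduct_of_distTriang _ hC
    ((Triangle.mor₃_eq_zero_iff_mono₁ _ hC).2 (inferInstanceAs (Mono r.i)))
  exact ⟨C, ⟨e⟩⟩

lemma okO_of_retract {o : Option ℤ} {Z : Scheme.{u}} {K L : DCoh.D Z} (r : Retract K L) (h : OKo o L) : OKo o K := by
  obtain ⟨C, ⟨e⟩⟩ := exists_biprod_of_retract r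
  haveI : HasBinaryBiproduct K C := inferInstance
  rcases h with h | ⟨ho, h⟩
  · exact Or.inl (DQCoh.perfect_of_retract (L := C) (DQCoh.perfect_of_iso e h)).1
  · exact Or.inr ⟨ho, fun m => (DQCoh.pc_of_retract (L := C) (DQCoh.pc_of_iso e (h m))).1⟩

lemma okO_RD {o : Option ℤ} {Z : Scheme.{u}} {V : Scheme.{u}} (j : V ⟶ Z) [IsOpenImmersion j] {K : DCoh.D Z}
    (h : OKo o K) : OKo o ((RD j).obj K) :=
  h.imp (isPerfect_RD j) fun ⟨ho, h⟩ => ⟨ho, fun m => DQCoh.pc_restrict j (h m)⟩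

theorem fin'_restrict {o : Option ℤ} {X Y : Scheme.{u}} [CompactSpace X] [QuasiSeparatedSpace X] (f : X ⟶ Y)
    [DCoh.HasRpush f] (h : Fin' o f) (W : Y.Opens) (hW : IsCompact ((f ⁻¹ᵁ W : X.Opens) : Set X))
    [DCoh.HasRpush (f ∣_ W)] : Fin' o (f ∣_ W) := by
  intro P hP
  haveI : CompactSpace (f ⁻¹ᵁ W) := isCompact_iff_compactSpace.1 hW
  haveI : QuasiCompact (f ⁻¹ᵁ W).ι := quasiCompact_of_compactSpace _
  haveI : QuasiSeparatedSpace (f ⁻¹ᵁ W) := quasiSeparatedSpace_of_quasiSeparated (f ⁻¹ᵁ W).ι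
  obtain ⟨G, hG, ⟨r⟩⟩ := retT_of_perfect (hasGen X) (f ⁻¹ᵁ W).ι isClosed_univ
    (by rw [Set.compl_univ]; exact isCompact_empty) (F := P) ⟨hP, suppD_univ _⟩
  exact okO_of_retract
    ((r.map (DCoh.Rpush (f ∣_ W))).trans (Retract.ofIso ((DQPush.rpushRestrIso f W).app G).symm))
    (okO_RD W.ι (h G hG.1))

/-! ### the adjunction -/

section Adj

variable {X Y : Scheme.{u}} {f : X ⟶ Y} [DCoh.HasRpush f] {hf : DCoh.RpushPreservesQCoh f}
  {a : DCoh.DQCoh Y ⥤ DCoh.DQCoh X} (adj : DCoh.RpushQ f hf ⊣ a)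

/-- transposition -/
noncomputable def tr {P : DCoh.D X} {Q : DCoh.DQCoh Y} (α : P ⟶ (a.obj Q).obj) : (DCoh.Rpush f).obj P ⟶ Q.obj :=
  (DCoh.Rpush f).map α ≫ (adj.counit.app Q).hom

lemma tr_comp {P P' : DCoh.D X} {Q : DCoh.DQCoh Y} (β : P' ⟶ P) (α : P ⟶ (a.obj Q).obj) :
    tr adj (β ≫ α) = (DCoh.Rpush f).map β ≫ tr adj α := by
  simp [tr]

lemma tr_map {P : DCoh.D X} {Q Q' : DCoh.DQCoh Y} (g : Q ⟶ Q') (α : P ⟶ (a.obj Q).obj) :
    tr adj (α ≫ (a.map g).hom) = tr adj α ≫ g.hom := by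
  simp only [tr, Functor.map_comp, Category.assoc]
  congr 1
  exact congrArg InducedCategory.Hom.hom (adj.counit.naturality g)

lemma tr_bijective {P : DCoh.D X} (hP : DCoh.IsQCohD P) (Q : DCoh.DQCoh Y) :
    Function.Bijective (tr adj : (P ⟶ (a.obj Q).obj) → _) := by
  have key : ∀ α : P ⟶ (a.obj Q).obj, tr adj α =
      ((adj.homEquiv ⟨P, hP⟩ Q).symm (ObjectProperty.homMk α)).hom := fun α => by
    rw [Adjunction.homEquiv_counit]; rfl
  refine ⟨fun α α' h => ?_, fun ψ => ⟨(adj.homEquiv ⟨P, hP⟩ Q (ObjectProperty.homMk ψ)).hom, ?_⟩⟩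
  · rw [key, key] at h
    exact congrArg InducedCategory.Hom.hom ((adj.homEquiv ⟨P, hP⟩ Q).symm.injective (InducedCategory.hom_ext h))
  · rw [key]
    exact congrArg InducedCategory.Hom.hom ((adj.homEquiv ⟨P, hP⟩ Q).symm_apply_apply (ObjectProperty.homMk ψ))

lemma tr_eq_zero [(DCoh.Rpush f).Additive] {P : DCoh.D X} (hP : DCoh.IsQCohD P) {Q : DCoh.DQCoh Y}
    {α : P ⟶ (a.obj Q).obj} (h : tr adj α = 0) : α = 0 :=
  (tr_bijective adj hP Q).1 (h.trans (by simp [tr]))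

end Adj

/-! ### affine base -/

lemma toGlobal_toSpecΓ' (U : Scheme.{u}) (f : Γ(U, ⊤)) : Coh.toGlobal U.toSpecΓ f = f := by
  show U.toSpecΓ.appTop ((Scheme.ΓSpecIso (CommRingCat.of Γ(U, ⊤))).inv _) = _
  rw [Scheme.toSpecΓ_appTop]
  exact congrArg (fun φ => φ.hom f) (Scheme.ΓSpecIso (Γ(U, ⊤))).inv_hom_id

theorem isZero_RD_affine {o : Option ℤ} {X Y : Scheme.{u}} [IsAffine Y] [CompactSpace X] [QuasiSeparatedSpace X]
    (f : X ⟶ Y) [DCoh.HasRpush f] (hfin : Fin' o f) {hf : DCoh.RpushPreservesQCoh f}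
    {a : DCoh.DQCoh Y ⥤ DCoh.DQCoh X} (adj : DCoh.RpushQ f hf ⊣ a) (V : Y.Opens) (Q : DCoh.DQCoh Y)
    (hb : Bdd o Q.obj) (hQV : IsZero ((RD V.ι).obj Q.obj)) :
    IsZero ((RD (f ⁻¹ᵁ V).ι).obj (a.obj Q).obj) := by
  let A := Γ(Y, ⊤)
  letI : Y.Over (Spec (CommRingCat.of A)) := ⟨Y.toSpecΓ⟩
  letI : X.Over (Spec (CommRingCat.of A)) := ⟨f ≫ Y.toSpecΓ⟩
  haveI : f.IsOver (Spec (CommRingCat.of A)) := ⟨rfl⟩
  haveI := additive_rpush f
  haveI := linear_rpush (A := A) f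
  refine (isZero_RD_iff _ _).2 fun i x hx => ?_
  rintro ⟨x', rfl⟩
  have hxV : f.base ((f ⁻¹ᵁ V).ι.base x') ∈ V := x'.2
  obtain ⟨s, hsV, hxs⟩ := (isAffineOpen_top Y).exists_basicOpen_le ⟨_, hxV⟩ trivial
  have hTY : ∀ y : Y, y ∈ (Scheme.zeroLocus Y (U := ⊤) {Coh.toGlobal (Y ↘ Spec (CommRingCat.of A)) s} : Set Y) ↔
      y ∉ Y.basicOpen s := fun y => by
    rw [PerfGen.mem_zeroLocus_iff, show Coh.toGlobal (Y ↘ Spec (CommRingCat.of A)) s = s from toGlobal_toSpecΓ' Y s]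
  have hQs : SuppD (Scheme.zeroLocus Y (U := ⊤) {Coh.toGlobal (Y ↘ Spec (CommRingCat.of A)) s} : Set Y) Q.obj := by
    refine suppD_mono (T := (Set.range V.ι.base)ᶜ) (fun y hy => (hTY y).2 fun hys => hy ?_)
      ((isZero_RD_iff V.ι Q.obj).1 hQV)
    rw [Scheme.Opens.range_ι]
    exact hsV hys
  have hM : SuppD (Scheme.zeroLocus X (U := ⊤) {Coh.toGlobal (X ↘ Spec (CommRingCat.of A)) s} : Set X)
      (a.obj Q).obj := by
    refine suppD_of_torsion s (a.obj Q).property fun P hP α => ?_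
    have hK : ∀ ψ : (DCoh.Rpush f).obj P ⟶ Q.obj, ∃ n : ℕ, (s ^ n) • ψ = 0 := by
      intro ψ
      rcases hfin P hP with hperf | ⟨ho, hpc⟩
      · exact exists_pow_smul_eq_zero s hperf Q.property hQs ψ
      · obtain ⟨c, rfl⟩ := Option.isSome_iff_exists.1 ho
        obtain ⟨r, hr⟩ := hasApprox Y Set.univ isClosed_univ (by simp)
        have hq : DCoh.IsQCohD ((DCoh.Rpush f).obj P) := hf P (isQCohD_of_isPerfect hP)
        obtain ⟨P₀, C, g, w, d, hT, hP₀, hC⟩ := hr (c - 1) _ hq (hpc _) (fun i _ => Set.subset_univ _)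
        obtain ⟨n, hn⟩ := exists_pow_smul_eq_zero s hP₀.1 Q.property hQs (g ≫ ψ)
        refine ⟨n, ?_⟩
        obtain ⟨χ, hχ⟩ := Triangle.yoneda_exact₂ _ hT ((s ^ n) • ψ) (by
          show g ≫ ((s ^ n) • ψ) = 0
          rwa [Linear.comp_smul])
        rw [hχ]
        have : χ = 0 := eq_zero_of_le_ge (a := c - 2) (b := c) (by omega) (fun i hi => hC i (by omega))
          (fun i hi => hb c rfl i hi) χ
        rw [this, comp_zero]
    obtain ⟨n, hn⟩ := hK (tr adj α)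
    refine ⟨n, tr_eq_zero adj (isQCohD_of_isPerfect hP) ?_⟩
    simp only [tr] at hn ⊢
    rw [Functor.map_smul, Linear.smul_comp, hn]
  refine ((PerfGen.mem_zeroLocus_iff s _).1 (hM i hx)) ?_
  have : Coh.toGlobal (X ↘ Spec (CommRingCat.of A)) s = f.appTop s := by
    show Coh.toGlobal (f ≫ Y.toSpecΓ) s = _
    rw [KLin.toGlobal_comp, toGlobal_toSpecΓ']
  rw [this]
  show (f ⁻¹ᵁ V).ι.base x' ∈ X.basicOpen (f.app ⊤ s)
  rw [← Scheme.preimage_basicOpen]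
  exact hxs

/-! ### restriction of the bound -/

lemma bdd_RD {o : Option ℤ} {Z V : Scheme.{u}} (j : V ⟶ Z) [IsOpenImmersion j] {M : DCoh.D Z} (h : Bdd o M) :
    Bdd o ((RD j).obj M) := fun c hc i hi =>
  ((Scheme.Modules.restrictFunctor j).map_isZero (h c hc i hi)).of_iso (hdRD j M i)

lemma bdd_rpush {o : Option ℤ} {Z V : Scheme.{u}} (g : V ⟶ Z) [DCoh.HasRpush g] {M : DCoh.D V} (h : Bdd o M) :
    Bdd o ((DCoh.Rpush g).obj M) := fun c hc i hi => by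
  haveI : M.IsGE c := (DerivedCategory.isGE_iff M c).2 (h c hc)
  haveI := DQPush.isGE_rpush g M c
  exact DerivedCategory.isZero_of_isGE _ c i hi

lemma bdd_obj₁ {o : Option ℤ} {Z : Scheme.{u}} (T : Triangle (DCoh.D Z)) (hT : T ∈ distTriang (DCoh.D Z))
    (h₂ : Bdd o T.obj₂) (h₃ : Bdd o T.obj₃) : Bdd o T.obj₁ := fun c hc i hi =>
  (DerivedCategory.HomologySequence.exact₁ _ hT (i - 1) i (by omega)).isZero_X₂
    ((h₃ c hc (i - 1) (by omega)).eq_of_src _ _) ((h₂ c hc i hi).eq_of_tgt _ _)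

/-! ### general base -/

section General

variable {o : Option ℤ} {X Y : Scheme.{u}} [CompactSpace Y] [QuasiSeparatedSpace Y] (f : X ⟶ Y) [QuasiCompact f]
  [QuasiSeparated f] [DCoh.HasRpush f] {hf : DCoh.RpushPreservesQCoh f} {a : DCoh.DQCoh Y ⥤ DCoh.DQCoh X}
  (adj : DCoh.RpushQ f hf ⊣ a)

include adj in
/-- direct images from an affine open -/
theorem killOn_openPush (hfin : Fin' o f) (V : Y.Opens) (hV : IsCompact ((f ⁻¹ᵁ V : X.Opens) : Set X))
    (W : Y.Opens) (hW : IsAffineOpen W) (R : DCoh.DQCoh Y) (M : DCoh.D W) (hMq : DCoh.IsQCohD M)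
    (e : R.obj ≅ (DCoh.Rpush W.ι).obj M) (hMb : Bdd o M) (hMV : IsZero ((RD (W.ι ⁻¹ᵁ V).ι).obj M))
    {P : DCoh.D X} (hP : DCoh.IsPerfect P) (α : P ⟶ (a.obj R).obj) : KillOn (f ⁻¹ᵁ V) α := by
  haveI : IsAffine (W : Scheme.{u}) := hW
  haveI : CompactSpace X := QuasiCompact.compactSpace_of_compactSpace f
  haveI : QuasiSeparatedSpace X := quasiSeparatedSpace_of_quasiSeparated f
  haveI : DCoh.HasRpush (f ∣_ W) := hasRpush' _
  haveI : QuasiCompact (f ∣_ W) := MorphismProperty.of_isPullback (isPullback_morphismRestrict f W).flip ‹_›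
  haveI : QuasiSeparated (f ∣_ W) := MorphismProperty.of_isPullback (isPullback_morphismRestrict f W).flip ‹_›
  haveI : CompactSpace (f ⁻¹ᵁ W) := QuasiCompact.compactSpace_of_compactSpace (f ∣_ W)
  haveI : QuasiCompact (f ⁻¹ᵁ W).ι := quasiCompact_of_compactSpace _
  haveI : QuasiSeparatedSpace (f ⁻¹ᵁ W) := quasiSeparatedSpace_of_quasiSeparated (f ⁻¹ᵁ W).ι
  haveI := additive_rpush f
  haveI := additive_rpush (f ∣_ W)
  let hW' : ∀ K : DCoh.D (f ⁻¹ᵁ W), DCoh.IsQCohD K → DCoh.IsQCohD ((DCoh.Rpush (f ∣_ W)).obj K) :=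
    fun K hK => DQPush.isQCohD_rpush (f ∣_ W) hK
  haveI := isLeftAdjoint_rpushQ (f ∣_ W) hW'
  let aW := (DCoh.RpushQ (f ∣_ W) hW').rightAdjoint
  let adjW : DCoh.RpushQ (f ∣_ W) hW' ⊣ aW := Adjunction.ofIsLeftAdjoint _
  let r := DQPush.rpushRestrIso f W
  let M₀ : DCoh.DQCoh W := ⟨M, hMq⟩
  let τ : ∀ {E : DCoh.D X}, (E ⟶ (a.obj R).obj) → ((DCoh.Rpush (f ∣_ W)).obj ((RD (f ⁻¹ᵁ W).ι).obj E) ⟶ M) :=
    fun {E} γ => r.inv.app E ≫ ((adjR W.ι).homEquiv _ _).symm (tr adj γ ≫ e.hom)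
  have hτ : ∀ {E E' : DCoh.D X} (β : E' ⟶ E) (γ : E ⟶ (a.obj R).obj),
      τ (β ≫ γ) = (DCoh.Rpush (f ∣_ W)).map ((RD (f ⁻¹ᵁ W).ι).map β) ≫ τ γ := fun {E E'} β γ => by
    simp only [τ]
    rw [tr_comp, Category.assoc, Adjunction.homEquiv_naturality_left_symm, ← Category.assoc, ← Category.assoc]
    exact congrArg (· ≫ _) (r.inv.naturality β).symm
  obtain ⟨αW, hαW⟩ := (tr_bijective adjW (isQCohD_RD _ (isQCohD_of_isPerfect hP)) M₀).2 (τ α)
  have hN : IsZero ((RD (f ⁻¹ᵁ V).ι).obj ((DCoh.Rpush (f ⁻¹ᵁ W).ι).obj (aW.obj M₀).obj)) := by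
    have h1 := isZero_RD_affine (f ∣_ W) (fin'_restrict f hfin W (isCompact_iff_compactSpace.2 ‹_›)) adjW
      (W.ι ⁻¹ᵁ V) M₀ hMb hMV
    refine (isZero_RD_iff _ _).2 ?_
    rw [Scheme.Opens.range_ι]
    refine suppD_rpush _ (f ⁻¹ᵁ V).2.isClosed_compl (suppD_mono ?_ ((isZero_RD_iff _ _).1 h1))
    rw [Scheme.Opens.range_ι]
    intro x hx hx'
    refine hx ?_
    show ((f ∣_ W) ≫ W.ι).base x ∈ V
    rw [morphismRestrict_ι]
    exact hx'
  obtain ⟨P', β, hP', hβ, hk⟩ := killOn_of_isZero_RD (f ⁻¹ᵁ V) hV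
    (DQPush.isQCohD_rpush _ (aW.obj M₀).property) hN hP ((adjR (f ⁻¹ᵁ W).ι).homEquiv _ _ αW)
  refine ⟨P', β, hP', hβ, tr_eq_zero adj (isQCohD_of_isPerfect hP') ?_⟩
  rw [← Adjunction.homEquiv_naturality_left] at hk
  have hk' : (RD (f ⁻¹ᵁ W).ι).map β ≫ αW = 0 := by
    apply ((adjR (f ⁻¹ᵁ W).ι).homEquiv _ _).injective
    rw [hk, Adjunction.homEquiv_unit, Functor.map_zero, comp_zero]
  have hz : τ (β ≫ α) = 0 := by
    rw [hτ, ← hαW, ← tr_comp, hk']
    simp [tr]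
  simp only [τ] at hz
  rw [← comp_zero (f := r.inv.app P'), cancel_epi] at hz
  have hz' : tr adj (β ≫ α) ≫ e.hom = 0 := by
    rw [← ((adjR W.ι).homEquiv _ _).apply_symm_apply (tr adj (β ≫ α) ≫ e.hom), hz, Adjunction.homEquiv_unit,
      Functor.map_zero, comp_zero]
  exact (cancel_mono e.hom).1 (hz'.trans zero_comp.symm)

set_option maxHeartbeats 1600000 in
include adj in
/-- **the right adjoint respects supports** -/
theorem isZero_RD_adjoint (hfin : Fin' o f) (V : Y.Opens) (Q : DCoh.DQCoh Y) (hb : Bdd o Q.obj)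
    (hQV : IsZero ((RD V.ι).obj Q.obj)) : IsZero ((RD (f ⁻¹ᵁ V).ι).obj (a.obj Q).obj) := by
  haveI : CompactSpace X := QuasiCompact.compactSpace_of_compactSpace f
  haveI : QuasiSeparatedSpace X := quasiSeparatedSpace_of_quasiSeparated f
  haveI := additive_rpush f
  suffices H : ∀ V : Y.Opens, IsAffineOpen V → ∀ Q : DCoh.DQCoh Y, Bdd o Q.obj → IsZero ((RD V.ι).obj Q.obj) →
      IsZero ((RD (f ⁻¹ᵁ V).ι).obj (a.obj Q).obj) by
    refine (isZero_RD_iff _ _).2 fun i x hx hx' => ?_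
    rw [Scheme.Opens.range_ι] at hx'
    obtain ⟨_, ⟨V' : Y.Opens, hV' : IsAffineOpen V', rfl⟩, hxV', hle⟩ :=
      Y.isBasis_affineOpens.exists_subset_of_mem_open (show f.base x ∈ (V : Set Y) from hx') V.2
    have h0 : IsZero ((RD V'.ι).obj Q.obj) := by
      refine (isZero_RD_iff _ _).2 (suppD_mono ?_ ((isZero_RD_iff V.ι Q.obj).1 hQV))
      rw [Scheme.Opens.range_ι, Scheme.Opens.range_ι]
      exact Set.compl_subset_compl.2 hle
    have := (isZero_RD_iff _ _).1 (H V' hV' Q hb h0) i hx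
    rw [Scheme.Opens.range_ι] at this
    exact this hxV'
  clear hQV hb Q V
  intro V hV
  have hUc : IsCompact ((f ⁻¹ᵁ V : X.Opens) : Set X) := f.isCompact_preimage hV.isCompact
  suffices H : ∀ (l : List Y.Opens), (∀ W ∈ l, IsAffineOpen W) → ∀ T : Set Y, IsClosed T →
      (∀ y ∈ T, ∃ W ∈ l, y ∈ W) → ∀ Q : DCoh.DQCoh Y, Bdd o Q.obj → IsZero ((RD V.ι).obj Q.obj) →
      SuppD T Q.obj → ∀ P : DCoh.D X, DCoh.IsPerfect P → ∀ α : P ⟶ (a.obj Q).obj, KillOn (f ⁻¹ᵁ V) α by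
    intro Q hb hQV
    obtain ⟨s, hs, hfin'⟩ : ∃ s : List Y.Opens, (∀ W ∈ s, IsAffineOpen W) ∧ ∀ y : Y, ∃ W ∈ s, y ∈ W := by
      choose W hW hyW using fun y : Y => QC.exists_affine_mem y
      obtain ⟨t, ht⟩ := isCompact_univ.elim_finite_subcover (fun y : Y => (W y : Set Y)) (fun y => (W y).2)
        (fun y _ => Set.mem_iUnion.2 ⟨y, hyW y⟩)
      refine ⟨t.toList.map W, fun V hV => ?_, fun y => ?_⟩
      · obtain ⟨z, -, rfl⟩ := List.mem_map.1 hV; exact hW z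
      · obtain ⟨z, hz, hyz⟩ := Set.mem_iUnion₂.1 (ht (Set.mem_univ y))
        exact ⟨W z, List.mem_map.2 ⟨z, Finset.mem_toList.2 hz, rfl⟩, hyz⟩
    exact isZero_RD_of_killOn _ hUc (a.obj Q).property
      (H s hs Set.univ isClosed_univ (fun y _ => hfin' y) Q hb hQV (suppD_univ _))
  intro l
  induction l with
  | nil =>
    intro _ T _ hT Q _ _ hQT P hP α
    have hQ0 : IsZero Q.obj := isZero_of_suppD_empty (suppD_mono (fun y hy => (hT y hy).elim fun _ h => absurd h.1 (by simp)) hQT)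
    refine ⟨P, 𝟙 P, hP, inferInstance, tr_eq_zero adj (isQCohD_of_isPerfect hP) (hQ0.eq_of_tgt _ _)⟩
  | cons W l ih =>
    intro hl T hTc hT Q hb hQV hQT P hP α
    have hW := hl W List.mem_cons_self
    haveI : IsAffine (W : Scheme.{u}) := hW
    haveI : QuasiCompact W.ι := quasiCompact_of_compactSpace _
    let M := (RD W.ι).obj Q.obj
    have hMq : DCoh.IsQCohD M := isQCohD_RD W.ι Q.property
    let R : DCoh.DQCoh Y := ⟨(DCoh.Rpush W.ι).obj M, DQPush.isQCohD_rpush W.ι hMq⟩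
    obtain ⟨G, g, d, hG⟩ := distinguished_cocone_triangle₁ ((adjR W.ι).unit.app Q.obj)
    have hQq : DCoh.IsQCohD G := isQCohD_obj₁ _ hG Q.property R.property
    let G' : DCoh.DQCoh Y := ⟨G, hQq⟩
    have hGW : IsZero ((RD W.ι).obj G) :=
      (Triangle.isZero₁_iff_isIso₂ _ ((RD W.ι).map_distinguished _ hG)).2 (isIso_map_unit_adjR W.ι Q.obj)
    have hMV : IsZero ((RD (W.ι ⁻¹ᵁ V).ι).obj M) := by
      refine (isZero_RD_iff _ _).2 (suppD_mono ?_ (suppD_RD W.ι ((isZero_RD_iff V.ι Q.obj).1 hQV)))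
      rw [Scheme.Opens.range_ι, Scheme.Opens.range_ι]
      exact fun x hx h => hx h
    have hRV : IsZero ((RD V.ι).obj R.obj) := by
      refine (isZero_RD_iff _ _).2 ?_
      rw [Scheme.Opens.range_ι]
      refine suppD_rpush _ V.2.isClosed_compl (suppD_mono ?_ ((isZero_RD_iff _ _).1 hMV))
      rw [Scheme.Opens.range_ι]
      exact fun x hx h => hx h
    obtain ⟨P₁, β₁, hP₁, hβ₁, hk₁⟩ := killOn_openPush f adj hfin V hUc W hW R M hMq (Iso.refl _) (bdd_RD W.ι hb)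
      hMV hP (α ≫ (a.map (ObjectProperty.homMk ((adjR W.ι).unit.app Q.obj) : Q ⟶ R)).hom)
    have h0 : tr adj (β₁ ≫ α) ≫ (adjR W.ι).unit.app Q.obj = 0 := by
      have h2 := congrArg (tr adj) hk₁
      rw [← Category.assoc, tr_map] at h2
      exact h2.trans (by simp [tr])
    obtain ⟨χ, hχ⟩ := Triangle.coyoneda_exact₂ _ hG _ h0
    obtain ⟨α', hα'⟩ := (tr_bijective adj (isQCohD_of_isPerfect hP₁) G').2 χ
    have hGV : IsZero ((RD V.ι).obj G) :=
      Triangle.isZero₁_of_isZero₂₃ _ ((RD V.ι).map_distinguished _ hG) hQV hRV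
    have hGT : SuppD (T ∩ (W : Set Y)ᶜ) G := by
      refine suppD_inter (suppD_obj₁ hTc _ hG hQT (suppD_rpush _ hTc (suppD_RD W.ι hQT))) ?_
      have := (isZero_RD_iff W.ι G).1 hGW
      rwa [Scheme.Opens.range_ι] at this
    obtain ⟨P₂, β₂, hP₂, hβ₂, hk₂⟩ := ih (fun V hV => hl V (List.mem_cons_of_mem _ hV)) (T ∩ (W : Set Y)ᶜ)
      (hTc.inter W.2.isClosed_compl) (fun y ⟨hy, hyW⟩ => by
        obtain ⟨V', hV', hyV'⟩ := hT y hy
        rcases List.mem_cons.1 hV' with rfl | hV'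
        · exact absurd hyV' hyW
        · exact ⟨V', hV', hyV'⟩)
      G' (bdd_obj₁ _ hG hb (bdd_rpush W.ι (bdd_RD W.ι hb))) hGV hGT P₁ hP₁ α'
    refine ⟨P₂, β₂ ≫ β₁, hP₂, ?_, tr_eq_zero adj (isQCohD_of_isPerfect hP₂) ?_⟩
    · rw [Functor.map_comp]; infer_instance
    · rw [Category.assoc, tr_comp, hχ]
      show (DCoh.Rpush f).map β₂ ≫ χ ≫ g = 0
      rw [← hα', ← Category.assoc, ← tr_comp, hk₂]
      simp [tr]

end General

end Groth.Agent.DCohShriek
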